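import Mathlib
import Cfsg.Prelude.Def_Characters

/-!
# Characters: bridge between representations and `Cfsg.IsCharacter`, closure properties, values

Everything in `Cfsg.Agent.Lib/Characters` lives in `namespace Cfsg.Agent.Characters`.
-/

set_option linter.style.haveILetI false

namespace Cfsg.Agent.Characters

open scoped ComplexConjugate
open Module

universe u v w

variable {G : Type u} [Group G]

/-! ## Transport of representations along linear equivalences -/

section Transport

variable {V : Type v} [AddCommGroup V] [Module ℂ V] {W : Type w} [AddCommGroup W] [Module ℂ W]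

/-- The representation on `W` obtained from one on `V` by conjugating with `e : V ≃ₗ[ℂ] W`. -/
noncomputable def transportRep (e : V ≃ₗ[ℂ] W) (ρ : Representation ℂ G V) :
    Representation ℂ G W :=
  (e.conjAlgEquiv ℂ).toAlgHom.toRingHom.toMonoidHom.comp ρ

theorem transportRep_apply (e : V ≃ₗ[ℂ] W) (ρ : Representation ℂ G V) (g : G) (w : W) :
    transportRep e ρ g w = e (ρ g (e.symm w)) := rfl

/-- A representation is equivalent to each of its transports. -/
noncomputable def transportEquiv (e : V ≃ₗ[ℂ] W) (ρ : Representation ℂ G V) :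
    ρ.Equiv (transportRep e ρ) :=
  Representation.Equiv.mk e fun g => by
    ext v; simp [transportRep_apply]

/-- Equivalent representations have isomorphic lattices of subrepresentations. -/
def subrepOrderIso {ρ : Representation ℂ G V} {σ : Representation ℂ G W} (φ : ρ.Equiv σ) :
    Subrepresentation ρ ≃o Subrepresentation σ where
  toFun U :=
    { toSubmodule := U.toSubmodule.map φ.toLinearEquiv.toLinearMap
      apply_mem_toSubmodule := by
        rintro g _ ⟨v, hv, rfl⟩
        exact ⟨ρ g v, U.apply_mem_toSubmodule g hv, φ.toIntertwiningMap.isIntertwining _ _ g v⟩ }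
  invFun U :=
    { toSubmodule := U.toSubmodule.comap φ.toLinearEquiv.toLinearMap
      apply_mem_toSubmodule := by
        intro g v hv
        show φ.toIntertwiningMap (ρ g v) ∈ U.toSubmodule
        rw [φ.toIntertwiningMap.isIntertwining _ _ g v]
        exact U.apply_mem_toSubmodule g hv }
  left_inv U := Subrepresentation.toSubmodule_injective
    (Submodule.comap_map_eq_of_injective φ.toLinearEquiv.injective _)
  right_inv U := Subrepresentation.toSubmodule_injective
    (Submodule.map_comap_eq_of_surjective φ.toLinearEquiv.surjective _)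
  map_rel_iff' {U U'} := by
    show U.toSubmodule.map φ.toLinearEquiv.toLinearMap ≤
      U'.toSubmodule.map φ.toLinearEquiv.toLinearMap ↔ U ≤ U'
    exact Submodule.map_le_map_iff_of_injective φ.toLinearEquiv.injective _ _

theorem isIrreducible_congr {ρ : Representation ℂ G V} {σ : Representation ℂ G W}
    (φ : ρ.Equiv σ) : ρ.IsIrreducible ↔ σ.IsIrreducible :=
  (subrepOrderIso φ).isSimpleOrder_iff

end Transport

section Bridge

variable {V : Type v} [AddCommGroup V] [Module ℂ V] [FiniteDimensional ℂ V]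

/-- Every finite-dimensional representation is equivalent to one on a coordinate space. -/
theorem exists_equiv_fin (ρ : Representation ℂ G V) :
    ∃ σ : Representation ℂ G (Fin (finrank ℂ V) → ℂ), Nonempty (ρ.Equiv σ) :=
  ⟨_, ⟨transportEquiv (Module.finBasis ℂ V).equivFun ρ⟩⟩

/-- The trace function of any finite-dimensional representation is a character. -/
theorem isCharacter_character (ρ : Representation ℂ G V) :
    Cfsg.IsCharacter G ρ.character := by
  obtain ⟨σ, ⟨φ⟩⟩ := exists_equiv_fin ρ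
  exact ⟨_, σ, (Representation.char_iso φ).symm⟩

/-- The trace function of an irreducible representation is an irreducible character. -/
theorem isIrrCharacter_character (ρ : Representation ℂ G V) [hρ : ρ.IsIrreducible] :
    Cfsg.IsIrrCharacter G ρ.character := by
  obtain ⟨σ, ⟨φ⟩⟩ := exists_equiv_fin ρ
  exact ⟨_, σ, (isIrreducible_congr φ).1 hρ, (Representation.char_iso φ).symm⟩

end Bridge

/-! ## Irreducibility criteria -/

section Irreducible

variable {V : Type v} [AddCommGroup V] [Module ℂ V] (ρ : Representation ℂ G V)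

theorem isIrreducible_iff :
    ρ.IsIrreducible ↔ Nontrivial V ∧
      ∀ U : Submodule ℂ V, (∀ g : G, ∀ v ∈ U, ρ g v ∈ U) → U = ⊥ ∨ U = ⊤ := by
  constructor
  · intro h
    refine ⟨?_, fun U hU => ?_⟩
    · by_contra hn
      rw [not_nontrivial_iff_subsingleton] at hn
      exact bot_ne_top (α := Subrepresentation ρ)
        (Subrepresentation.toSubmodule_injective (Subsingleton.elim _ _))
    · rcases h.eq_bot_or_eq_top ⟨U, fun g v hv => hU g v hv⟩ with h1 | h1
      · exact Or.inl (congrArg Subrepresentation.toSubmodule h1)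
      · exact Or.inr (congrArg Subrepresentation.toSubmodule h1)
  · rintro ⟨hn, h⟩
    have hne : (⊥ : Subrepresentation ρ) ≠ ⊤ := fun e =>
      bot_ne_top (α := Submodule ℂ V) (congrArg Subrepresentation.toSubmodule e)
    exact
      { toNontrivial := ⟨⟨⊥, ⊤, hne⟩⟩
        eq_bot_or_eq_top := fun U =>
          (h U.toSubmodule fun g v hv => U.apply_mem_toSubmodule g hv).imp
            (fun e => Subrepresentation.toSubmodule_injective e)
            (fun e => Subrepresentation.toSubmodule_injective e) }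

theorem nontrivial_of_isIrreducible [h : ρ.IsIrreducible] : Nontrivial V :=
  ((isIrreducible_iff ρ).1 h).1

theorem finrank_pos_of_isIrreducible [FiniteDimensional ℂ V] [ρ.IsIrreducible] :
    0 < finrank ℂ V :=
  haveI := nontrivial_of_isIrreducible ρ
  Module.finrank_pos

theorem isIrreducible_of_finrank_eq_one (h : finrank ℂ V = 1) : ρ.IsIrreducible := by
  haveI : Nontrivial V := Module.nontrivial_of_finrank_eq_succ h
  refine (isIrreducible_iff ρ).2 ⟨inferInstance, fun U _ => ?_⟩
  rcases eq_or_ne U ⊥ with hU | hU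
  · exact Or.inl hU
  haveI : FiniteDimensional ℂ V := Module.finite_of_finrank_eq_succ h
  refine Or.inr (Submodule.eq_top_of_finrank_eq ?_)
  have h1 : finrank ℂ U ≤ 1 := h ▸ Submodule.finrank_le U
  have h2 : finrank ℂ U ≠ 0 := fun h0 => hU (Submodule.finrank_eq_zero.1 h0)
  omega

end Irreducible

/-! ## Basic facts on characters -/

theorem isCharacter_of_isIrr {χ : G → ℂ} (h : Cfsg.IsIrrCharacter G χ) :
    Cfsg.IsCharacter G χ := by
  obtain ⟨n, ρ, _, rfl⟩ := h; exact ⟨n, ρ, rfl⟩

theorem irr_isCharacter (χ : Cfsg.IrrCharacter G) : Cfsg.IsCharacter G (χ : G → ℂ) :=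
  isCharacter_of_isIrr χ.2

theorem char_isClassFunction {χ : G → ℂ} (h : Cfsg.IsCharacter G χ) :
    Cfsg.IsClassFunction G χ := by
  obtain ⟨n, ρ, rfl⟩ := h; exact fun g h => ρ.char_conj g h

theorem rep_isClassFunction {V : Type v} [AddCommGroup V] [Module ℂ V] [FiniteDimensional ℂ V]
    (ρ : Representation ℂ G V) : Cfsg.IsClassFunction G ρ.character :=
  fun g h => ρ.char_conj g h

theorem irr_isClassFunction (χ : Cfsg.IrrCharacter G) : Cfsg.IsClassFunction G (χ : G → ℂ) :=
  char_isClassFunction (irr_isCharacter χ)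

/-- The zero function is a character. -/
theorem isCharacter_zero : Cfsg.IsCharacter G (0 : G → ℂ) :=
  ⟨0, Representation.trivial ℂ G _, by
    ext g
    have : Representation.trivial ℂ G (Fin 0 → ℂ) g = 0 := Subsingleton.elim _ _
    simp [Representation.character, this]⟩

/-- Sums of characters are characters. -/
theorem isCharacter_add {χ ψ : G → ℂ} (hχ : Cfsg.IsCharacter G χ) (hψ : Cfsg.IsCharacter G ψ) :
    Cfsg.IsCharacter G (χ + ψ) := by
  obtain ⟨n, ρ, rfl⟩ := hχ
  obtain ⟨m, σ, rfl⟩ := hψ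
  have h : (ρ.prod σ).character = ρ.character + σ.character := by
    ext g; exact LinearMap.trace_prodMap' (ρ g) (σ g)
  exact h ▸ isCharacter_character (ρ.prod σ)

theorem isCharacter_sum {ι : Type*} (s : Finset ι) (χ : ι → G → ℂ)
    (h : ∀ i ∈ s, Cfsg.IsCharacter G (χ i)) : Cfsg.IsCharacter G (∑ i ∈ s, χ i) :=
  Finset.sum_induction χ _ (fun _ _ => isCharacter_add) isCharacter_zero h

theorem isCharacter_nsmul {χ : G → ℂ} (h : Cfsg.IsCharacter G χ) (n : ℕ) :
    Cfsg.IsCharacter G (n • χ) := by
  induction n with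
  | zero => rw [zero_smul]; exact isCharacter_zero
  | succ n ih => rw [succ_nsmul]; exact isCharacter_add ih h

theorem isCharacter_natSmul {χ : G → ℂ} (h : Cfsg.IsCharacter G χ) (n : ℕ) :
    Cfsg.IsCharacter G ((n : ℂ) • χ) := by
  rw [Nat.cast_smul_eq_nsmul]; exact isCharacter_nsmul h n

/-- Products of characters are characters. -/
theorem isCharacter_mul {χ ψ : G → ℂ} (hχ : Cfsg.IsCharacter G χ) (hψ : Cfsg.IsCharacter G ψ) :
    Cfsg.IsCharacter G (χ * ψ) := by
  obtain ⟨n, ρ, rfl⟩ := hχ
  obtain ⟨m, σ, rfl⟩ := hψ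
  exact Representation.char_tensor ρ σ ▸ isCharacter_character (ρ.tprod σ)

/-- The restriction of a character along a homomorphism is a character. -/
theorem isCharacter_comp {H : Type*} [Group H] (f : H →* G) {χ : G → ℂ}
    (h : Cfsg.IsCharacter G χ) : Cfsg.IsCharacter H (χ ∘ f) := by
  obtain ⟨n, ρ, rfl⟩ := h
  exact isCharacter_character (ρ.comp f : Representation ℂ H _)

theorem isCharacter_restrict (H : Subgroup G) {χ : G → ℂ} (h : Cfsg.IsCharacter G χ) :
    Cfsg.IsCharacter H (fun x : H => χ x) :=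
  isCharacter_comp H.subtype h

theorem classFun_comp {H : Type*} [Group H] (f : H →* G) {χ : G → ℂ}
    (h : Cfsg.IsClassFunction G χ) : Cfsg.IsClassFunction H (χ ∘ f) := fun a b => by
  simp only [Function.comp, map_mul, map_inv]; exact h _ _

theorem classFun_restrict (H : Subgroup G) {χ : G → ℂ} (h : Cfsg.IsClassFunction G χ) :
    Cfsg.IsClassFunction H (fun x : H => χ x) :=
  classFun_comp H.subtype h

/-! ## Linear characters -/

/-- The one-dimensional representation given by a homomorphism `G →* ℂ`. -/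
noncomputable def linRep (f : G →* ℂ) : Representation ℂ G ℂ :=
  (Algebra.lmul ℂ ℂ).toRingHom.toMonoidHom.comp f

theorem linRep_character (f : G →* ℂ) : (linRep f).character = f := by
  ext g
  show LinearMap.trace ℂ ℂ (LinearMap.mulLeft ℂ (f g)) = f g
  rw [show LinearMap.mulLeft ℂ (f g) = f g • (LinearMap.id : ℂ →ₗ[ℂ] ℂ) from
    LinearMap.ext fun x => by simp]
  simp

/-- A homomorphism `G →* ℂ` is an irreducible character. -/
theorem isIrrCharacter_monoidHom (f : G →* ℂ) : Cfsg.IsIrrCharacter G f := by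
  haveI := isIrreducible_of_finrank_eq_one (linRep f) (Module.finrank_self ℂ)
  exact linRep_character f ▸ isIrrCharacter_character (linRep f)

/-- A linear character `lam : G →* ℂˣ` is an irreducible character. -/
theorem isIrrCharacter_linear (lam : G →* ℂˣ) :
    Cfsg.IsIrrCharacter G (fun g => (lam g : ℂ)) :=
  isIrrCharacter_monoidHom ((Units.coeHom ℂ).comp lam)

theorem isCharacter_linear (lam : G →* ℂˣ) : Cfsg.IsCharacter G (fun g => (lam g : ℂ)) :=
  isCharacter_of_isIrr (isIrrCharacter_linear lam)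

/-- The trivial character is irreducible. -/
theorem isIrrCharacter_one : Cfsg.IsIrrCharacter G (fun _ => (1 : ℂ)) :=
  isIrrCharacter_monoidHom (1 : G →* ℂ)

theorem isCharacter_one : Cfsg.IsCharacter G (fun _ => (1 : ℂ)) :=
  isCharacter_of_isIrr isIrrCharacter_one

/-- The trivial irreducible character. -/
def trivIrr (G : Type u) [Group G] : Cfsg.IrrCharacter G := ⟨fun _ => 1, isIrrCharacter_one⟩

@[simp] theorem trivIrr_coe : ((trivIrr G : Cfsg.IrrCharacter G) : G → ℂ) = fun _ => 1 := rfl

/-! ## Eigenvalues and values of characters -/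

section Values

variable [Finite G] {V : Type v} [AddCommGroup V] [Module ℂ V] [FiniteDimensional ℂ V]
  (ρ : Representation ℂ G V)

/-- Each `ρ g` is diagonalisable, with roots of unity as eigenvalues. -/
theorem exists_eigenbasis (g : G) :
    ∃ (b : Basis (Fin (finrank ℂ V)) ℂ V) (w : Fin (finrank ℂ V) → ℂ),
      (∀ i, w i ^ orderOf g = 1) ∧ ∀ i, ρ g (b i) = w i • b i := by
  have hN : 0 < orderOf g := orderOf_pos g
  have hp : Polynomial.aeval (ρ g) (Polynomial.X ^ orderOf g - 1 : Polynomial ℂ) = 0 := by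
    rw [map_sub, map_one, map_pow, Polynomial.aeval_X, ← map_pow ρ g, pow_orderOf_eq_one, map_one,
      sub_self]
  have hss : Module.End.IsSemisimple (ρ g) :=
    Module.End.isSemisimple_of_squarefree_aeval_eq_zero
      (Polynomial.X_pow_sub_one_separable_iff.mpr (by exact_mod_cast hN.ne')).squarefree hp
  have hspan : ⊤ ≤ Submodule.span ℂ {v : V | ∃ μ : ℂ, ρ g v = μ • v} := by
    rw [← hss.iSup_eigenspace_eq_top, iSup_le_iff]
    intro μ v hv
    exact Submodule.subset_span ⟨μ, Module.End.mem_eigenspace_iff.1 hv⟩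
  let b0 := Basis.ofSpan hspan
  haveI : Fintype _ := FiniteDimensional.fintypeBasisIndex b0
  let b := b0.reindex (b0.indexEquiv (Module.finBasis ℂ V))
  have hb : ∀ i, ∃ μ : ℂ, ρ g (b i) = μ • b i := fun i =>
    Basis.ofSpan_subset hspan ⟨(b0.indexEquiv (Module.finBasis ℂ V)).symm i, by
      simp [b, b0, Basis.reindex_apply]⟩
  choose w hw using hb
  refine ⟨b, w, fun i => ?_, hw⟩
  have h1 : ∀ k : ℕ, ((ρ g) ^ k) (b i) = w i ^ k • b i := by
    intro k
    induction k with
    | zero => simp
    | succ k ih => rw [pow_succ', Module.End.mul_apply, ih, map_smul, hw, smul_smul, ← pow_succ]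
  have h2 := h1 (orderOf g)
  rw [← map_pow, pow_orderOf_eq_one, map_one, Module.End.one_apply] at h2
  by_contra hne
  exact b.ne_zero i ((smul_eq_zero.1 (show (w i ^ orderOf g - 1) • b i = 0 by
    rw [sub_smul, one_smul, ← h2, sub_self])).resolve_left (sub_ne_zero.2 hne))

omit [Finite G] [FiniteDimensional ℂ V] in
theorem trace_of_eigenbasis {ι : Type*} [Fintype ι] {f : V →ₗ[ℂ] V} (b : Basis ι ℂ V)
    (w : ι → ℂ) (h : ∀ i, f (b i) = w i • b i) : LinearMap.trace ℂ V f = ∑ i, w i := by
  classical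
  rw [LinearMap.trace_eq_matrix_trace ℂ b f, Matrix.trace]
  simp [Matrix.diag, LinearMap.toMatrix_apply, h]

omit [Finite G] [FiniteDimensional ℂ V] in
theorem apply_pow_eigenbasis {ι : Type*} {g : G} (b : Basis ι ℂ V) (w : ι → ℂ)
    (h : ∀ i, ρ g (b i) = w i • b i) (k : ℕ) (i : ι) : ρ (g ^ k) (b i) = w i ^ k • b i := by
  induction k with
  | zero => simp
  | succ k ih =>
    rw [pow_succ', map_mul, Module.End.mul_apply, ih, map_smul, h, smul_smul, ← pow_succ]

/-- `χ(g^k) = ∑ wᵢ^k` for roots of unity `wᵢ`. -/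
theorem exists_rootsOfUnity_sum (g : G) :
    ∃ w : Fin (finrank ℂ V) → ℂ, (∀ i, w i ^ orderOf g = 1) ∧
      ∀ k : ℕ, ρ.character (g ^ k) = ∑ i, w i ^ k := by
  obtain ⟨b, w, hw, h⟩ := exists_eigenbasis ρ g
  exact ⟨w, hw, fun k => trace_of_eigenbasis b _ (apply_pow_eigenbasis ρ b w h k)⟩

theorem rep_value_isIntegral (g : G) : IsIntegral ℤ (ρ.character g) := by
  obtain ⟨w, hw, h⟩ := exists_rootsOfUnity_sum ρ g
  have h1 := h 1
  simp only [pow_one] at h1
  rw [h1]
  exact IsIntegral.sum _ fun i _ => IsIntegral.of_pow (orderOf_pos g) (hw i ▸ isIntegral_one)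

theorem rep_char_inv (g : G) : ρ.character g⁻¹ = conj (ρ.character g) := by
  obtain ⟨w, hw, h⟩ := exists_rootsOfUnity_sum ρ g
  have hN : 0 < orderOf g := orderOf_pos g
  have h1 := h 1
  simp only [pow_one] at h1
  have hg : g⁻¹ = g ^ (orderOf g - 1) := by
    rw [inv_eq_iff_mul_eq_one, ← pow_succ', Nat.sub_add_cancel hN, pow_orderOf_eq_one]
  rw [hg, h, h1, map_sum]
  refine Finset.sum_congr rfl fun i _ => ?_
  rw [← Complex.inv_eq_conj (Complex.norm_eq_one_of_pow_eq_one (hw i) hN.ne')]
  apply eq_inv_of_mul_eq_one_left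
  rw [← pow_succ, Nat.sub_add_cancel hN, hw i]

theorem rep_norm_le (g : G) : ‖ρ.character g‖ ≤ (finrank ℂ V : ℝ) := by
  obtain ⟨w, hw, h⟩ := exists_rootsOfUnity_sum ρ g
  have h1 := h 1
  simp only [pow_one] at h1
  rw [h1]
  refine (norm_sum_le _ _).trans (le_of_eq ?_)
  simp [fun i => Complex.norm_eq_one_of_pow_eq_one (hw i) (orderOf_pos g).ne']

theorem rep_apply_eq_smul_of_norm_eq (g : G) (hg : ‖ρ.character g‖ = (finrank ℂ V : ℝ)) :
    ∃ ω : ℂ, ρ g = ω • (LinearMap.id : V →ₗ[ℂ] V) := by
  obtain ⟨b, w, hw, h⟩ := exists_eigenbasis ρ g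
  have h1 : ρ.character g = ∑ i, w i := trace_of_eigenbasis b w h
  have hn : ∀ i, ‖w i‖ = 1 := fun i =>
    Complex.norm_eq_one_of_pow_eq_one (hw i) (orderOf_pos g).ne'
  rw [h1] at hg
  set S := ∑ i, w i with hS
  by_cases hd : finrank ℂ V = 0
  · haveI := Module.finrank_zero_iff (R := ℂ) (M := V) |>.1 hd
    exact ⟨1, Subsingleton.elim _ _⟩
  set u : ℂ := conj (S / (finrank ℂ V : ℂ))
  have hu : ‖u‖ = 1 := by
    rw [Complex.norm_conj, norm_div, hg, Complex.norm_natCast, div_self]
    exact_mod_cast hd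
  have hsum : ∑ i, (u * w i).re = (finrank ℂ V : ℝ) := by
    have hd' : (finrank ℂ V : ℂ) ≠ 0 := by exact_mod_cast hd
    have huS : u * S = (finrank ℂ V : ℂ) := by
      simp only [u, map_div₀, map_natCast]
      rw [div_mul_eq_mul_div, Complex.conj_mul', hg]
      push_cast
      rw [sq, mul_div_assoc, div_self hd', mul_one]
    rw [← Complex.re_sum, ← Finset.mul_sum, ← hS, huS, Complex.natCast_re]
  have hall : ∀ i, u * w i = 1 := by
    intro i
    have hle : ∀ j, (u * w j).re ≤ 1 := fun j =>
      (Complex.re_le_norm _).trans_eq (by rw [norm_mul, hu, hn, mul_one])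
    have heq : (u * w i).re = 1 := by
      refine le_antisymm (hle i) ?_
      by_contra hlt
      push Not at hlt
      have := Finset.sum_lt_sum (fun j _ => hle j) ⟨i, Finset.mem_univ i, hlt⟩
      rw [hsum] at this
      simp at this
    have him : (u * w i).im = 0 := by
      have h2 := Complex.sq_norm_sub_sq_re (u * w i)
      rw [norm_mul, hu, hn, heq] at h2
      nlinarith
    exact Complex.ext (by simp [heq]) (by simp [him])
  refine ⟨u⁻¹, b.ext fun i => ?_⟩
  rw [h i, LinearMap.smul_apply, LinearMap.id_apply, eq_inv_of_mul_eq_one_right (hall i)]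

theorem rep_apply_eq_id_of_char_eq (g : G) (hg : ρ.character g = (finrank ℂ V : ℂ)) :
    ρ g = LinearMap.id := by
  obtain ⟨ω, hω⟩ := rep_apply_eq_smul_of_norm_eq ρ g (by rw [hg, Complex.norm_natCast])
  rcases eq_or_ne (finrank ℂ V) 0 with hd | hd
  · haveI := Module.finrank_zero_iff (R := ℂ) (M := V) |>.1 hd
    exact Subsingleton.elim _ _
  · have : ω * (finrank ℂ V : ℂ) = 1 * (finrank ℂ V : ℂ) := by
      rw [one_mul]
      conv_rhs => rw [← hg]
      simp [Representation.character, hω]
    rw [hω, mul_right_cancel₀ (by exact_mod_cast hd) this, one_smul]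

end Values

section ValuesFun

variable [Finite G] {χ : G → ℂ}

theorem char_inv (h : Cfsg.IsCharacter G χ) (g : G) : χ g⁻¹ = conj (χ g) := by
  obtain ⟨n, ρ, rfl⟩ := h; exact rep_char_inv ρ g

theorem char_value_isIntegral (h : Cfsg.IsCharacter G χ) (g : G) : IsIntegral ℤ (χ g) := by
  obtain ⟨n, ρ, rfl⟩ := h; exact rep_value_isIntegral ρ g

omit [Finite G] in
theorem char_one_nat (h : Cfsg.IsCharacter G χ) : ∃ n : ℕ, χ 1 = (n : ℂ) := by
  obtain ⟨n, ρ, rfl⟩ := h; exact ⟨_, ρ.char_one⟩

theorem char_norm_le (h : Cfsg.IsCharacter G χ) (g : G) : ‖χ g‖ ≤ ‖χ 1‖ := by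
  obtain ⟨n, ρ, rfl⟩ := h
  rw [ρ.char_one, Complex.norm_natCast]; exact rep_norm_le ρ g

omit [Finite G] in
theorem irr_one_pos (h : Cfsg.IsIrrCharacter G χ) : ∃ n : ℕ, 0 < n ∧ χ 1 = (n : ℂ) := by
  obtain ⟨n, ρ, hρ, rfl⟩ := h
  exact ⟨_, finrank_pos_of_isIrreducible ρ, ρ.char_one⟩

omit [Finite G] in
theorem irr_one_ne_zero (h : Cfsg.IsIrrCharacter G χ) : χ 1 ≠ 0 := by
  obtain ⟨n, hn, he⟩ := irr_one_pos h
  rw [he]; exact_mod_cast hn.ne'

/-- Characters are multiplicative along the kernel: `χ g = χ 1` implies `χ (g * x) = χ x`. -/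
theorem char_mul_of_eq_one (h : Cfsg.IsCharacter G χ) {g : G} (hg : χ g = χ 1) (x : G) :
    χ (g * x) = χ x := by
  obtain ⟨n, ρ, rfl⟩ := h
  rw [ρ.char_one] at hg
  have := rep_apply_eq_id_of_char_eq ρ g hg
  simp [Representation.character, map_mul, this, Module.End.mul_eq_comp]

/-- A character of degree one is multiplicative. -/
theorem char_mul_of_degree_one (h : Cfsg.IsCharacter G χ) (h1 : χ 1 = 1) (x y : G) :
    χ (x * y) = χ x * χ y := by
  obtain ⟨n, ρ, rfl⟩ := h
  have hd : finrank ℂ (Fin n → ℂ) = 1 := by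
    have := ρ.char_one; rw [h1] at this; exact_mod_cast this.symm
  obtain ⟨ω, hω⟩ : ∃ ω : ℂ, ρ x = ω • LinearMap.id := by
    obtain ⟨b, w, _, hb⟩ := exists_eigenbasis ρ x
    refine ⟨w ⟨0, by omega⟩, b.ext fun i => ?_⟩
    rw [hb i]
    have : i = ⟨0, by omega⟩ := by ext; have := i.2; simp; omega
    subst this; rfl
  simp [Representation.character, map_mul, hω, hd, Module.End.mul_eq_comp]

end ValuesFun

end Cfsg.Agent.Characters
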