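import Mathlib
import Cfsg.Agent.Lib.Characters.Basic

/-!
# Subrepresentations, complements and Schur's lemma over `ℂ`
-/

set_option linter.style.haveILetI false

namespace Cfsg.Agent.Characters

open Module

universe u v w

variable {G : Type u} [Group G] {V : Type v} [AddCommGroup V] [Module ℂ V]

/-- `U` is invariant under the representation `ρ`. -/
def IsInvariantUnder (ρ : Representation ℂ G V) (U : Submodule ℂ V) : Prop :=
  ∀ g : G, ∀ v ∈ U, ρ g v ∈ U

/-- The representation on an invariant submodule. -/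
def subRep (ρ : Representation ℂ G V) (U : Submodule ℂ V) (hU : IsInvariantUnder ρ U) :
    Representation ℂ G U :=
  (⟨U, fun g _ hv => hU g _ hv⟩ : Subrepresentation ρ).toRepresentation

@[simp] theorem subRep_apply_coe (ρ : Representation ℂ G V) (U : Submodule ℂ V)
    (hU : IsInvariantUnder ρ U) (g : G) (v : U) :
    ((subRep ρ U hU g v : U) : V) = ρ g (v : V) := rfl

theorem isInvariantUnder_inf {ρ : Representation ℂ G V} {U U' : Submodule ℂ V}
    (h : IsInvariantUnder ρ U) (h' : IsInvariantUnder ρ U') : IsInvariantUnder ρ (U ⊓ U') :=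
  fun g v hv => ⟨h g v hv.1, h' g v hv.2⟩

theorem isInvariantUnder_ker {W : Type w} [AddCommGroup W] [Module ℂ W]
    {ρ : Representation ℂ G V} {σ : Representation ℂ G W} (T : V →ₗ[ℂ] W)
    (hT : ∀ g v, T (ρ g v) = σ g (T v)) : IsInvariantUnder ρ (LinearMap.ker T) := fun g v hv => by
  rw [LinearMap.mem_ker] at hv ⊢; rw [hT, hv, map_zero]

theorem isInvariantUnder_range {W : Type w} [AddCommGroup W] [Module ℂ W]
    {ρ : Representation ℂ G V} {σ : Representation ℂ G W} (T : V →ₗ[ℂ] W)
    (hT : ∀ g v, T (ρ g v) = σ g (T v)) : IsInvariantUnder σ (LinearMap.range T) := by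
  rintro g _ ⟨v, rfl⟩; exact ⟨ρ g v, hT g v⟩

/-- Maschke: invariant submodules have invariant complements. -/
theorem exists_invariant_compl [Finite G] (ρ : Representation ℂ G V) {U : Submodule ℂ V}
    (hU : IsInvariantUnder ρ U) : ∃ U', IsInvariantUnder ρ U' ∧ IsCompl U U' := by
  haveI : NeZero (Nat.card G : ℂ) := ⟨Nat.cast_ne_zero.2 Nat.card_pos.ne'⟩
  obtain ⟨C, hC⟩ := exists_isCompl (⟨U, fun g _ hv => hU g _ hv⟩ : Subrepresentation ρ)
  refine ⟨C.toSubmodule, fun g v hv => C.apply_mem_toSubmodule g hv, ?_, ?_⟩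
  · rw [disjoint_iff]
    exact congrArg Subrepresentation.toSubmodule hC.inf_eq_bot
  · rw [codisjoint_iff]
    exact congrArg Subrepresentation.toSubmodule hC.sup_eq_top

/-- A non-zero invariant submodule contains an irreducible one. -/
theorem exists_irreducible_le [FiniteDimensional ℂ V] (ρ : Representation ℂ G V)
    {C : Submodule ℂ V} (hC : IsInvariantUnder ρ C) (hne : C ≠ ⊥) :
    ∃ (U : Submodule ℂ V) (hU : IsInvariantUnder ρ U),
      U ≤ C ∧ U ≠ ⊥ ∧ (subRep ρ U hU).IsIrreducible := by
  classical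
  have hex : ∃ n, ∃ U, IsInvariantUnder ρ U ∧ U ≤ C ∧ U ≠ ⊥ ∧ finrank ℂ U = n :=
    ⟨_, C, hC, le_rfl, hne, rfl⟩
  obtain ⟨U, hU, hle, hU0, hn⟩ := Nat.find_spec hex
  refine ⟨U, hU, hle, hU0, (isIrreducible_iff _).2 ⟨Submodule.nontrivial_iff_ne_bot.2 hU0, ?_⟩⟩
  intro W hW
  by_cases hW0 : W = ⊥
  · exact Or.inl hW0
  refine Or.inr ?_
  have hWinv : IsInvariantUnder ρ (W.map U.subtype) := by
    rintro g _ ⟨v, hv, rfl⟩
    exact ⟨_, hW g v hv, rfl⟩
  have hWle : W.map U.subtype ≤ U := Submodule.map_subtype_le U W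
  have hW0' : W.map U.subtype ≠ ⊥ := fun h =>
    hW0 (Submodule.map_injective_of_injective U.injective_subtype (by simpa using h))
  have hmin := Nat.find_min' hex ⟨_, hWinv, hWle.trans hle, hW0', rfl⟩
  have := Submodule.eq_of_le_of_finrank_le hWle (by omega)
  exact Submodule.map_injective_of_injective U.injective_subtype (by simpa using this)

/-- Two-sided trace additivity along an invariant decomposition. -/
theorem character_eq_add_of_isCompl [FiniteDimensional ℂ V] (ρ : Representation ℂ G V)
    {U U' : Submodule ℂ V} (hU : IsInvariantUnder ρ U) (hU' : IsInvariantUnder ρ U')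
    (h : IsCompl U U') :
    ρ.character = (subRep ρ U hU).character + (subRep ρ U' hU').character := by
  have φ : ((subRep ρ U hU).prod (subRep ρ U' hU')).Equiv ρ :=
    Representation.Equiv.mk (U.prodEquivOfIsCompl U' h) fun g => by
      ext v <;> simp [Representation.prod]
  rw [← Representation.char_iso φ]
  ext g
  exact LinearMap.trace_prodMap' (subRep ρ U hU g) (subRep ρ U' hU' g)

/-- Schur's lemma over `ℂ`. -/
theorem schur_scalar [FiniteDimensional ℂ V] (ρ : Representation ℂ G V) [hρ : ρ.IsIrreducible]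
    (T : V →ₗ[ℂ] V) (hT : ∀ g v, T (ρ g v) = ρ g (T v)) :
    ∃ c : ℂ, T = c • LinearMap.id := by
  haveI := nontrivial_of_isIrreducible ρ
  obtain ⟨μ, hμ⟩ := Module.End.exists_eigenvalue T
  refine ⟨μ, ?_⟩
  have hinv : IsInvariantUnder ρ (Module.End.eigenspace T μ) := fun g v hv => by
    rw [Module.End.mem_eigenspace_iff] at hv ⊢
    rw [hT, hv, map_smul]
  rcases ((isIrreducible_iff ρ).1 hρ).2 _ hinv with h | h
  · exact absurd h hμ
  · ext v
    have : v ∈ Module.End.eigenspace T μ := h ▸ Submodule.mem_top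
    simpa using Module.End.mem_eigenspace_iff.1 this

/-- A linear combination of the `ρ g` with class-function coefficients commutes with `ρ`. -/
theorem sum_smul_comm [Fintype G] (ρ : Representation ℂ G V) {f : G → ℂ}
    (hf : Cfsg.IsClassFunction G f) (h : G) (v : V) :
    (∑ g : G, f g • ρ g) (ρ h v) = ρ h ((∑ g : G, f g • ρ g) v) := by
  simp only [LinearMap.sum_apply, LinearMap.smul_apply, map_sum, map_smul]
  refine (Fintype.sum_equiv (MulAut.conj h).toEquiv _ _ fun g => ?_).symm
  simp only [MulEquiv.toEquiv_eq_coe, MulEquiv.coe_toEquiv, MulAut.conj_apply, hf g h]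
  rw [← Module.End.mul_apply, ← Module.End.mul_apply, ← map_mul, ← map_mul]
  simp [mul_assoc]

/-- The trace of `∑ g, f g • ρ g`. -/
theorem trace_sum_smul [Fintype G] (ρ : Representation ℂ G V) (f : G → ℂ) :
    LinearMap.trace ℂ V (∑ g : G, f g • ρ g) = ∑ g : G, f g * ρ.character g := by
  simp [Representation.character]

/-! ## Permutation representations -/

/-- The representation of `G` on functions on a `G`-set. -/
def funRep (G : Type u) [Group G] (X : Type w) [MulAction G X] :
    Representation ℂ G (X → ℂ) where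
  toFun g := LinearMap.funLeft ℂ ℂ fun x : X => g⁻¹ • x
  map_one' := by ext φ x; simp
  map_mul' g h := by ext φ x; simp [mul_smul]

@[simp] theorem funRep_apply (X : Type w) [MulAction G X] (g : G) (φ : X → ℂ) (x : X) :
    funRep G X g φ x = φ (g⁻¹ • x) := rfl

theorem funRep_character (X : Type w) [MulAction G X] [Finite X] (g : G) :
    (funRep G X).character g = (Nat.card (MulAction.fixedBy X g) : ℂ) := by
  classical
  haveI := Fintype.ofFinite X
  rw [Representation.character, LinearMap.trace_eq_matrix_trace ℂ (Pi.basisFun ℂ X),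
    Matrix.trace]
  simp only [Matrix.diag, LinearMap.toMatrix_apply, Pi.basisFun_apply, Pi.basisFun_repr,
    funRep_apply, Pi.single_apply]
  rw [Finset.sum_boole, Nat.card_eq_fintype_card, Fintype.card_subtype]
  congr 2
  ext x
  simp [MulAction.mem_fixedBy, eq_inv_smul_iff, eq_comm]

/-- Permutation characters are characters. -/
theorem isCharacter_permChar (X : Type w) [MulAction G X] [Finite X] :
    Cfsg.IsCharacter G fun g => (Nat.card (MulAction.fixedBy X g) : ℂ) := by
  have h : (funRep G X).character = fun g => (Nat.card (MulAction.fixedBy X g) : ℂ) :=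
    funext (funRep_character X)
  exact h ▸ isCharacter_character (funRep G X)

/-- A `G`-equivariant combination vanishing on every irreducible is zero. -/
theorem sum_smul_eq_zero [Fintype G] [FiniteDimensional ℂ V] (ρ : Representation ℂ G V)
    {f : G → ℂ} (hf : Cfsg.IsClassFunction G f)
    (h : ∀ χ : G → ℂ, Cfsg.IsIrrCharacter G χ → ∑ g : G, f g * χ g = 0) :
    ∑ g : G, f g • ρ g = 0 := by
  set T : V →ₗ[ℂ] V := ∑ g : G, f g • ρ g with hT
  have hker := isInvariantUnder_ker (ρ := ρ) (σ := ρ) T (sum_smul_comm ρ hf)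
  obtain ⟨C, hC, hcompl⟩ := exists_invariant_compl ρ hker
  suffices hC0 : C = ⊥ by
    have := hcompl.sup_eq_top
    rw [hC0, sup_bot_eq] at this
    exact LinearMap.ker_eq_top.1 this
  by_contra hne
  obtain ⟨U, hU, hle, hU0, hirr⟩ := exists_irreducible_le ρ hC hne
  haveI := hirr
  set σ := subRep ρ U hU
  obtain ⟨c, hc⟩ := schur_scalar σ (∑ g : G, f g • σ g) (sum_smul_comm σ hf)
  have htr := trace_sum_smul σ f
  rw [hc, h _ (isIrrCharacter_character σ), map_smul, LinearMap.trace_id, smul_eq_mul,
    mul_eq_zero] at htr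
  have hc0 : c = 0 := htr.resolve_right
    (Nat.cast_ne_zero.2 (finrank_pos_of_isIrreducible σ).ne')
  refine hU0 (le_bot_iff.1 fun v hv => ?_)
  have : v ∈ LinearMap.ker T := by
    have := congrArg (fun L : U →ₗ[ℂ] U => ((L ⟨v, hv⟩ : U) : V)) hc
    simpa [hc0, T, σ, LinearMap.sum_apply] using this
  exact hcompl.disjoint.le_bot ⟨this, hle hv⟩

end Cfsg.Agent.Characters
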