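import Mathlib
import Cfsg.Agent.Lib.Characters.Schur

/-!
# The inner product: both orthogonality relations, completeness, decomposition
-/

set_option linter.style.haveILetI false

namespace Cfsg.Agent.Characters

open Module
open scoped ComplexConjugate

universe u v w

variable {G : Type u} [Group G]

section Inner

variable [Fintype G]

theorem classInner_def (φ ψ : G → ℂ) :
    Cfsg.classInner φ ψ = (Nat.card G : ℂ)⁻¹ * ∑ g : G, φ g * conj (ψ g) := rfl

theorem natCard_ne_zero : (Nat.card G : ℂ) ≠ 0 := Nat.cast_ne_zero.2 Nat.card_pos.ne'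

theorem classInner_add_left (φ φ' ψ : G → ℂ) :
    Cfsg.classInner (φ + φ') ψ = Cfsg.classInner φ ψ + Cfsg.classInner φ' ψ := by
  simp [classInner_def, add_mul, Finset.sum_add_distrib, mul_add]

theorem classInner_add_right (φ ψ ψ' : G → ℂ) :
    Cfsg.classInner φ (ψ + ψ') = Cfsg.classInner φ ψ + Cfsg.classInner φ ψ' := by
  simp [classInner_def, mul_add, Finset.sum_add_distrib]

theorem classInner_smul_left (c : ℂ) (φ ψ : G → ℂ) :
    Cfsg.classInner (c • φ) ψ = c * Cfsg.classInner φ ψ := by
  simp only [classInner_def, Pi.smul_apply, smul_eq_mul, mul_assoc, ← Finset.mul_sum]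
  ring

theorem classInner_smul_right (c : ℂ) (φ ψ : G → ℂ) :
    Cfsg.classInner φ (c • ψ) = conj c * Cfsg.classInner φ ψ := by
  simp only [classInner_def, Pi.smul_apply, smul_eq_mul, map_mul]
  rw [mul_left_comm, Finset.mul_sum (a := conj c)]
  congr 1
  exact Finset.sum_congr rfl fun g _ => by ring

theorem classInner_conj_symm (φ ψ : G → ℂ) :
    Cfsg.classInner ψ φ = conj (Cfsg.classInner φ ψ) := by
  simp [classInner_def, map_sum, mul_comm]

theorem classInner_sub_left (φ φ' ψ : G → ℂ) :
    Cfsg.classInner (φ - φ') ψ = Cfsg.classInner φ ψ - Cfsg.classInner φ' ψ := by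
  simp [classInner_def, sub_mul, Finset.sum_sub_distrib, mul_sub]

theorem classInner_sub_right (φ ψ ψ' : G → ℂ) :
    Cfsg.classInner φ (ψ - ψ') = Cfsg.classInner φ ψ - Cfsg.classInner φ ψ' := by
  simp [classInner_def, mul_sub, Finset.sum_sub_distrib]

theorem classInner_neg_left (φ ψ : G → ℂ) :
    Cfsg.classInner (-φ) ψ = -Cfsg.classInner φ ψ := by
  simp [classInner_def]

@[simp] theorem classInner_zero_left (ψ : G → ℂ) : Cfsg.classInner 0 ψ = 0 := by
  simp [classInner_def]

@[simp] theorem classInner_zero_right (φ : G → ℂ) : Cfsg.classInner φ 0 = 0 := by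
  simp [classInner_def]

theorem classInner_sum_left {ι : Type*} (s : Finset ι) (φ : ι → G → ℂ) (ψ : G → ℂ) :
    Cfsg.classInner (∑ i ∈ s, φ i) ψ = ∑ i ∈ s, Cfsg.classInner (φ i) ψ := by
  classical
  induction s using Finset.induction with
  | empty => simp
  | insert i s hi ih => simp [Finset.sum_insert hi, classInner_add_left, ih]

theorem classInner_sum_right {ι : Type*} (s : Finset ι) (φ : G → ℂ) (ψ : ι → G → ℂ) :
    Cfsg.classInner φ (∑ i ∈ s, ψ i) = ∑ i ∈ s, Cfsg.classInner φ (ψ i) := by
  classical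
  induction s using Finset.induction with
  | empty => simp
  | insert i s hi ih => simp [Finset.sum_insert hi, classInner_add_right, ih]

/-- `classInner φ φ = 0` only for `φ = 0`. -/
theorem classInner_self_eq_zero {φ : G → ℂ} : Cfsg.classInner φ φ = 0 ↔ φ = 0 := by
  refine ⟨fun h => ?_, fun h => by simp [h]⟩
  rw [classInner_def, mul_eq_zero, inv_eq_zero] at h
  replace h := h.resolve_left natCard_ne_zero
  simp only [Complex.mul_conj, ← Complex.ofReal_sum, Complex.ofReal_eq_zero] at h
  funext g
  have := (Finset.sum_eq_zero_iff_of_nonneg fun g _ => Complex.normSq_nonneg (φ g)).1 h g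
    (Finset.mem_univ g)
  simpa using this

/-- The inner product of two characters is the dimension of the intertwining space. -/
theorem classInner_character {V : Type v} [AddCommGroup V] [Module ℂ V] [FiniteDimensional ℂ V]
    {W : Type w} [AddCommGroup W] [Module ℂ W] [FiniteDimensional ℂ W]
    (ρ : Representation ℂ G V) (σ : Representation ℂ G W) :
    Cfsg.classInner σ.character ρ.character =
      (finrank ℂ (Representation.IntertwiningMap ρ σ) : ℂ) := by
  haveI : Invertible (Nat.card G : ℂ) := invertibleOfNonzero natCard_ne_zero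
  rw [← Representation.card_inv_mul_sum_char_mul_char_eq_finrank ρ σ, classInner_def]
  simp_rw [rep_char_inv ρ]

theorem classInner_char_nat {χ ψ : G → ℂ} (hχ : Cfsg.IsCharacter G χ)
    (hψ : Cfsg.IsCharacter G ψ) : ∃ n : ℕ, Cfsg.classInner χ ψ = (n : ℂ) := by
  obtain ⟨n, ρ, rfl⟩ := hχ
  obtain ⟨m, σ, rfl⟩ := hψ
  exact ⟨_, classInner_character σ ρ⟩

theorem classInner_isIrr_self {χ : G → ℂ} (h : Cfsg.IsIrrCharacter G χ) :
    Cfsg.classInner χ χ = 1 := by
  obtain ⟨n, ρ, hρ, rfl⟩ := h
  rw [classInner_character, Representation.IsIrreducible.finrank_intertwiningMap_self, Nat.cast_one]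

theorem classInner_isIrr_ne {χ ψ : G → ℂ} (hχ : Cfsg.IsIrrCharacter G χ)
    (hψ : Cfsg.IsIrrCharacter G ψ) (hne : χ ≠ ψ) : Cfsg.classInner χ ψ = 0 := by
  obtain ⟨n, ρ, hρ, rfl⟩ := hχ
  obtain ⟨m, σ, hσ, rfl⟩ := hψ
  haveI : IsEmpty (σ.Equiv ρ) := ⟨fun φ => hne (Representation.char_iso φ).symm⟩
  rw [classInner_character, finrank_zero_of_subsingleton, Nat.cast_zero]

open scoped Classical in
/-- First orthogonality relation. -/
theorem classInner_irr (χ ψ : Cfsg.IrrCharacter G) :
    Cfsg.classInner (χ : G → ℂ) (ψ : G → ℂ) = if χ = ψ then 1 else 0 := by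
  by_cases h : χ = ψ
  · rw [if_pos h, h]; exact classInner_isIrr_self ψ.2
  · rw [if_neg h]; exact classInner_isIrr_ne χ.2 ψ.2 (fun e => h (Subtype.ext e))

theorem classInner_sum_smul_irr {c : Cfsg.IrrCharacter G → ℂ} (s : Finset (Cfsg.IrrCharacter G))
    (ψ : Cfsg.IrrCharacter G) [Decidable (ψ ∈ s)] :
    Cfsg.classInner (∑ χ ∈ s, c χ • (χ : G → ℂ)) (ψ : G → ℂ) = if ψ ∈ s then c ψ else 0 := by
  classical
  rw [classInner_sum_left]
  simp only [classInner_smul_left, classInner_irr, mul_ite, mul_one, mul_zero,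
    Finset.sum_ite_eq']
  congr

theorem linearIndependent_irr' :
    LinearIndependent ℂ (fun χ : Cfsg.IrrCharacter G => (χ : G → ℂ)) := by
  classical
  rw [linearIndependent_iff']
  intro s c hc i hi
  have := classInner_sum_smul_irr (c := c) s i
  rw [hc, classInner_zero_left, if_pos hi] at this
  exact this.symm

end Inner

/-- The irreducible characters of a finite group are linearly independent. -/
theorem linearIndependent_irr [Finite G] :
    LinearIndependent ℂ (fun χ : Cfsg.IrrCharacter G => (χ : G → ℂ)) :=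
  haveI := Fintype.ofFinite G
  linearIndependent_irr'

/-- A finite group has finitely many irreducible characters. -/
instance finite_irrCharacter [Finite G] : Finite (Cfsg.IrrCharacter G) :=
  haveI := Fintype.ofFinite G
  (linearIndependent_irr (G := G)).finite

section Complete

variable [Fintype G]

/-- Completeness: a class function orthogonal to every irreducible character is zero. -/
theorem classFun_eq_zero {f : G → ℂ} (hf : Cfsg.IsClassFunction G f)
    (h : ∀ χ : G → ℂ, Cfsg.IsIrrCharacter G χ → Cfsg.classInner f χ = 0) : f = 0 := by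
  classical
  -- apply `sum_smul_eq_zero` to the conjugated character
  have hcl : Cfsg.IsClassFunction G (fun g => conj (f g)) := fun g x => by
    simp [hf g x]
  have hsum : ∀ χ : G → ℂ, Cfsg.IsIrrCharacter G χ → ∑ g : G, conj (f g) * χ g = 0 := by
    intro χ hχ
    have h1 := h χ hχ
    rw [classInner_def, mul_eq_zero, inv_eq_zero] at h1
    have h2 := congrArg (fun z : ℂ => conj z) (h1.resolve_left natCard_ne_zero)
    simpa [map_sum] using h2
  have h0 := sum_smul_eq_zero (funRep G G) hcl hsum
  funext x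
  have h1 := congrArg (fun L : (G → ℂ) →ₗ[ℂ] (G → ℂ) => L (Pi.single 1 1) x) h0
  simp only [LinearMap.sum_apply, LinearMap.smul_apply, Finset.sum_apply, Pi.smul_apply,
    funRep_apply, smul_eq_mul, LinearMap.zero_apply, Pi.zero_apply] at h1
  rw [Finset.sum_eq_single x (fun g _ hg => by
      rw [Pi.single_eq_of_ne (fun e => hg (inv_mul_eq_one.1 e)), mul_zero]) (by simp)] at h1
  simpa using h1

/-- Two class functions with the same inner products against irreducibles are equal. -/
theorem classFun_ext {f f' : G → ℂ} (hf : Cfsg.IsClassFunction G f)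
    (hf' : Cfsg.IsClassFunction G f')
    (h : ∀ χ : G → ℂ, Cfsg.IsIrrCharacter G χ → Cfsg.classInner f χ = Cfsg.classInner f' χ) :
    f = f' :=
  sub_eq_zero.1 (classFun_eq_zero (fun g x => by simp [hf g x, hf' g x]) fun χ hχ => by
    rw [classInner_sub_left, h χ hχ, sub_self])

omit [Fintype G] in
theorem classFun_sum_smul_irr (c : Cfsg.IrrCharacter G → ℂ)
    (s : Finset (Cfsg.IrrCharacter G)) :
    Cfsg.IsClassFunction G (∑ χ ∈ s, c χ • (χ : G → ℂ)) := fun g x => by
  simp only [Finset.sum_apply, Pi.smul_apply]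
  exact Finset.sum_congr rfl fun χ _ => by rw [irr_isClassFunction χ g x]

/-- Fourier expansion of a class function (sum form). -/
theorem classFun_eq_sum [Fintype (Cfsg.IrrCharacter G)] {f : G → ℂ}
    (hf : Cfsg.IsClassFunction G f) :
    f = ∑ χ : Cfsg.IrrCharacter G, Cfsg.classInner f (χ : G → ℂ) • (χ : G → ℂ) := by
  classical
  refine classFun_ext hf (classFun_sum_smul_irr _ _) fun ψ hψ => ?_
  have := classInner_sum_smul_irr (c := fun χ : Cfsg.IrrCharacter G =>
    Cfsg.classInner f (χ : G → ℂ)) Finset.univ ⟨ψ, hψ⟩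
  rw [this, if_pos (Finset.mem_univ _)]

/-- Fourier expansion of a class function. -/
theorem classFun_eq_finsum {f : G → ℂ} (hf : Cfsg.IsClassFunction G f) :
    f = ∑ᶠ χ : Cfsg.IrrCharacter G, Cfsg.classInner f (χ : G → ℂ) • (χ : G → ℂ) := by
  haveI := Fintype.ofFinite (Cfsg.IrrCharacter G)
  rw [finsum_eq_sum_of_fintype]
  exact classFun_eq_sum hf

/-- Parseval. -/
theorem classInner_eq_sum [Fintype (Cfsg.IrrCharacter G)] {f : G → ℂ} (φ : G → ℂ)
    (hf : Cfsg.IsClassFunction G f) :
    Cfsg.classInner f φ = ∑ χ : Cfsg.IrrCharacter G,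
      Cfsg.classInner f (χ : G → ℂ) * Cfsg.classInner (χ : G → ℂ) φ := by
  conv_lhs => rw [classFun_eq_sum hf]
  simp [classInner_sum_left, classInner_smul_left]

/-- A class function with natural inner products against irreducibles is a character. -/
theorem isCharacter_of_classInner_nat {f : G → ℂ} (hf : Cfsg.IsClassFunction G f)
    (h : ∀ χ : G → ℂ, Cfsg.IsIrrCharacter G χ → ∃ n : ℕ, Cfsg.classInner f χ = (n : ℂ)) :
    Cfsg.IsCharacter G f := by
  haveI := Fintype.ofFinite (Cfsg.IrrCharacter G)
  rw [classFun_eq_sum hf]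
  refine isCharacter_sum _ _ fun χ _ => ?_
  obtain ⟨n, hn⟩ := h _ χ.2
  rw [hn]
  exact isCharacter_natSmul (irr_isCharacter χ) n

/-- A character of norm one is irreducible. -/
theorem isIrr_of_isCharacter_of_norm_one {χ : G → ℂ} (h : Cfsg.IsCharacter G χ)
    (h1 : Cfsg.classInner χ χ = 1) : Cfsg.IsIrrCharacter G χ := by
  classical
  haveI := Fintype.ofFinite (Cfsg.IrrCharacter G)
  have hn : ∀ ψ : Cfsg.IrrCharacter G, ∃ n : ℕ, Cfsg.classInner χ (ψ : G → ℂ) = (n : ℂ) :=
    fun ψ => classInner_char_nat h (irr_isCharacter ψ)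
  choose n hn using hn
  have hsum : ∑ ψ, n ψ * n ψ = 1 := by
    have := classInner_eq_sum χ (char_isClassFunction h)
    simp only [fun ψ : Cfsg.IrrCharacter G => classInner_conj_symm χ (ψ : G → ℂ), hn,
      Complex.conj_natCast, h1] at this
    exact_mod_cast this.symm
  obtain ⟨ψ, hψ⟩ : ∃ ψ, n ψ ≠ 0 := by
    by_contra hh
    push Not at hh
    simp [hh] at hsum
  have hle : ∀ φ, n φ * n φ ≤ 1 := fun φ =>
    hsum ▸ Finset.single_le_sum (f := fun φ => n φ * n φ) (fun _ _ => Nat.zero_le _)
      (Finset.mem_univ φ)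
  have hψ1 : n ψ = 1 := by have := hle ψ; nlinarith [Nat.pos_of_ne_zero hψ]
  have hother : ∀ φ, φ ≠ ψ → n φ = 0 := by
    intro φ hφ
    have := Finset.add_le_sum (f := fun φ => n φ * n φ) (fun _ _ => Nat.zero_le _)
      (Finset.mem_univ φ) (Finset.mem_univ ψ) hφ
    rw [hsum, hψ1] at this
    nlinarith
  have he : χ = (ψ : G → ℂ) := by
    rw [classFun_eq_sum (char_isClassFunction h),
      Finset.sum_eq_single ψ (fun φ _ hφ => by simp [hn, hother φ hφ]) (by simp)]
    simp [hn, hψ1]
  exact he ▸ ψ.2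

theorem isIrrCharacter_iff_norm_one {χ : G → ℂ} :
    Cfsg.IsIrrCharacter G χ ↔ Cfsg.IsCharacter G χ ∧ Cfsg.classInner χ χ = 1 :=
  ⟨fun h => ⟨isCharacter_of_isIrr h, classInner_isIrr_self h⟩,
    fun h => isIrr_of_isCharacter_of_norm_one h.1 h.2⟩

end Complete

/-! ## Counting and the second orthogonality relation -/

section Second

variable [Finite G]

theorem card_carrier_mul_card_centralizer (g : G) :
    Nat.card (ConjClasses.mk g).carrier * Nat.card (Subgroup.centralizer ({g} : Set G)) =
      Nat.card G := by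
  have h1 := (MulAction.stabilizer (ConjAct G) g).card_mul_index
  rw [MulAction.index_stabilizer, ← Nat.card_coe_set_eq, mul_comm,
    ConjAct.orbit_eq_carrier_conjClasses] at h1
  rw [show Nat.card (Subgroup.centralizer ({g} : Set G)) =
      Nat.card (MulAction.stabilizer (ConjAct G) g) by
    rw [Subgroup.centralizer_eq_comap_stabilizer]
    exact Nat.card_congr (ConjAct.toConjAct.toEquiv.subtypeEquiv fun _ => Iff.rfl)]
  exact h1

open scoped Classical in
/-- Second orthogonality relation (sum form). -/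
theorem second_orthogonality [Fintype (Cfsg.IrrCharacter G)] (g h : G) :
    ∑ χ : Cfsg.IrrCharacter G, (χ : G → ℂ) g * conj ((χ : G → ℂ) h) =
      if IsConj g h then (Nat.card (Subgroup.centralizer ({h} : Set G)) : ℂ) else 0 := by
  classical
  haveI := Fintype.ofFinite G
  let f : G → ℂ := fun x => if IsConj x h then 1 else 0
  have hf : Cfsg.IsClassFunction G f := fun x y => by
    have : IsConj (y * x * y⁻¹) h ↔ IsConj x h :=
      ⟨fun e => (isConj_iff.2 ⟨y, rfl⟩).trans e,
        fun e => (isConj_iff.2 ⟨y, rfl⟩ : IsConj x _).symm.trans e⟩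
    simp only [f, this]
  set c := Nat.card (ConjClasses.mk h).carrier with hc
  have hmem : ∀ x : G, x ∈ (ConjClasses.mk h).carrier ↔ IsConj x h := fun x => by
    rw [ConjClasses.mem_carrier_iff_mk_eq, ConjClasses.mk_eq_mk_iff_isConj]
  have hc' : ((Finset.univ.filter fun x : G => IsConj x h).card) = c := by
    rw [hc, Nat.card_eq_fintype_card, Fintype.card_subtype]
    congr 1
    ext x; simp [hmem]
  have hinner : ∀ χ : Cfsg.IrrCharacter G, Cfsg.classInner f (χ : G → ℂ) =
      (Nat.card G : ℂ)⁻¹ * ((c : ℂ) * conj ((χ : G → ℂ) h)) := by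
    intro χ
    rw [classInner_def, ← hc']
    congr 1
    simp only [f, ite_mul, one_mul, zero_mul, ← Finset.sum_filter]
    rw [Finset.sum_congr rfl (g := fun _ => conj ((χ : G → ℂ) h)) fun x hx => by
      obtain ⟨y, hy⟩ := isConj_iff.1 (Finset.mem_filter.1 hx).2
      rw [← hy, irr_isClassFunction χ x y]]
    simp
  have hexp := congrFun (classFun_eq_sum hf) g
  simp only [Finset.sum_apply, Pi.smul_apply, smul_eq_mul, hinner] at hexp
  have hmul : (Nat.card G : ℂ)⁻¹ * (c : ℂ) *
      (Nat.card (Subgroup.centralizer ({h} : Set G)) : ℂ) = 1 := by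
    rw [mul_assoc, ← Nat.cast_mul, card_carrier_mul_card_centralizer,
      inv_mul_cancel₀ natCard_ne_zero]
  set C := (Nat.card (Subgroup.centralizer ({h} : Set G)) : ℂ)
  calc ∑ χ : Cfsg.IrrCharacter G, (χ : G → ℂ) g * conj ((χ : G → ℂ) h)
      = ∑ χ : Cfsg.IrrCharacter G,
          ((Nat.card G : ℂ)⁻¹ * (c : ℂ) * C) * ((χ : G → ℂ) g * conj ((χ : G → ℂ) h)) := by
        simp only [hmul, one_mul]
    _ = C * f g := by
        rw [hexp, Finset.mul_sum]
        exact Finset.sum_congr rfl fun χ _ => by ring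
    _ = _ := by simp [f]

theorem second_orthogonality_finsum (g h : G) [Decidable (IsConj g h)] :
    ∑ᶠ χ : Cfsg.IrrCharacter G, (χ : G → ℂ) g * conj ((χ : G → ℂ) h) =
      if IsConj g h then (Nat.card (Subgroup.centralizer ({h} : Set G)) : ℂ) else 0 := by
  haveI := Fintype.ofFinite (Cfsg.IrrCharacter G)
  rw [finsum_eq_sum_of_fintype, second_orthogonality]
  congr

/-- Irreducible characters separate conjugacy classes. -/
theorem isConj_of_forall_irr_eq {g h : G}
    (hgh : ∀ χ : Cfsg.IrrCharacter G, (χ : G → ℂ) g = (χ : G → ℂ) h) : IsConj g h := by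
  classical
  haveI := Fintype.ofFinite (Cfsg.IrrCharacter G)
  by_contra hne
  have h1 := second_orthogonality g h
  have h2 := second_orthogonality h h
  rw [if_neg hne] at h1
  rw [if_pos (IsConj.refl h)] at h2
  simp only [hgh] at h1
  rw [h1] at h2
  exact Nat.card_pos.ne' (by exact_mod_cast h2.symm)

/-- `∑ χ(1)² = |G|`. -/
theorem sum_degree_sq [Fintype (Cfsg.IrrCharacter G)] :
    ∑ χ : Cfsg.IrrCharacter G, (χ : G → ℂ) 1 ^ 2 = (Nat.card G : ℂ) := by
  classical
  have h := second_orthogonality (1 : G) 1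
  rw [if_pos (IsConj.refl _)] at h
  have hc : Nat.card (Subgroup.centralizer ({1} : Set G)) = Nat.card G := by
    rw [show Subgroup.centralizer ({1} : Set G) = ⊤ from by
      ext x; simp [Subgroup.mem_centralizer_iff], Subgroup.card_top]
  rw [hc] at h
  rw [← h]
  refine Finset.sum_congr rfl fun χ _ => ?_
  obtain ⟨n, hn⟩ := char_one_nat (irr_isCharacter χ)
  simp [hn, sq]

/-- The number of irreducible characters is the number of conjugacy classes. -/
theorem card_irrCharacter : Nat.card (Cfsg.IrrCharacter G) = Nat.card (ConjClasses G) := by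
  classical
  haveI := Fintype.ofFinite G
  haveI := Fintype.ofFinite (Cfsg.IrrCharacter G)
  haveI := Fintype.ofFinite (ConjClasses G)
  let π : (ConjClasses G → ℂ) →ₗ[ℂ] (G → ℂ) := LinearMap.funLeft ℂ ℂ ConjClasses.mk
  have hπ : Function.Injective π :=
    LinearMap.funLeft_injective_of_surjective ℂ ℂ _ ConjClasses.mk_surjective
  have hcl : ∀ v, Cfsg.IsClassFunction G (π v) := fun v x y => by
    show v (ConjClasses.mk (y * x * y⁻¹)) = v (ConjClasses.mk x)
    rw [ConjClasses.mk_eq_mk_iff_isConj.2 (isConj_iff.2 ⟨y, rfl⟩ : IsConj x (y * x * y⁻¹))]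
  have hrange : LinearMap.range π =
      Submodule.span ℂ (Set.range fun χ : Cfsg.IrrCharacter G => (χ : G → ℂ)) := by
    apply le_antisymm
    · rintro _ ⟨v, rfl⟩
      rw [classFun_eq_sum (hcl v)]
      exact Submodule.sum_mem _ fun χ _ => Submodule.smul_mem _ _ (Submodule.subset_span ⟨χ, rfl⟩)
    · rw [Submodule.span_le]
      rintro _ ⟨χ, rfl⟩
      refine ⟨Quotient.lift (χ : G → ℂ) fun a b hab => ?_, funext fun x => rfl⟩
      obtain ⟨y, hy⟩ := isConj_iff.1 hab
      rw [← hy, irr_isClassFunction χ a y]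
  have h1 := LinearMap.finrank_range_of_inj hπ
  rw [hrange, finrank_span_eq_card linearIndependent_irr, Module.finrank_pi] at h1
  simpa [Nat.card_eq_fintype_card] using h1

end Second

end Cfsg.Agent.Characters
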