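import Mathlib
import Cfsg.Agent.Lib.Characters.Inner
import Cfsg.Agent.Lib.CharTheory.IndBasic

/-!
# Induced class functions, Frobenius reciprocity, generalized characters
-/

set_option linter.style.haveILetI false

namespace Cfsg.Agent.Characters

open Module
open scoped ComplexConjugate

universe u v

variable {G : Type u} [Group G]

/-! ## Induction -/

section Ind

variable [Fintype G]

theorem indFun_isClassFunction (H : Subgroup G) (θ : H → ℂ) :
    Cfsg.IsClassFunction G (Cfsg.indFun H θ) :=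
  CharTheory.IndBasic.indFun_conj H θ

theorem indFun_add (H : Subgroup G) (θ θ' : H → ℂ) :
    Cfsg.indFun H (θ + θ') = Cfsg.indFun H θ + Cfsg.indFun H θ' := by
  funext g
  simp only [Cfsg.indFun, Pi.add_apply, ← mul_add, ← Finset.sum_add_distrib]
  congr 1
  refine Finset.sum_congr rfl fun x _ => ?_
  by_cases hx : x⁻¹ * g * x ∈ H
  · simp [CharTheory.IndBasic.extendByZero_of_mem H _ hx]
  · simp [CharTheory.IndBasic.extendByZero_of_notMem H _ hx]

theorem indFun_smul (H : Subgroup G) (c : ℂ) (θ : H → ℂ) :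
    Cfsg.indFun H (c • θ) = c • Cfsg.indFun H θ := by
  funext g
  simp only [Cfsg.indFun, Pi.smul_apply, smul_eq_mul, Finset.mul_sum]
  refine Finset.sum_congr rfl fun x _ => ?_
  by_cases hx : x⁻¹ * g * x ∈ H
  · simp [CharTheory.IndBasic.extendByZero_of_mem H _ hx]; ring
  · simp [CharTheory.IndBasic.extendByZero_of_notMem H _ hx]

theorem indFun_zero (H : Subgroup G) : Cfsg.indFun H (0 : H → ℂ) = 0 := by
  simpa using indFun_smul H 0 (0 : H → ℂ)

theorem indFun_sub (H : Subgroup G) (θ θ' : H → ℂ) :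
    Cfsg.indFun H (θ - θ') = Cfsg.indFun H θ - Cfsg.indFun H θ' := by
  rw [sub_eq_add_neg, indFun_add, ← neg_one_smul ℂ θ', indFun_smul, neg_one_smul, sub_eq_add_neg]

/-- `indFun H θ` at `1`. -/
theorem indFun_one (H : Subgroup G) (θ : H → ℂ) :
    Cfsg.indFun H θ 1 = (H.index : ℂ) * θ 1 := by
  have h0 : (Nat.card H : ℂ) ≠ 0 := Nat.cast_ne_zero.mpr Nat.card_pos.ne'
  apply mul_left_cancel₀ h0
  rw [CharTheory.IndBasic.card_mul_indFun, ← mul_assoc, ← Nat.cast_mul, H.card_mul_index]
  have : Cfsg.extendByZero H θ 1 = θ 1 :=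
    CharTheory.IndBasic.extendByZero_of_mem H θ H.one_mem
  simp [this]

theorem sum_extendByZero_mul (H : Subgroup G) [Fintype H] (θ : H → ℂ) (φ : G → ℂ) :
    ∑ y : G, Cfsg.extendByZero H θ y * φ y = ∑ h : H, θ h * φ h := by
  symm
  refine Fintype.sum_of_injective (Subtype.val : H → G) Subtype.val_injective _ _ ?_ ?_
  · intro y hy
    rw [CharTheory.IndBasic.extendByZero_of_notMem H θ (fun hy' => hy ⟨⟨y, hy'⟩, rfl⟩), zero_mul]
  · intro h
    rw [CharTheory.IndBasic.extendByZero_coe]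

/-- Frobenius reciprocity. -/
theorem frobenius_reciprocity (H : Subgroup G) [Fintype H] (θ : H → ℂ) {χ : G → ℂ}
    (hχ : Cfsg.IsClassFunction G χ) :
    Cfsg.classInner (Cfsg.indFun H θ) χ = Cfsg.classInner θ (fun h : H => χ h) := by
  rw [classInner_def, classInner_def]
  have hG : (Nat.card G : ℂ) ≠ 0 := natCard_ne_zero
  have key : ∑ g : G, Cfsg.indFun H θ g * conj (χ g) =
      (Nat.card G : ℂ) * ((Nat.card H : ℂ)⁻¹ * ∑ h : H, θ h * conj (χ h)) := by
    simp only [Cfsg.indFun, mul_assoc, Finset.sum_mul, Finset.mul_sum]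
    rw [Finset.sum_comm]
    have hx : ∀ x : G, ∑ g : G, (Nat.card H : ℂ)⁻¹ *
        (Cfsg.extendByZero H θ (x⁻¹ * (g * x)) * conj (χ g)) =
        (Nat.card H : ℂ)⁻¹ * ∑ h : H, θ h * conj (χ h) := fun x => by
      rw [← Finset.mul_sum]
      congr 1
      rw [← sum_extendByZero_mul H θ (fun y => conj (χ y))]
      symm
      refine Fintype.sum_equiv (MulAut.conj x).toEquiv _ _ fun g => ?_
      rw [show (MulAut.conj x).toEquiv g = x * g * x⁻¹ from rfl, hχ g x]
      simp [mul_assoc]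
    simp only [hx, Finset.sum_const, Finset.card_univ, nsmul_eq_mul, ← Nat.card_eq_fintype_card,
      Finset.mul_sum]
  rw [key, inv_mul_cancel_left₀ hG]

/-- Frobenius reciprocity, with the arguments swapped. -/
theorem frobenius_reciprocity' (H : Subgroup G) [Fintype H] (θ : H → ℂ) {χ : G → ℂ}
    (hχ : Cfsg.IsClassFunction G χ) :
    Cfsg.classInner χ (Cfsg.indFun H θ) = Cfsg.classInner (fun h : H => χ h) θ := by
  rw [classInner_conj_symm (Cfsg.indFun H θ) χ, frobenius_reciprocity H θ hχ,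
    ← classInner_conj_symm]

/-- A function induced from a character is a character. -/
theorem isCharacter_indFun (H : Subgroup G) {θ : H → ℂ} (hθ : Cfsg.IsCharacter H θ) :
    Cfsg.IsCharacter G (Cfsg.indFun H θ) := by
  classical
  haveI := Fintype.ofFinite H
  refine isCharacter_of_classInner_nat (indFun_isClassFunction H θ) fun χ hχ => ?_
  rw [frobenius_reciprocity H θ (char_isClassFunction (isCharacter_of_isIrr hχ))]
  exact classInner_char_nat hθ (isCharacter_restrict H (isCharacter_of_isIrr hχ))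

/-- Transitivity of induction. -/
theorem indFun_trans (H K : Subgroup G) [Fintype K] (hHK : H ≤ K) (θ : H → ℂ) :
    Cfsg.indFun K (Cfsg.indFun (H.subgroupOf K) fun x =>
      θ ⟨(x : K), Subgroup.mem_subgroupOf.mp x.2⟩) = Cfsg.indFun H θ := by
  funext g
  have hK : (Nat.card K : ℂ) ≠ 0 := Nat.cast_ne_zero.mpr Nat.card_pos.ne'
  set θ' : H.subgroupOf K → ℂ := fun x => θ ⟨(x : K), Subgroup.mem_subgroupOf.mp x.2⟩
  have hcard : Nat.card (H.subgroupOf K) = Nat.card H :=
    Nat.card_congr (Subgroup.subgroupOfEquivOfLe hHK).toEquiv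
  have hval : ∀ y : G, Cfsg.extendByZero K (Cfsg.indFun (H.subgroupOf K) θ') y =
      (Nat.card H : ℂ)⁻¹ * ∑ k : K, Cfsg.extendByZero H θ ((k : G)⁻¹ * y * k) := by
    intro y
    by_cases hy : y ∈ K
    · rw [CharTheory.IndBasic.extendByZero_of_mem K _ hy]
      simp only [Cfsg.indFun, hcard]
      congr 1
      refine Finset.sum_congr rfl fun k _ => ?_
      set z : K := k⁻¹ * ⟨y, hy⟩ * k with hz
      have hzc : (k : G)⁻¹ * y * k = (z : G) := rfl
      rw [hzc]
      by_cases hk : (z : G) ∈ H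
      · rw [CharTheory.IndBasic.extendByZero_of_mem H _ hk,
          CharTheory.IndBasic.extendByZero_of_mem (H.subgroupOf K) _
            (Subgroup.mem_subgroupOf.2 hk)]
      · rw [CharTheory.IndBasic.extendByZero_of_notMem H _ hk,
          CharTheory.IndBasic.extendByZero_of_notMem (H.subgroupOf K) _
            (fun h => hk (Subgroup.mem_subgroupOf.1 h))]
    · rw [CharTheory.IndBasic.extendByZero_of_notMem K _ hy, Finset.sum_eq_zero, mul_zero]
      intro k _
      rw [CharTheory.IndBasic.extendByZero_of_notMem]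
      intro hk
      refine hy ?_
      simpa [mul_assoc] using K.mul_mem (K.mul_mem k.2 (hHK hk)) (K.inv_mem k.2)
  apply mul_left_cancel₀ hK
  rw [CharTheory.IndBasic.card_mul_indFun]
  simp only [hval, ← Finset.mul_sum]
  rw [Finset.sum_comm, Finset.sum_congr rfl (g := fun _ : K =>
    ∑ x : G, Cfsg.extendByZero H θ (x⁻¹ * g * x)) fun k _ =>
      Fintype.sum_equiv (Equiv.mulRight (k : G)) _ _ fun x => by simp [mul_assoc]]
  simp only [Finset.sum_const, Finset.card_univ, nsmul_eq_mul, ← Nat.card_eq_fintype_card,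
    Cfsg.indFun]
  ring

end Ind

/-! ## Regular character -/

section Regular

theorem funRep_regular_apply [Finite G] [DecidableEq G] (g : G) :
    (funRep G G).character g = if g = 1 then (Nat.card G : ℂ) else 0 := by
  rw [funRep_character]
  split_ifs with h
  · subst h; simp [Nat.card_congr (Equiv.Set.univ G)]
  · rw [show MulAction.fixedBy G g = (∅ : Set G) from Set.eq_empty_iff_forall_notMem.2
      fun x hx => h (mul_right_cancel (b := x) (by simpa [MulAction.mem_fixedBy] using hx))]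
    simp

/-- The regular character is `∑ χ(1) χ`. -/
theorem regular_eq_sum [Finite G] [DecidableEq G] [Fintype (Cfsg.IrrCharacter G)] :
    (fun g : G => if g = 1 then (Nat.card G : ℂ) else 0) =
      ∑ χ : Cfsg.IrrCharacter G, (χ : G → ℂ) 1 • (χ : G → ℂ) := by
  haveI := Fintype.ofFinite G
  have hf : Cfsg.IsClassFunction G (fun g : G => if g = 1 then (Nat.card G : ℂ) else 0) :=
    fun g x => by simp [conj_eq_one_iff]
  rw [classFun_eq_sum hf]
  refine Finset.sum_congr rfl fun χ _ => ?_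
  congr 1
  obtain ⟨n, hn⟩ := char_one_nat (irr_isCharacter χ)
  rw [classInner_def, Finset.sum_eq_single 1 (by intros; simp [*]) (by simp)]
  simp [hn, natCard_ne_zero]

end Regular

/-! ## Generalized characters -/

section Gen

theorem isGen_of_isCharacter {χ : G → ℂ} (h : Cfsg.IsCharacter G χ) :
    Cfsg.IsGeneralizedCharacter G χ :=
  ⟨χ, 0, h, isCharacter_zero, (sub_zero χ).symm⟩

theorem isGen_zero : Cfsg.IsGeneralizedCharacter G (0 : G → ℂ) :=
  isGen_of_isCharacter isCharacter_zero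

theorem isGen_neg {θ : G → ℂ} (h : Cfsg.IsGeneralizedCharacter G θ) :
    Cfsg.IsGeneralizedCharacter G (-θ) := by
  obtain ⟨a, b, ha, hb, rfl⟩ := h
  exact ⟨b, a, hb, ha, neg_sub a b⟩

theorem isGen_add {θ θ' : G → ℂ} (h : Cfsg.IsGeneralizedCharacter G θ)
    (h' : Cfsg.IsGeneralizedCharacter G θ') : Cfsg.IsGeneralizedCharacter G (θ + θ') := by
  obtain ⟨a, b, ha, hb, rfl⟩ := h
  obtain ⟨c, d, hc, hd, rfl⟩ := h'
  exact ⟨a + c, b + d, isCharacter_add ha hc, isCharacter_add hb hd, by abel⟩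

theorem isGen_sub {θ θ' : G → ℂ} (h : Cfsg.IsGeneralizedCharacter G θ)
    (h' : Cfsg.IsGeneralizedCharacter G θ') : Cfsg.IsGeneralizedCharacter G (θ - θ') :=
  sub_eq_add_neg θ θ' ▸ isGen_add h (isGen_neg h')

theorem isGen_intSmul {θ : G → ℂ} (h : Cfsg.IsGeneralizedCharacter G θ) (z : ℤ) :
    Cfsg.IsGeneralizedCharacter G ((z : ℂ) • θ) := by
  rcases Int.eq_nat_or_neg z with ⟨n, rfl | rfl⟩ <;> obtain ⟨a, b, ha, hb, rfl⟩ := h
  · exact ⟨(n : ℂ) • a, (n : ℂ) • b, isCharacter_natSmul ha n, isCharacter_natSmul hb n, by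
      simp [smul_sub]⟩
  · exact ⟨(n : ℂ) • b, (n : ℂ) • a, isCharacter_natSmul hb n, isCharacter_natSmul ha n, by
      simp [smul_sub]; abel⟩

theorem isGen_sum {ι : Type*} (s : Finset ι) (θ : ι → G → ℂ)
    (h : ∀ i ∈ s, Cfsg.IsGeneralizedCharacter G (θ i)) :
    Cfsg.IsGeneralizedCharacter G (∑ i ∈ s, θ i) :=
  Finset.sum_induction θ _ (fun _ _ => isGen_add) isGen_zero h

theorem isGen_mul {θ θ' : G → ℂ} (h : Cfsg.IsGeneralizedCharacter G θ)
    (h' : Cfsg.IsGeneralizedCharacter G θ') : Cfsg.IsGeneralizedCharacter G (θ * θ') := by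
  obtain ⟨a, b, ha, hb, rfl⟩ := h
  obtain ⟨c, d, hc, hd, rfl⟩ := h'
  exact ⟨a * c + b * d, a * d + b * c, isCharacter_add (isCharacter_mul ha hc)
    (isCharacter_mul hb hd), isCharacter_add (isCharacter_mul ha hd) (isCharacter_mul hb hc),
    by ring⟩

theorem isGen_isClassFunction {θ : G → ℂ} (h : Cfsg.IsGeneralizedCharacter G θ) :
    Cfsg.IsClassFunction G θ := by
  obtain ⟨a, b, ha, hb, rfl⟩ := h
  intro g x
  simp [char_isClassFunction ha g x, char_isClassFunction hb g x]

theorem isGen_comp {H : Type*} [Group H] (f : H →* G) {θ : G → ℂ}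
    (h : Cfsg.IsGeneralizedCharacter G θ) : Cfsg.IsGeneralizedCharacter H (θ ∘ f) := by
  obtain ⟨a, b, ha, hb, rfl⟩ := h
  exact ⟨a ∘ f, b ∘ f, isCharacter_comp f ha, isCharacter_comp f hb, rfl⟩

theorem isGen_restrict (H : Subgroup G) {θ : G → ℂ} (h : Cfsg.IsGeneralizedCharacter G θ) :
    Cfsg.IsGeneralizedCharacter H (fun x : H => θ x) :=
  isGen_comp H.subtype h

variable [Fintype G]

theorem isGen_indFun (H : Subgroup G) {θ : H → ℂ} (h : Cfsg.IsGeneralizedCharacter H θ) :
    Cfsg.IsGeneralizedCharacter G (Cfsg.indFun H θ) := by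
  obtain ⟨a, b, ha, hb, rfl⟩ := h
  exact ⟨_, _, isCharacter_indFun H ha, isCharacter_indFun H hb, indFun_sub H a b⟩

theorem classInner_gen_int {θ θ' : G → ℂ} (h : Cfsg.IsGeneralizedCharacter G θ)
    (h' : Cfsg.IsGeneralizedCharacter G θ') : ∃ z : ℤ, Cfsg.classInner θ θ' = (z : ℂ) := by
  obtain ⟨a, b, ha, hb, rfl⟩ := h
  obtain ⟨c, d, hc, hd, rfl⟩ := h'
  obtain ⟨n1, h1⟩ := classInner_char_nat ha hc
  obtain ⟨n2, h2⟩ := classInner_char_nat ha hd
  obtain ⟨n3, h3⟩ := classInner_char_nat hb hc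
  obtain ⟨n4, h4⟩ := classInner_char_nat hb hd
  exact ⟨(n1 : ℤ) - n2 - (n3 - n4), by
    simp [classInner_sub_left, classInner_sub_right, h1, h2, h3, h4]; ring⟩

/-- Generalized characters are the class functions with integral inner products. -/
theorem isGen_of_classInner_int {θ : G → ℂ} (hθ : Cfsg.IsClassFunction G θ)
    (h : ∀ χ : G → ℂ, Cfsg.IsIrrCharacter G χ → ∃ z : ℤ, Cfsg.classInner θ χ = (z : ℂ)) :
    Cfsg.IsGeneralizedCharacter G θ := by
  haveI := Fintype.ofFinite (Cfsg.IrrCharacter G)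
  rw [classFun_eq_sum hθ]
  refine isGen_sum _ _ fun χ _ => ?_
  obtain ⟨z, hz⟩ := h _ χ.2
  rw [hz]
  exact isGen_intSmul (isGen_of_isCharacter (irr_isCharacter χ)) z

/-- A generalized character of norm one is `±` an irreducible character. -/
theorem isGen_norm_one {θ : G → ℂ} (h : Cfsg.IsGeneralizedCharacter G θ)
    (h1 : Cfsg.classInner θ θ = 1) :
    Cfsg.IsIrrCharacter G θ ∨ Cfsg.IsIrrCharacter G (-θ) := by
  classical
  haveI := Fintype.ofFinite (Cfsg.IrrCharacter G)
  have hn : ∀ ψ : Cfsg.IrrCharacter G, ∃ z : ℤ, Cfsg.classInner θ (ψ : G → ℂ) = (z : ℂ) :=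
    fun ψ => classInner_gen_int h (isGen_of_isCharacter (irr_isCharacter ψ))
  choose n hn using hn
  have hsum : ∑ ψ, n ψ * n ψ = 1 := by
    have := classInner_eq_sum θ (isGen_isClassFunction h)
    simp only [fun ψ : Cfsg.IrrCharacter G => classInner_conj_symm θ (ψ : G → ℂ), hn,
      map_intCast, h1] at this
    exact_mod_cast this.symm
  obtain ⟨ψ, hψ⟩ : ∃ ψ, n ψ ≠ 0 := by
    by_contra hh
    push Not at hh
    simp [hh] at hsum
  have hψ1 : n ψ * n ψ = 1 := by
    have h1' := Finset.single_le_sum (f := fun φ => n φ * n φ) (fun _ _ => mul_self_nonneg _)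
      (Finset.mem_univ ψ)
    have h2' : 0 < n ψ * n ψ := mul_self_pos.2 hψ
    simp only [hsum] at h1'
    omega
  have hother : ∀ φ, φ ≠ ψ → n φ = 0 := by
    intro φ hφ
    have := Finset.add_le_sum (f := fun φ => n φ * n φ) (fun _ _ => mul_self_nonneg _)
      (Finset.mem_univ φ) (Finset.mem_univ ψ) hφ
    rw [hsum, hψ1] at this
    exact mul_self_eq_zero.1 (le_antisymm (by linarith) (mul_self_nonneg _))
  have he : θ = (n ψ : ℂ) • (ψ : G → ℂ) := by
    conv_lhs => rw [classFun_eq_sum (isGen_isClassFunction h)]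
    rw [Finset.sum_eq_single ψ (fun φ _ hφ => by simp [hn, hother φ hφ]) (by simp), hn]
  rcases mul_self_eq_one_iff.1 hψ1 with h' | h'
  · left; rw [he, h']; simpa using ψ.2
  · right; rw [he, h']; simpa using ψ.2

/-- A generalized character of norm one with positive degree is irreducible. -/
theorem isIrr_of_gen_norm_one {θ : G → ℂ} (h : Cfsg.IsGeneralizedCharacter G θ)
    (h1 : Cfsg.classInner θ θ = 1) (hpos : 0 < (θ 1).re) : Cfsg.IsIrrCharacter G θ := by
  refine (isGen_norm_one h h1).resolve_right fun hn => ?_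
  obtain ⟨n, _, he⟩ := irr_one_pos hn
  have := congrArg Complex.re he
  simp at this
  have : (0 : ℝ) ≤ n := n.cast_nonneg
  linarith

end Gen

end Cfsg.Agent.Characters
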