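import Mathlib
import Cfsg.Agent.Lib.Characters.Induction

/-!
# Kernels, inflation, linear characters, decomposition, conjugate characters
-/

set_option linter.style.haveILetI false

namespace Cfsg.Agent.Characters

open Module
open scoped ComplexConjugate

universe u v w

variable {G : Type u} [Group G]

/-! ## Decomposition -/

/-- Every character is a natural combination of irreducible characters. -/
theorem char_eq_sum_nat [Finite G] [Fintype (Cfsg.IrrCharacter G)] {χ : G → ℂ}
    (h : Cfsg.IsCharacter G χ) :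
    ∃ n : Cfsg.IrrCharacter G → ℕ,
      χ = ∑ ψ : Cfsg.IrrCharacter G, (n ψ : ℂ) • (ψ : G → ℂ) := by
  haveI := Fintype.ofFinite G
  have hn : ∀ ψ : Cfsg.IrrCharacter G, ∃ n : ℕ, Cfsg.classInner χ (ψ : G → ℂ) = (n : ℂ) :=
    fun ψ => classInner_char_nat h (irr_isCharacter ψ)
  choose n hn using hn
  refine ⟨n, ?_⟩
  simp only [← hn]
  exact classFun_eq_sum (char_isClassFunction h)

/-! ## Kernels -/

section Kernel

variable [Finite G]

/-- The kernel of a character, as a normal subgroup. -/
noncomputable def charKernel (χ : G → ℂ) (h : Cfsg.IsCharacter G χ) : Subgroup G where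
  carrier := {g | χ g = χ 1}
  one_mem' := rfl
  mul_mem' {a b} ha hb := by
    show χ (a * b) = χ 1
    rw [char_mul_of_eq_one h ha b]; exact hb
  inv_mem' {a} ha := by
    show χ a⁻¹ = χ 1
    obtain ⟨n, hn⟩ := char_one_nat h
    rw [char_inv h, show χ a = χ 1 from ha, hn, Complex.conj_natCast]

theorem mem_charKernel {χ : G → ℂ} {h : Cfsg.IsCharacter G χ} {g : G} :
    g ∈ charKernel χ h ↔ χ g = χ 1 := Iff.rfl

theorem charKernel_normal {χ : G → ℂ} (h : Cfsg.IsCharacter G χ) : (charKernel χ h).Normal :=
  ⟨fun a ha x => by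
    show χ (x * a * x⁻¹) = χ 1
    rw [char_isClassFunction h a x]; exact ha⟩

omit [Finite G] in
theorem rep_char_eq_of_apply_eq_id {V : Type v} [AddCommGroup V] [Module ℂ V]
    [FiniteDimensional ℂ V] {ρ : Representation ℂ G V} {g : G} (h : ρ g = LinearMap.id) :
    ρ.character g = ρ.character 1 := by
  rw [ρ.char_one]; simp [Representation.character, h]

theorem rep_apply_eq_id_iff {V : Type v} [AddCommGroup V] [Module ℂ V]
    [FiniteDimensional ℂ V] (ρ : Representation ℂ G V) (g : G) :
    ρ g = LinearMap.id ↔ ρ.character g = ρ.character 1 :=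
  ⟨rep_char_eq_of_apply_eq_id, fun h => rep_apply_eq_id_of_char_eq ρ g (h.trans ρ.char_one)⟩

/-- The intersection of the kernels of the irreducible characters is trivial. -/
theorem eq_one_of_forall_irr {g : G} (h : ∀ χ : Cfsg.IrrCharacter G, (χ : G → ℂ) g = (χ : G → ℂ) 1) :
    g = 1 :=
  isConj_one_left.1 (isConj_of_forall_irr_eq h)

/-- For `g ≠ 1` some irreducible character does not have `g` in its kernel. -/
theorem exists_irr_ne {g : G} (hg : g ≠ 1) :
    ∃ χ : G → ℂ, Cfsg.IsIrrCharacter G χ ∧ χ g ≠ χ 1 := by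
  by_contra h
  push Not at h
  exact hg (eq_one_of_forall_irr fun χ => h _ χ.2)

end Kernel

/-! ## Inflation -/

section Inflation

variable {H : Type w} [Group H]

theorem classInner_comp_surjective [Fintype G] [Fintype H] (f : G →* H)
    (hf : Function.Surjective f) (φ ψ : H → ℂ) :
    Cfsg.classInner (φ ∘ f) (ψ ∘ f) = Cfsg.classInner φ ψ := by
  classical
  rw [classInner_def, classInner_def]
  set F : H → ℂ := fun y => φ y * conj (ψ y)
  have hfib : ∀ y : H, (Finset.univ.filter fun x : G => f x = y).card = Nat.card f.ker := by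
    intro y
    obtain ⟨x₀, rfl⟩ := hf y
    rw [Nat.card_eq_fintype_card, ← Finset.card_univ]
    refine Finset.card_bij (fun x hx => (⟨x₀⁻¹ * x, by
      simpa [MonoidHom.mem_ker, inv_mul_eq_one] using (Finset.mem_filter.1 hx).2.symm⟩ : f.ker))
      (fun _ _ => Finset.mem_univ _) (fun a _ b _ h => by simpa using h) fun k _ =>
        ⟨x₀ * k, by simp [MonoidHom.mem_ker.1 k.2], by simp⟩
  have hsum : ∑ x : G, F (f x) = (Nat.card f.ker : ℂ) * ∑ y : H, F y := by
    rw [← Finset.sum_fiberwise_of_maps_to (g := f) (t := Finset.univ) (fun x _ => Finset.mem_univ _),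
      Finset.mul_sum]
    refine Finset.sum_congr rfl fun y _ => ?_
    rw [Finset.sum_congr rfl (g := fun _ => F y) fun x hx => by rw [(Finset.mem_filter.1 hx).2],
      Finset.sum_const, hfib, nsmul_eq_mul]
  have hcard : Nat.card G = Nat.card f.ker * Nat.card H := by
    rw [← Nat.card_congr (QuotientGroup.quotientKerEquivOfSurjective f hf).toEquiv, mul_comm]
    exact Subgroup.card_eq_card_quotient_mul_card_subgroup _
  show (Nat.card G : ℂ)⁻¹ * ∑ x : G, F (f x) = (Nat.card H : ℂ)⁻¹ * ∑ y : H, F y
  rw [hsum, hcard, Nat.cast_mul, mul_inv, ← mul_assoc,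
    mul_comm (Nat.card f.ker : ℂ)⁻¹, mul_assoc _ (Nat.card f.ker : ℂ)⁻¹,
    inv_mul_cancel₀ (Nat.cast_ne_zero.2 Nat.card_pos.ne'), mul_one]

/-- Inflation preserves irreducibility. -/
theorem isIrrCharacter_comp_surjective (f : G →* H) (hf : Function.Surjective f) {χ : H → ℂ}
    (h : Cfsg.IsIrrCharacter H χ) : Cfsg.IsIrrCharacter G (χ ∘ f) := by
  obtain ⟨n, ρ, hρ, rfl⟩ := h
  let σ : Representation ℂ G (Fin n → ℂ) := ρ.comp f
  have hirr : σ.IsIrreducible := by
    rw [isIrreducible_iff]
    refine ⟨nontrivial_of_isIrreducible ρ, fun U hU => ((isIrreducible_iff ρ).1 hρ).2 U ?_⟩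
    intro y v hv
    obtain ⟨x, rfl⟩ := hf y
    exact hU x v hv
  haveI := hirr
  exact isIrrCharacter_character σ

theorem isIrrCharacter_comp_mulEquiv (e : G ≃* H) {χ : H → ℂ} :
    Cfsg.IsIrrCharacter G (χ ∘ e) ↔ Cfsg.IsIrrCharacter H χ := by
  refine ⟨fun h => ?_, isIrrCharacter_comp_surjective e.toMonoidHom e.surjective⟩
  have := isIrrCharacter_comp_surjective e.symm.toMonoidHom e.symm.surjective h
  simpa [Function.comp_def] using this

/-- A character with `f.ker` in its kernel factors through the surjection `f`. -/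
theorem exists_deflate [Finite G] (f : G →* H) (hf : Function.Surjective f) {χ : G → ℂ}
    (h : Cfsg.IsCharacter G χ) (hker : ∀ x ∈ f.ker, χ x = χ 1) :
    ∃ ψ : H → ℂ, Cfsg.IsCharacter H ψ ∧ ψ ∘ f = χ ∧
      (Cfsg.IsIrrCharacter G χ → Cfsg.IsIrrCharacter H ψ) := by
  obtain ⟨n, ρ, rfl⟩ := h
  have hle : f.ker ≤ ρ.asGroupHom.ker := fun x hx => by
    rw [MonoidHom.mem_ker]
    ext1
    rw [Representation.asGroupHom_apply, Units.val_one,
      rep_apply_eq_id_of_char_eq ρ x ((hker x hx).trans ρ.char_one)]
    rfl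
  let σ : Representation ℂ H (Fin n → ℂ) :=
    (Units.coeHom _).comp (f.liftOfSurjective hf ⟨ρ.asGroupHom, hle⟩)
  have hσ : ∀ x, σ (f x) = ρ x := fun x => by
    simp [σ, MonoidHom.liftOfRightInverse_comp_apply, Representation.asGroupHom_apply]
  have hchar : σ.character ∘ f = ρ.character := funext fun x => by
    simp [Representation.character, hσ]
  refine ⟨σ.character, isCharacter_character σ, hchar, fun hi => ?_⟩
  haveI : Finite H := Finite.of_surjective f hf
  haveI := Fintype.ofFinite H
  haveI := Fintype.ofFinite G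
  refine isIrr_of_isCharacter_of_norm_one (isCharacter_character σ) ?_
  rw [← classInner_comp_surjective f hf, hchar]
  exact classInner_isIrr_self hi

/-- A character with a normal subgroup `N` in its kernel comes from `G ⧸ N`. -/
theorem exists_deflate_quotient [Finite G] (N : Subgroup G) [N.Normal] {χ : G → ℂ}
    (h : Cfsg.IsCharacter G χ) (hker : ∀ x ∈ N, χ x = χ 1) :
    ∃ ψ : G ⧸ N → ℂ, Cfsg.IsCharacter (G ⧸ N) ψ ∧ (∀ x : G, ψ x = χ x) ∧
      (Cfsg.IsIrrCharacter G χ → Cfsg.IsIrrCharacter (G ⧸ N) ψ) := by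
  obtain ⟨ψ, h1, h2, h3⟩ := exists_deflate (QuotientGroup.mk' N) (QuotientGroup.mk'_surjective N) h
    (fun x hx => hker x (by simpa using hx))
  exact ⟨ψ, h1, fun x => congrFun h2 x, h3⟩

end Inflation

/-! ## Conjugate characters, products with linear characters -/

section Twist

theorem isCharacter_conj [Finite G] {χ : G → ℂ} (h : Cfsg.IsCharacter G χ) :
    Cfsg.IsCharacter G (fun g => conj (χ g)) := by
  obtain ⟨n, ρ, rfl⟩ := h
  have : ρ.dual.character = fun g => conj (ρ.character g) :=
    funext fun g => (ρ.char_dual g).trans (rep_char_inv ρ g)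
  exact this ▸ isCharacter_character ρ.dual

theorem classInner_conj_conj [Fintype G] (φ ψ : G → ℂ) :
    Cfsg.classInner (fun g => conj (φ g)) (fun g => conj (ψ g)) = conj (Cfsg.classInner φ ψ) := by
  simp [classInner_def, map_sum]

theorem isIrrCharacter_conj [Finite G] {χ : G → ℂ} (h : Cfsg.IsIrrCharacter G χ) :
    Cfsg.IsIrrCharacter G (fun g => conj (χ g)) := by
  haveI := Fintype.ofFinite G
  refine isIrr_of_isCharacter_of_norm_one (isCharacter_conj (isCharacter_of_isIrr h)) ?_
  rw [classInner_conj_conj, classInner_isIrr_self h, map_one]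

theorem linear_norm_eq_one [Finite G] (lam : G →* ℂˣ) (g : G) : ‖(lam g : ℂ)‖ = 1 :=
  Complex.norm_eq_one_of_pow_eq_one (n := orderOf g)
    (by rw [← Units.val_pow_eq_pow_val, ← map_pow, pow_orderOf_eq_one, map_one, Units.val_one])
    (orderOf_pos g).ne'

theorem isIrrCharacter_mul_linear [Finite G] {χ : G → ℂ} (h : Cfsg.IsIrrCharacter G χ)
    (lam : G →* ℂˣ) : Cfsg.IsIrrCharacter G (fun g => (lam g : ℂ) * χ g) := by
  haveI := Fintype.ofFinite G
  refine isIrr_of_isCharacter_of_norm_one
    (isCharacter_mul (isCharacter_linear lam) (isCharacter_of_isIrr h)) ?_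
  rw [← classInner_isIrr_self h, classInner_def, classInner_def]
  congr 1
  refine Finset.sum_congr rfl fun g _ => ?_
  have h2 : (lam g : ℂ) * conj (lam g : ℂ) = 1 := by
    rw [Complex.mul_conj', linear_norm_eq_one lam g]; simp
  calc _ = ((lam g : ℂ) * conj (lam g : ℂ)) * (χ g * conj (χ g)) := by rw [map_mul]; ring
    _ = _ := by rw [h2, one_mul]

end Twist

/-! ## Linear characters -/

section Linear

variable [Finite G]

/-- A character of degree one, as a homomorphism. -/
noncomputable def linearOfDegreeOne {χ : G → ℂ} (h : Cfsg.IsCharacter G χ) (h1 : χ 1 = 1) :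
    G →* ℂˣ :=
  MonoidHom.toHomUnits
    { toFun := χ, map_one' := h1, map_mul' := char_mul_of_degree_one h h1 }

@[simp] theorem linearOfDegreeOne_apply {χ : G → ℂ} (h : Cfsg.IsCharacter G χ) (h1 : χ 1 = 1)
    (g : G) : (linearOfDegreeOne h h1 g : ℂ) = χ g := rfl

/-- Irreducible characters of degree one are the homomorphisms `G →* ℂˣ`. -/
noncomputable def linearEquiv :
    {χ : Cfsg.IrrCharacter G // (χ : G → ℂ) 1 = 1} ≃ (G →* ℂˣ) where
  toFun χ := linearOfDegreeOne (irr_isCharacter χ.1) χ.2
  invFun lam := ⟨⟨_, isIrrCharacter_linear lam⟩, by simp⟩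
  left_inv χ := by ext g; simp
  right_inv lam := by ext g; simp

/-- The number of linear characters is `|G : G'|`. -/
theorem card_linear_hom : Nat.card (G →* ℂˣ) = (commutator G).index := by
  haveI : NeZero (Monoid.exponent (Abelianization G)) := ⟨Monoid.exponent_ne_zero_of_finite⟩
  haveI : NeZero (Monoid.exponent (Abelianization G) : ℂ) :=
    ⟨Nat.cast_ne_zero.2 Monoid.exponent_ne_zero_of_finite⟩
  rw [Nat.card_congr (Abelianization.lift (G := G) (A := ℂˣ)),
    CommGroup.card_monoidHom_of_hasEnoughRootsOfUnity]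
  rfl

theorem card_degree_one :
    Nat.card {χ : Cfsg.IrrCharacter G // (χ : G → ℂ) 1 = 1} = (commutator G).index :=
  (Nat.card_congr linearEquiv).trans card_linear_hom

/-- In an abelian group every irreducible character is linear. -/
theorem irr_degree_one_of_comm (hcomm : ∀ a b : G, a * b = b * a) {χ : G → ℂ}
    (h : Cfsg.IsIrrCharacter G χ) : χ 1 = 1 := by
  obtain ⟨n, ρ, hρ, rfl⟩ := h
  haveI : IsMulCommutative G := ⟨⟨hcomm⟩⟩
  rw [ρ.char_one, Representation.IsIrreducible.finrank_eq_one_of_isMulCommutative ρ, Nat.cast_one]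

/-- All irreducible characters are linear exactly for abelian groups. -/
theorem comm_of_forall_degree_one (h : ∀ χ : Cfsg.IrrCharacter G, (χ : G → ℂ) 1 = 1) (a b : G) :
    a * b = b * a := by
  haveI := Fintype.ofFinite (Cfsg.IrrCharacter G)
  have h1 := sum_degree_sq (G := G)
  simp only [h, one_pow, Finset.sum_const, Finset.card_univ, nsmul_one,
    ← Nat.card_eq_fintype_card, card_irrCharacter, Nat.cast_inj] at h1
  have hbij : Function.Bijective (ConjClasses.mk : G → ConjClasses G) :=
    (Nat.bijective_iff_surjective_and_card _).2 ⟨ConjClasses.mk_surjective, h1.symm⟩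
  have h2 : a * b * a⁻¹ = b := hbij.1 (ConjClasses.mk_eq_mk_iff_isConj.2
    (isConj_iff.2 ⟨a⁻¹, by simp [mul_assoc]⟩))
  conv_rhs => rw [← h2]
  simp

end Linear

/-! ## Characters determine representations -/

/-- Representations with equal characters are equivalent. -/
theorem nonempty_equiv_of_character_eq [Finite G] {V : Type v} [AddCommGroup V] [Module ℂ V]
    [FiniteDimensional ℂ V] {W : Type w} [AddCommGroup W] [Module ℂ W] [FiniteDimensional ℂ W]
    (ρ : Representation ℂ G V) (σ : Representation ℂ G W) (h : ρ.character = σ.character) :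
    Nonempty (ρ.Equiv σ) := by
  haveI := Fintype.ofFinite G
  induction' hd : finrank ℂ V using Nat.strong_induction_on with d ih generalizing V W
  have hdim : finrank ℂ V = finrank ℂ W := by
    have := congrFun h 1
    rw [ρ.char_one, σ.char_one] at this
    exact_mod_cast this
  by_cases hsub : Subsingleton V
  · haveI : Subsingleton W :=
      Module.finrank_zero_iff.1 (hdim.symm.trans (Module.finrank_zero_of_subsingleton))
    exact ⟨Representation.Equiv.mk (LinearEquiv.ofSubsingleton V W)
      fun g => LinearMap.ext fun v => Subsingleton.elim _ _⟩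
  rw [not_subsingleton_iff_nontrivial] at hsub
  obtain ⟨U, hU, -, hU0, hirr⟩ := exists_irreducible_le ρ (C := ⊤)
    (fun g v _ => Submodule.mem_top) top_ne_bot
  haveI := hirr
  obtain ⟨U', hU', hc⟩ := exists_invariant_compl ρ hU
  set τ := subRep ρ U hU with hτ
  -- there is a nonzero intertwining map from `U` to `σ`
  obtain ⟨T, hT⟩ : ∃ T : Representation.IntertwiningMap τ σ, T ≠ 0 := by
    apply (Module.finrank_pos_iff_exists_ne_zero (R := ℂ)).1
    have h1 := classInner_character (G := G) τ σ
    rw [← h, character_eq_add_of_isCompl ρ hU hU' hc, classInner_add_left,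
      classInner_character τ τ, classInner_character τ (subRep ρ U' hU'),
      Representation.IsIrreducible.finrank_intertwiningMap_self, ← Nat.cast_add] at h1
    have := Nat.cast_injective h1
    omega
  have hinj : Function.Injective T :=
    (Representation.IsIrreducible.injective_or_eq_zero T).resolve_right hT
  have hW := isInvariantUnder_range (ρ := τ) (σ := σ) T.toLinearMap
    (fun g v => T.isIntertwining _ _ g v)
  obtain ⟨W', hW', hc'⟩ := exists_invariant_compl σ hW
  have φ : τ.Equiv (subRep σ _ hW) :=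
    Representation.Equiv.mk (LinearEquiv.ofInjective T.toLinearMap hinj) fun g =>
      LinearMap.ext fun v => Subtype.ext (T.isIntertwining _ _ g v)
  have hrest : (subRep ρ U' hU').character = (subRep σ W' hW').character := by
    have h2 := h
    rw [character_eq_add_of_isCompl ρ hU hU' hc, character_eq_add_of_isCompl σ hW hW' hc',
      Representation.char_iso φ] at h2
    exact add_left_cancel h2
  have hlt : finrank ℂ U' < d := by
    have := Submodule.finrank_add_eq_of_isCompl hc
    haveI := Submodule.nontrivial_iff_ne_bot.2 hU0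
    have : 0 < finrank ℂ U := Module.finrank_pos
    omega
  obtain ⟨ψ⟩ := ih _ hlt (subRep ρ U' hU') (subRep σ W' hW') hrest rfl
  refine ⟨Representation.Equiv.mk ((U.prodEquivOfIsCompl U' hc).symm.trans
    ((φ.toLinearEquiv.prodCongr ψ.toLinearEquiv).trans
      ((LinearMap.range T.toLinearMap).prodEquivOfIsCompl W' hc'))) fun g => ?_⟩
  ext v
  obtain ⟨⟨a, b⟩, rfl⟩ := (U.prodEquivOfIsCompl U' hc).surjective v
  have hg : ρ g ((U.prodEquivOfIsCompl U' hc) (a, b)) =
      (U.prodEquivOfIsCompl U' hc) (subRep ρ U hU g a, subRep ρ U' hU' g b) := by simp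
  simp only [LinearMap.comp_apply, LinearEquiv.coe_coe, hg, LinearEquiv.trans_apply,
    LinearEquiv.symm_apply_apply]
  simp only [LinearEquiv.prodCongr_apply, Submodule.coe_prodEquivOfIsCompl', map_add]
  exact congrArg₂ (· + ·) (congrArg Subtype.val (φ.toIntertwiningMap.isIntertwining _ _ g a))
    (congrArg Subtype.val (ψ.toIntertwiningMap.isIntertwining _ _ g b))

end Cfsg.Agent.Characters
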