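import Mathlib
import Cfsg.Agent.Lib.Characters.Kernel

/-!
# Averaging identities, counting classes with centralizers
-/

set_option linter.style.haveILetI false

namespace Cfsg.Agent.Characters

open Module
open scoped ComplexConjugate

universe u v

variable {G : Type u} [Group G]

/-- `∑_y χ(g y) χ̄(y) = |G| χ(g)/χ(1)`. -/
theorem sum_mul_conj_shift [Fintype G] {χ : G → ℂ} (h : Cfsg.IsIrrCharacter G χ) (g : G) :
    ∑ y : G, χ (g * y) * conj (χ y) = (Nat.card G : ℂ) * χ g / χ 1 := by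
  obtain ⟨n, ρ, hρ, rfl⟩ := h
  have hf : Cfsg.IsClassFunction G (fun y => conj (ρ.character y)) :=
    fun a b => by simp
  obtain ⟨c, hc⟩ := schur_scalar ρ (∑ y : G, conj (ρ.character y) • ρ y) (sum_smul_comm ρ hf)
  have htr := trace_sum_smul ρ (fun y => conj (ρ.character y))
  have h1 := classInner_isIrr_self (isIrrCharacter_character ρ)
  rw [classInner_def, inv_mul_eq_one₀ natCard_ne_zero] at h1
  have hd : (finrank ℂ (Fin n → ℂ) : ℂ) ≠ 0 :=
    Nat.cast_ne_zero.2 (finrank_pos_of_isIrreducible ρ).ne'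
  have hcv : c = (Nat.card G : ℂ) / (finrank ℂ (Fin n → ℂ) : ℂ) := by
    rw [hc, map_smul, LinearMap.trace_id, smul_eq_mul] at htr
    rw [eq_div_iff hd, h1, htr]
    exact Finset.sum_congr rfl fun y _ => mul_comm _ _
  have key := congrArg (fun L => LinearMap.trace ℂ (Fin n → ℂ) (ρ g * L)) hc
  simp only [Finset.mul_sum, map_sum, mul_smul_comm, map_smul, smul_eq_mul] at key
  rw [show (LinearMap.id : (Fin n → ℂ) →ₗ[ℂ] (Fin n → ℂ)) = 1 from rfl, mul_one] at key
  calc ∑ y : G, ρ.character (g * y) * conj (ρ.character y)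
      = ∑ y : G, conj (ρ.character y) * LinearMap.trace ℂ _ (ρ g * ρ y) := by
        refine Finset.sum_congr rfl fun y _ => ?_
        rw [← map_mul, mul_comm]; rfl
    _ = c * ρ.character g := key
    _ = _ := by rw [hcv, ρ.char_one]; ring

/-- `∑_x χ(a x b x⁻¹) = |G| χ(a) χ(b)/χ(1)`. -/
theorem sum_mul_conjugates [Fintype G] {χ : G → ℂ} (h : Cfsg.IsIrrCharacter G χ) (a b : G) :
    ∑ x : G, χ (a * (x * b * x⁻¹)) = (Nat.card G : ℂ) * χ a * χ b / χ 1 := by
  obtain ⟨n, ρ, hρ, rfl⟩ := h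
  obtain ⟨c, hc⟩ := schur_scalar ρ (∑ x : G, ρ (x * b * x⁻¹)) (fun g v => by
    simp only [LinearMap.sum_apply, map_sum]
    refine (Fintype.sum_equiv (Equiv.mulLeft g) _ _ fun x => ?_).symm
    rw [← Module.End.mul_apply, ← Module.End.mul_apply, ← map_mul, ← map_mul]
    simp [mul_assoc])
  have hd : (finrank ℂ (Fin n → ℂ) : ℂ) ≠ 0 :=
    Nat.cast_ne_zero.2 (finrank_pos_of_isIrreducible ρ).ne'
  have hcv : c = (Nat.card G : ℂ) * ρ.character b / (finrank ℂ (Fin n → ℂ) : ℂ) := by
    have htr := congrArg (LinearMap.trace ℂ (Fin n → ℂ)) hc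
    rw [map_sum, map_smul, LinearMap.trace_id, smul_eq_mul] at htr
    rw [eq_div_iff hd, ← htr]
    show ∑ x : G, ρ.character (x * b * x⁻¹) = _
    simp only [Representation.char_conj, Finset.sum_const, Finset.card_univ, nsmul_eq_mul,
      Nat.card_eq_fintype_card]
  have key := congrArg (fun L => LinearMap.trace ℂ (Fin n → ℂ) (ρ a * L)) hc
  simp only [Finset.mul_sum, map_sum, ← map_mul, mul_smul_comm, map_smul, smul_eq_mul] at key
  rw [show (LinearMap.id : (Fin n → ℂ) →ₗ[ℂ] (Fin n → ℂ)) = 1 from rfl, mul_one] at key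
  calc ∑ x : G, ρ.character (a * (x * b * x⁻¹)) = c * ρ.character a := key
    _ = _ := by rw [hcv, ρ.char_one]; ring

/-- `∑_{g, P(g^G)} |C(g)| = |G| #{classes with P}`. -/
theorem sum_card_centralizer [Fintype G] (P : ConjClasses G → Prop) [DecidablePred P] :
    ∑ g : G, (if P (ConjClasses.mk g) then
      (Nat.card (Subgroup.centralizer ({g} : Set G)) : ℂ) else 0) =
      (Nat.card G : ℂ) * Nat.card {C : ConjClasses G // P C} := by
  classical
  haveI := Fintype.ofFinite (ConjClasses G)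
  rw [← Finset.sum_fiberwise_of_maps_to (g := ConjClasses.mk) (t := Finset.univ)
    (fun x _ => Finset.mem_univ _)]
  rw [Nat.card_eq_fintype_card (α := {C : ConjClasses G // P C}), Fintype.card_subtype,
    ← Finset.sum_boole, Finset.mul_sum]
  refine Finset.sum_congr rfl fun C _ => ?_
  obtain ⟨a, rfl⟩ := ConjClasses.mk_surjective C
  by_cases hP : P (ConjClasses.mk a)
  · rw [if_pos hP, mul_one, ← card_carrier_mul_card_centralizer a, Nat.cast_mul]
    rw [Finset.sum_congr rfl (g := fun _ =>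
      (Nat.card (Subgroup.centralizer ({a} : Set G)) : ℂ)) fun g hg => ?_, Finset.sum_const,
      nsmul_eq_mul]
    · congr 2
      rw [Nat.card_eq_fintype_card, Fintype.card_subtype]
      congr 1
      ext x
      simp [ConjClasses.mem_carrier_iff_mk_eq]
    · have hga := (Finset.mem_filter.1 hg).2
      rw [hga, if_pos hP]
      have h1 := card_carrier_mul_card_centralizer g
      have h2 := card_carrier_mul_card_centralizer a
      rw [hga, ← h2] at h1
      haveI : Nonempty (ConjClasses.mk a).carrier := ⟨⟨a, ConjClasses.mem_carrier_mk⟩⟩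
      rw [Nat.eq_of_mul_eq_mul_left Nat.card_pos h1]
  · rw [if_neg hP, mul_zero]
    exact Finset.sum_eq_zero fun g hg => by rw [(Finset.mem_filter.1 hg).2, if_neg hP]

/-- Degree bound from a nonzero inner product. -/
theorem irr_degree_le [Fintype G] {ξ χ : G → ℂ} (hξ : Cfsg.IsCharacter G ξ)
    (hχ : Cfsg.IsIrrCharacter G χ) (hne : Cfsg.classInner ξ χ ≠ 0) :
    (χ 1).re ≤ (ξ 1).re := by
  haveI := Fintype.ofFinite (Cfsg.IrrCharacter G)
  obtain ⟨m, hm⟩ := classInner_char_nat hξ (isCharacter_of_isIrr hχ)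
  have hm1 : 1 ≤ m := by
    rcases Nat.eq_zero_or_pos m with h | h
    · exact absurd (by rw [hm, h, Nat.cast_zero]) hne
    · exact h
  obtain ⟨d, -, hd⟩ := irr_one_pos hχ
  have hsum := congrFun (classFun_eq_sum (char_isClassFunction hξ)) 1
  simp only [Finset.sum_apply, Pi.smul_apply, smul_eq_mul] at hsum
  have key : ∀ ψ : Cfsg.IrrCharacter G, ∃ k : ℕ,
      Cfsg.classInner ξ (ψ : G → ℂ) * (ψ : G → ℂ) 1 = (k : ℂ) := fun ψ => by
    obtain ⟨a, ha⟩ := classInner_char_nat hξ (irr_isCharacter ψ)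
    obtain ⟨b, hb⟩ := char_one_nat (irr_isCharacter ψ)
    exact ⟨a * b, by rw [ha, hb, Nat.cast_mul]⟩
  choose k hk using key
  simp only [hk] at hsum
  have hle : d ≤ ∑ ψ, k ψ := by
    refine le_trans ?_ (Finset.single_le_sum (fun _ _ => Nat.zero_le _)
      (Finset.mem_univ (⟨χ, hχ⟩ : Cfsg.IrrCharacter G)))
    have h1 := hk ⟨χ, hχ⟩
    simp only [hm, hd] at h1
    have h2 : m * d = k ⟨χ, hχ⟩ := by exact_mod_cast h1
    rw [← h2]
    exact Nat.le_mul_of_pos_left d hm1
  rw [hsum, hd, ← Nat.cast_sum, Complex.natCast_re, Complex.natCast_re]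
  exact_mod_cast hle

/-- The complex conjugation permutation of the irreducible characters. -/
noncomputable def irrConjEquiv (G : Type u) [Group G] [Finite G] :
    Cfsg.IrrCharacter G ≃ Cfsg.IrrCharacter G :=
  Function.Involutive.toPerm
    (fun χ => ⟨fun g => conj ((χ : G → ℂ) g), isIrrCharacter_conj χ.2⟩)
    (fun χ => by ext g; simp)

@[simp] theorem irrConjEquiv_coe [Finite G] (χ : Cfsg.IrrCharacter G) (g : G) :
    (irrConjEquiv G χ : G → ℂ) g = conj ((χ : G → ℂ) g) := rfl

/-- The permutation of the irreducible characters induced by an automorphism. -/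
noncomputable def irrAutEquiv (α : G ≃* G) : Cfsg.IrrCharacter G ≃ Cfsg.IrrCharacter G where
  toFun χ := ⟨(χ : G → ℂ) ∘ α, (isIrrCharacter_comp_mulEquiv α).2 χ.2⟩
  invFun χ := ⟨(χ : G → ℂ) ∘ α.symm, (isIrrCharacter_comp_mulEquiv α.symm).2 χ.2⟩
  left_inv χ := by ext g; simp
  right_inv χ := by ext g; simp

end Cfsg.Agent.Characters
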