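import Mathlib
import Cfsg.Agent.Lib.Characters.Counting

/-!
# Conjugation on characters of a normal subgroup; basic Clifford theory
-/

set_option linter.style.haveILetI false

namespace Cfsg.Agent.Characters

open Module
open scoped ComplexConjugate

universe u

variable {G : Type u} [Group G] (N : Subgroup G) [hN : N.Normal]

/-- `θ^g (n) = θ (g n g⁻¹)`. -/
def conjFun (θ : N → ℂ) (g : G) : N → ℂ := fun n => θ ⟨g * n * g⁻¹, hN.conj_mem n n.2 g⟩

/-- Conjugation by `g` as an automorphism of `N`. -/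
def conjAut (g : G) : N ≃* N := MulAut.conjNormal g

theorem conjFun_eq_comp (θ : N → ℂ) (g : G) : conjFun N θ g = θ ∘ conjAut N g := rfl

theorem conjFun_mul (θ : N → ℂ) (g h : G) :
    conjFun N θ (g * h) = conjFun N (conjFun N θ g) h := by
  funext n
  simp [conjFun, mul_assoc]

theorem isIrrCharacter_conjFun {θ : N → ℂ} (hθ : Cfsg.IsIrrCharacter N θ) (g : G) :
    Cfsg.IsIrrCharacter N (conjFun N θ g) :=
  (isIrrCharacter_comp_mulEquiv (conjAut N g)).2 hθ

theorem isCharacter_conjFun {θ : N → ℂ} (hθ : Cfsg.IsCharacter N θ) (g : G) :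
    Cfsg.IsCharacter N (conjFun N θ g) :=
  isCharacter_comp (conjAut N g).toMonoidHom hθ

/-- Restriction of an induced function to a normal subgroup. -/
theorem indFun_restrict_normal [Fintype G] (θ : N → ℂ) :
    (fun n : N => Cfsg.indFun N θ n) = (Nat.card N : ℂ)⁻¹ • ∑ x : G, conjFun N θ x⁻¹ := by
  funext n
  simp only [Cfsg.indFun, Pi.smul_apply, Finset.sum_apply, smul_eq_mul]
  congr 1
  refine Finset.sum_congr rfl fun x _ => ?_
  have hmem : x⁻¹ * n * x ∈ N := by simpa using hN.conj_mem n n.2 x⁻¹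
  rw [CharTheory.IndBasic.extendByZero_of_mem N θ hmem]
  simp [conjFun]

/-- Inner product of an induced character with itself via the inertia group. -/
theorem card_mul_classInner_indFun [Fintype G] {θ : N → ℂ} (hθ : Cfsg.IsIrrCharacter N θ) :
    (Nat.card N : ℂ) * Cfsg.classInner (Cfsg.indFun N θ) (Cfsg.indFun N θ) =
      (Nat.card {g : G // conjFun N θ g = θ} : ℂ) := by
  classical
  haveI := Fintype.ofFinite N
  rw [frobenius_reciprocity N θ (indFun_isClassFunction N θ), indFun_restrict_normal,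
    classInner_smul_right, map_inv₀, Complex.conj_natCast, ← mul_assoc,
    mul_inv_cancel₀ (Nat.cast_ne_zero.2 Nat.card_pos.ne'), one_mul, classInner_sum_right]
  have hval : ∀ x : G, Cfsg.classInner θ (conjFun N θ x⁻¹) =
      if conjFun N θ x⁻¹ = θ then 1 else 0 := fun x => by
    split_ifs with h
    · rw [h]; exact classInner_isIrr_self hθ
    · exact classInner_isIrr_ne hθ (isIrrCharacter_conjFun N hθ _) (Ne.symm h)
  simp only [hval]
  rw [Finset.sum_boole, Nat.card_eq_fintype_card, Fintype.card_subtype]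
  congr 1
  refine Finset.card_equiv (Equiv.inv G) fun x => ?_
  simp

/-- Constituents of the restriction to a normal subgroup are conjugate. -/
theorem exists_conjugate_of_constituents [Fintype G] [Fintype N] {χ : G → ℂ}
    (hχ : Cfsg.IsIrrCharacter G χ) {θ ψ : N → ℂ} (hθ : Cfsg.IsIrrCharacter N θ)
    (hψ : Cfsg.IsIrrCharacter N ψ) (h1 : Cfsg.classInner (fun n : N => χ n) θ ≠ 0)
    (h2 : Cfsg.classInner (fun n : N => χ n) ψ ≠ 0) : ∃ g : G, ψ = conjFun N θ g := by
  classical
  by_contra hcon
  push Not at hcon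
  haveI := Fintype.ofFinite (Cfsg.IrrCharacter G)
  set I := Cfsg.indFun N θ with hI
  have hIc : Cfsg.IsCharacter G I := isCharacter_indFun N (isCharacter_of_isIrr hθ)
  -- the restriction of `I` is orthogonal to `ψ`
  have h0 : Cfsg.classInner (fun n : N => I n) ψ = 0 := by
    rw [hI, indFun_restrict_normal, classInner_smul_left, classInner_sum_left,
      Finset.sum_eq_zero, mul_zero]
    exact fun x _ => classInner_isIrr_ne (isIrrCharacter_conjFun N hθ _) hψ (hcon _).symm
  obtain ⟨m, hm⟩ := char_eq_sum_nat hIc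
  have hres : (fun n : N => I n) =
      ∑ ξ : Cfsg.IrrCharacter G, (m ξ : ℂ) • (fun n : N => (ξ : G → ℂ) n) := by
    rw [hm]; funext n; simp [Finset.sum_apply]
  rw [hres, classInner_sum_left] at h0
  simp only [classInner_smul_left] at h0
  have hnat : ∀ ξ : Cfsg.IrrCharacter G,
      ∃ k : ℕ, (m ξ : ℂ) * Cfsg.classInner (fun n : N => (ξ : G → ℂ) n) ψ = (k : ℂ) := fun ξ => by
    obtain ⟨a, ha⟩ := classInner_char_nat (isCharacter_restrict N (irr_isCharacter ξ))
      (isCharacter_of_isIrr hψ)
    exact ⟨m ξ * a, by rw [ha, Nat.cast_mul]⟩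
  choose k hk using hnat
  simp only [hk, ← Nat.cast_sum, Nat.cast_eq_zero, Finset.sum_eq_zero_iff] at h0
  have h3 := hk ⟨χ, hχ⟩
  rw [h0 _ (Finset.mem_univ _), Nat.cast_zero, mul_eq_zero] at h3
  have hmχ : (m ⟨χ, hχ⟩ : ℂ) = Cfsg.classInner I χ := by
    rw [hm]
    have := classInner_sum_smul_irr (c := fun ξ : Cfsg.IrrCharacter G => (m ξ : ℂ)) Finset.univ
      ⟨χ, hχ⟩
    rw [this, if_pos (Finset.mem_univ _)]
  rw [hmχ] at h3
  refine h3.elim (fun h => h1 ?_) h2
  rw [hI, frobenius_reciprocity N θ (char_isClassFunction (isCharacter_of_isIrr hχ))] at h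
  rw [classInner_conj_symm θ, h, map_zero]

/-- The multiplicities of the constituents of a restriction are equal. -/
theorem classInner_conjFun [Fintype N] {χ : G → ℂ} (hχ : Cfsg.IsClassFunction G χ)
    (θ : N → ℂ) (g : G) :
    Cfsg.classInner (fun n : N => χ n) (conjFun N θ g) =
      Cfsg.classInner (fun n : N => χ n) θ := by
  rw [classInner_def, classInner_def]
  congr 1
  refine Fintype.sum_equiv (conjAut N g).toEquiv _ _ fun n => ?_
  show χ n * conj (θ (conjAut N g n)) = χ (g * n * g⁻¹) * conj (θ (conjAut N g n))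
  rw [hχ]

end Cfsg.Agent.Characters
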