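import Mathlib
import Cfsg.Agent.Lib.Characters.Kernel

/-!
# Integrality: central characters, degrees divide the group order, averages of roots of unity
-/

set_option linter.style.haveILetI false

namespace Cfsg.Agent.Characters

open Module
open scoped ComplexConjugate

universe u v w

/-! ## Algebraic integers -/

/-- A rational number which is an algebraic integer in `ℂ` is an integer. -/
theorem exists_int_of_isIntegral_ratCast {q : ℚ} (h : IsIntegral ℤ (q : ℂ)) :
    ∃ z : ℤ, (q : ℂ) = (z : ℂ) := by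
  have h' : IsIntegral ℤ q :=
    (isIntegral_algHom_iff ((algebraMap ℚ ℂ).toIntAlgHom) (algebraMap ℚ ℂ).injective).1 (by simpa using h)
  obtain ⟨z, hz⟩ := IsIntegrallyClosed.isIntegral_iff.1 h'
  exact ⟨z, by rw [← hz]; simp⟩

/-- If `a / b` is an algebraic integer then `b ∣ a`. -/
theorem dvd_of_isIntegral_div {a b : ℕ} (hb : b ≠ 0) (h : IsIntegral ℤ ((a : ℂ) / (b : ℂ))) :
    b ∣ a := by
  obtain ⟨z, hz⟩ := exists_int_of_isIntegral_ratCast (q := (a : ℚ) / b) (by simpa using h)
  rw [Rat.cast_div, Rat.cast_natCast, Rat.cast_natCast,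
    div_eq_iff (Nat.cast_ne_zero.2 hb)] at hz
  have : (a : ℤ) = z * b := by exact_mod_cast hz
  exact Int.natCast_dvd_natCast.1 ⟨z, by rw [this, mul_comm]⟩

theorem isIntegral_conj {z : ℂ} (h : IsIntegral ℤ z) : IsIntegral ℤ (conj z) :=
  IsIntegral.map (starRingEnd ℂ).toIntAlgHom h

/-- An average of roots of unity that is an algebraic integer is zero or has norm one. -/
theorem norm_eq_one_of_average_isIntegral {ι : Type*} [Fintype ι] (w : ι → ℂ) {N : ℕ}
    (hN : 0 < N) (hw : ∀ i, w i ^ N = 1) (hne : Fintype.card ι ≠ 0)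
    (h : IsIntegral ℤ ((∑ i, w i) / (Fintype.card ι : ℂ))) :
    ∑ i, w i = 0 ∨ ‖∑ i, w i‖ = (Fintype.card ι : ℝ) := by
  classical
  by_contra hcon
  push Not at hcon
  obtain ⟨hS, hnorm⟩ := hcon
  have hint : ∀ x ∈ Set.range w, IsIntegral ℚ x := by
    rintro _ ⟨i, rfl⟩
    exact IsIntegral.of_pow hN (hw i ▸ isIntegral_one)
  let K := IntermediateField.adjoin ℚ (Set.range w)
  haveI : FiniteDimensional ℚ K := IntermediateField.finiteDimensional_adjoin hint
  haveI : NumberField K := { to_charZero := inferInstance, to_finiteDimensional := inferInstance }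
  let w' : ι → K := fun i => ⟨w i, IntermediateField.subset_adjoin ℚ _ ⟨i, rfl⟩⟩
  let x : K := (∑ i, w' i) / (Fintype.card ι : K)
  have hx : algebraMap K ℂ x = (∑ i, w i) / (Fintype.card ι : ℂ) := by
    simp [x, map_sum, w']
  have hxi : IsIntegral ℤ x :=
    (isIntegral_algebraMap_iff (B := ℂ) (algebraMap K ℂ).injective).1 (hx.symm ▸ h)
  have hx0 : x ≠ 0 := by
    intro h0
    rw [h0, map_zero, eq_comm, div_eq_zero_iff] at hx
    exact hx.elim hS (Nat.cast_ne_zero.2 hne)
  have hbound : ∀ φ : K →+* ℂ, ‖φ x‖ ≤ 1 := by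
    intro φ
    simp only [x, map_div₀, map_natCast, map_sum, norm_div, Complex.norm_natCast]
    rw [div_le_one (Nat.cast_pos.2 (Nat.pos_of_ne_zero hne))]
    refine (norm_sum_le _ _).trans (le_of_eq ?_)
    have : ∀ i, ‖φ (w' i)‖ = 1 := fun i =>
      Complex.norm_eq_one_of_pow_eq_one
        (by rw [← map_pow, show w' i ^ N = 1 from Subtype.ext (by simpa [w'] using hw i), map_one])
        hN.ne'
    simp [this]
  obtain ⟨n, hn, hpow⟩ := NumberField.Embeddings.pow_eq_one_of_norm_le_one K ℂ hx0 hxi hbound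
  have h1 : ‖algebraMap K ℂ x‖ = 1 :=
    Complex.norm_eq_one_of_pow_eq_one (by rw [← map_pow, hpow, map_one]) hn.ne'
  rw [hx, norm_div, Complex.norm_natCast, div_eq_one_iff_eq (Nat.cast_ne_zero.2 hne)] at h1
  exact hnorm h1

variable {G : Type u} [Group G]

/-! ## Central characters -/

section Central

variable [Finite G] {V : Type v} [AddCommGroup V] [Module ℂ V] [FiniteDimensional ℂ V]
  (ρ : Representation ℂ G V) [ρ.IsIrreducible]

/-- `(∑_{g ∈ S} χ g) / χ 1` is an algebraic integer for a conjugation invariant set `S`. -/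
theorem central_char_isIntegral (S : Finset G) (hS : ∀ g h : G, g ∈ S → h * g * h⁻¹ ∈ S) :
    IsIntegral ℤ ((∑ g ∈ S, ρ.character g) / (finrank ℂ V : ℂ)) := by
  classical
  haveI := Fintype.ofFinite G
  let f : G → ℂ := fun g => if g ∈ S then 1 else 0
  have hf : Cfsg.IsClassFunction G f := fun g x => by
    have : x * g * x⁻¹ ∈ S ↔ g ∈ S :=
      ⟨fun h => by simpa [mul_assoc] using hS _ x⁻¹ h, hS g x⟩
    simp only [f, this]
  obtain ⟨c, hc⟩ := schur_scalar ρ (∑ g : G, f g • ρ g) (sum_smul_comm ρ hf)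
  have htr := trace_sum_smul ρ f
  rw [hc, map_smul, LinearMap.trace_id, smul_eq_mul] at htr
  have hd : (finrank ℂ V : ℂ) ≠ 0 := Nat.cast_ne_zero.2 (finrank_pos_of_isIrreducible ρ).ne'
  have hsum : ∑ g : G, f g * ρ.character g = ∑ g ∈ S, ρ.character g := by
    simp [f, Finset.sum_ite_mem]
  rw [← hsum, ← htr, mul_div_cancel_right₀ _ hd]
  -- `c • id` is in the image of `ℤ[G]`
  let Φ : MonoidAlgebra ℤ G →ₐ[ℤ] Module.End ℂ V :=
    MonoidAlgebra.lift ℤ (Module.End ℂ V) G ρ
  let x : MonoidAlgebra ℤ G := ∑ g ∈ S, MonoidAlgebra.of ℤ G g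
  have hΦ : Φ x = algebraMap ℂ (Module.End ℂ V) c := by
    rw [Algebra.algebraMap_eq_smul_one]
    show _ = c • (LinearMap.id : V →ₗ[ℂ] V)
    rw [← hc]
    simp [Φ, x, f, MonoidAlgebra.lift_single, Finset.sum_ite_mem]
  haveI : Module.Finite ℤ (MonoidAlgebra ℤ G) := Module.Finite.of_basis (MonoidAlgebra.basis G ℤ)
  have hi : IsIntegral ℤ (Φ x) := (IsIntegral.of_finite (R := ℤ) x).map Φ
  rw [hΦ] at hi
  haveI := nontrivial_of_isIrreducible ρ
  exact (isIntegral_algebraMap_iff (B := Module.End ℂ V) (A := ℂ)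
    (FaithfulSMul.algebraMap_injective ℂ (Module.End ℂ V))).1 hi

theorem classCard_eq_index (g : G) :
    Nat.card (ConjClasses.mk g).carrier = (Subgroup.centralizer ({g} : Set G)).index := by
  have h1 := card_carrier_mul_card_centralizer g
  have h2 := (Subgroup.centralizer ({g} : Set G)).card_mul_index
  rw [mul_comm] at h1
  exact Nat.eq_of_mul_eq_mul_left Nat.card_pos (h1.trans h2.symm)

/-- `|g^G| χ(g) / χ(1)` is an algebraic integer. -/
theorem class_central_char_isIntegral (g : G) :
    IsIntegral ℤ (((Subgroup.centralizer ({g} : Set G)).index : ℂ) * ρ.character g /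
      (finrank ℂ V : ℂ)) := by
  classical
  haveI := Fintype.ofFinite G
  let S : Finset G := Finset.univ.filter fun x => x ∈ (ConjClasses.mk g).carrier
  have hmem : ∀ x : G, x ∈ S ↔ IsConj x g := fun x => by
    simp [S, ConjClasses.mem_carrier_iff_mk_eq, ConjClasses.mk_eq_mk_iff_isConj]
  have hcard : S.card = (Subgroup.centralizer ({g} : Set G)).index := by
    rw [← classCard_eq_index g, Nat.card_eq_fintype_card, Fintype.card_subtype]
  have h := central_char_isIntegral ρ S fun x y hx =>
    (hmem _).2 (((isConj_iff.2 ⟨y, rfl⟩ : IsConj x (y * x * y⁻¹)).symm).trans ((hmem x).1 hx))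
  rw [Finset.sum_congr rfl (g := fun _ => ρ.character g) fun x hx => by
      obtain ⟨y, hy⟩ := isConj_iff.1 ((hmem x).1 hx)
      rw [← hy, ρ.char_conj], Finset.sum_const, nsmul_eq_mul, hcard] at h
  exact h

include ρ in
/-- The degree of an irreducible representation divides the group order. -/
theorem finrank_dvd_card : finrank ℂ V ∣ Nat.card G := by
  classical
  haveI := Fintype.ofFinite G
  haveI := Fintype.ofFinite (ConjClasses G)
  refine dvd_of_isIntegral_div (finrank_pos_of_isIrreducible ρ).ne' ?_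
  have h1 := classInner_isIrr_self (isIrrCharacter_character ρ)
  rw [classInner_def, inv_mul_eq_one₀ natCard_ne_zero] at h1
  rw [h1, ← Finset.sum_fiberwise_of_maps_to (g := ConjClasses.mk) (t := Finset.univ)
    (fun x _ => Finset.mem_univ _), Finset.sum_div]
  refine IsIntegral.sum _ fun C _ => ?_
  obtain ⟨a, rfl⟩ := ConjClasses.mk_surjective C
  have hconj : ∀ x ∈ Finset.univ.filter (fun x => ConjClasses.mk x = ConjClasses.mk a),
      ρ.character x = ρ.character a := fun x hx => by
    obtain ⟨y, hy⟩ := isConj_iff.1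
      (ConjClasses.mk_eq_mk_iff_isConj.1 (Finset.mem_filter.1 hx).2)
    rw [← hy, ρ.char_conj]
  rw [Finset.sum_congr rfl (g := fun x => ρ.character x * conj (ρ.character a))
    fun x hx => by rw [hconj x hx], ← Finset.sum_mul, mul_div_right_comm]
  refine IsIntegral.mul ?_ (isIntegral_conj (rep_value_isIntegral ρ a))
  refine central_char_isIntegral ρ _ fun x y hx => ?_
  rw [Finset.mem_filter] at hx ⊢
  exact ⟨Finset.mem_univ _, (ConjClasses.mk_eq_mk_iff_isConj.2
    (isConj_iff.2 ⟨y, rfl⟩ : IsConj x (y * x * y⁻¹))).symm.trans hx.2⟩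

/-- Burnside's lemma on character values. -/
theorem char_eq_zero_or_norm_eq_of_coprime (g : G)
    (hcop : Nat.Coprime (finrank ℂ V) (Subgroup.centralizer ({g} : Set G)).index) :
    ρ.character g = 0 ∨ ‖ρ.character g‖ = (finrank ℂ V : ℝ) := by
  classical
  obtain ⟨w, hw, h⟩ := exists_rootsOfUnity_sum ρ g
  have h1 := h 1
  simp only [pow_one] at h1
  have hd : finrank ℂ V ≠ 0 := (finrank_pos_of_isIrreducible ρ).ne'
  have hint : IsIntegral ℤ (ρ.character g / (finrank ℂ V : ℂ)) := by
    set m := (Subgroup.centralizer ({g} : Set G)).index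
    have hbz := Nat.gcd_eq_gcd_ab (finrank ℂ V) m
    rw [Nat.coprime_iff_gcd_eq_one.1 hcop] at hbz
    have hbz' := congrArg (fun z : ℤ => (z : ℂ)) hbz
    push_cast at hbz'
    have : ρ.character g / (finrank ℂ V : ℂ) =
        (Nat.gcdA (finrank ℂ V) m : ℂ) * ρ.character g +
          (Nat.gcdB (finrank ℂ V) m : ℂ) * ((m : ℂ) * ρ.character g / (finrank ℂ V : ℂ)) := by
      field_simp
      linear_combination (ρ.character g) * hbz'
    rw [this]
    exact ((isIntegral_algebraMap (x := (Nat.gcdA (finrank ℂ V) m : ℤ))).mul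
      (rep_value_isIntegral ρ g)).add
      ((isIntegral_algebraMap (x := (Nat.gcdB (finrank ℂ V) m : ℤ))).mul
        (class_central_char_isIntegral ρ g))
  have := norm_eq_one_of_average_isIntegral w (orderOf_pos g) hw (by simpa using hd)
    (by simpa [← h1] using hint)
  simpa [← h1] using this

end Central

/-- The degree of an irreducible character divides the group order. -/
theorem irr_degree_dvd_card [Finite G] {χ : G → ℂ} (h : Cfsg.IsIrrCharacter G χ) :
    ∃ n : ℕ, χ 1 = (n : ℂ) ∧ 0 < n ∧ n ∣ Nat.card G := by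
  obtain ⟨n, ρ, hρ, rfl⟩ := h
  exact ⟨_, ρ.char_one, finrank_pos_of_isIrreducible ρ, finrank_dvd_card ρ⟩

end Cfsg.Agent.Characters
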