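import Mathlib
import Cfsg.Agent.Lib.Characters.Counting
import Cfsg.Agent.Lib.Characters.Integrality
import Cfsg.Agent.S0854

/-!
# Monomial characters: Taketa's theorem, nilpotent groups are monomial
-/

set_option linter.style.haveILetI false

namespace Cfsg.Agent.Characters.Monomial

open Module
open scoped ComplexConjugate commutatorElement
open CharTheory

universe u v

variable {G : Type u} [Group G]

theorem indFun_top [Fintype G] {θ : G → ℂ} (hθ : Cfsg.IsClassFunction G θ) :
    Cfsg.indFun (⊤ : Subgroup G) (fun x => θ x) = θ := by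
  funext g
  haveI := Fintype.ofFinite (⊤ : Subgroup G)
  apply mul_left_cancel₀ (natCard_ne_zero (G := (⊤ : Subgroup G)))
  rw [IndBasic.card_mul_indFun, Subgroup.card_top, Finset.sum_congr rfl (g := fun _ => θ g) fun x _ => ?_]
  · simp [Nat.card_eq_fintype_card]
  · rw [IndBasic.extendByZero_of_mem _ _ (Subgroup.mem_top _)]
    simpa using hθ g x⁻¹

/-- Induction commutes with inflation. -/
theorem indFun_comap [Fintype G] {Q : Type v} [Group Q] [Fintype Q] (π : G →* Q)
    (hπ : Function.Surjective π) (H : Subgroup Q) (θ : H → ℂ) :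
    Cfsg.indFun (H.comap π) (fun x => θ ⟨π x, x.2⟩) = Cfsg.indFun H θ ∘ π := by
  funext g
  have hext : ∀ y : G, Cfsg.extendByZero (H.comap π) (fun x => θ ⟨π x, x.2⟩) y =
      Cfsg.extendByZero H θ (π y) := by
    intro y
    by_cases hy : π y ∈ H
    · rw [IndBasic.extendByZero_of_mem _ _ hy, IndBasic.extendByZero_of_mem _ _ (show y ∈ H.comap π from hy)]
    · rw [IndBasic.extendByZero_of_notMem _ _ hy,
        IndBasic.extendByZero_of_notMem _ _ (show y ∉ H.comap π from hy)]
  have havg := classInner_comp_surjective π hπ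
    (fun y => Cfsg.extendByZero H θ (y⁻¹ * π g * y)) (fun _ => 1)
  rw [classInner_def, classInner_def] at havg
  simp only [Function.comp_apply, map_one, mul_one] at havg
  simp only [Function.comp_apply, Cfsg.indFun, hext, map_mul, map_inv]
  have hG : (Nat.card G : ℂ) = (Nat.card (H.comap π) : ℂ) * (H.index : ℂ) := by
    rw [← Nat.cast_mul, ← Subgroup.index_comap_of_surjective H hπ, Subgroup.card_mul_index]
  have hQ : (Nat.card Q : ℂ) = (Nat.card H : ℂ) * (H.index : ℂ) := by
    rw [← Nat.cast_mul, Subgroup.card_mul_index]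
  rw [hG, hQ, mul_inv, mul_inv] at havg
  have hi : ((H.index : ℂ))⁻¹ ≠ 0 := inv_ne_zero (Nat.cast_ne_zero.2 H.index_ne_zero_of_finite)
  apply mul_left_cancel₀ hi
  linear_combination havg

/-- Taketa: a monomial group is solvable. -/
theorem isSolvable_of_monomial [Fintype G]
    (hM : ∀ χ : G → ℂ, Cfsg.IsIrrCharacter G χ →
      ∃ (H : Subgroup G) (lam : H →* ℂˣ), χ = Cfsg.indFun H (fun h => (lam h : ℂ))) :
    Group.IsSolvable G := by
  classical
  have key : ∀ d : ℕ, ∀ χ : G → ℂ, Cfsg.IsIrrCharacter G χ → (χ 1).re ≤ d →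
      ∀ x ∈ derivedSeries G d, χ x = χ 1 := by
    intro d
    induction d with
    | zero =>
      intro χ hχ hle
      obtain ⟨n, hn, he⟩ := irr_one_pos hχ
      rw [he, Complex.natCast_re] at hle
      have : n ≤ 0 := by exact_mod_cast hle
      omega
    | succ d ih =>
      intro χ hχ hle x hx
      obtain ⟨H, lam, rfl⟩ := hM χ hχ
      haveI := Fintype.ofFinite H
      rw [indFun_one, map_one, Units.val_one, mul_one, Complex.natCast_re] at hle
      have hle' : H.index ≤ d + 1 := by exact_mod_cast hle
      -- the (d)-th derived subgroup lies in `H` unless `H = ⊤`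
      have hDH : derivedSeries G d ≤ H := by
        rcases Nat.eq_zero_or_pos d with hd | hd
        · subst hd
          have : H.index = 1 := by
            have := H.index_ne_zero_of_finite; omega
          rw [Subgroup.index_eq_one.1 this]; exact le_top
        intro z hz
        set ξ : G → ℂ := Cfsg.indFun H (fun _ => 1) with hξ
        have hξc : Cfsg.IsCharacter G ξ := isCharacter_indFun H isCharacter_one
        haveI := Fintype.ofFinite (Cfsg.IrrCharacter G)
        have htriv : Cfsg.classInner ξ (fun _ => 1) = 1 := by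
          have hcl1 : Cfsg.IsClassFunction G fun _ => (1 : ℂ) := fun _ _ => rfl
          rw [hξ, frobenius_reciprocity H _ hcl1]
          exact classInner_isIrr_self isIrrCharacter_one
        have hξ1c : Cfsg.IsCharacter G (ξ - fun _ => 1) := by
          refine isCharacter_of_classInner_nat (fun a b => ?_) fun ψ hψ => ?_
          · simp [indFun_isClassFunction H (fun _ => 1) a b, hξ]
          · rw [classInner_sub_left]
            by_cases h1 : ψ = fun _ => 1
            · subst h1
              exact ⟨0, by rw [htriv, classInner_isIrr_self isIrrCharacter_one]; simp⟩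
            · obtain ⟨n, hn⟩ := classInner_char_nat hξc (isCharacter_of_isIrr hψ)
              exact ⟨n, by rw [classInner_isIrr_ne isIrrCharacter_one hψ (Ne.symm h1), sub_zero, hn]⟩
        have hker : ∀ ψ : Cfsg.IrrCharacter G, Cfsg.classInner ξ (ψ : G → ℂ) ≠ 0 →
            (ψ : G → ℂ) z = (ψ : G → ℂ) 1 := by
          intro ψ hne
          by_cases h1 : (ψ : G → ℂ) = fun _ => 1
          · rw [h1]
          refine ih _ ψ.2 ?_ z hz
          refine (irr_degree_le hξ1c ψ.2 ?_).trans ?_
          · rw [classInner_sub_left, classInner_isIrr_ne isIrrCharacter_one ψ.2 (Ne.symm h1),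
              sub_zero]
            exact hne
          · rw [Pi.sub_apply, hξ, indFun_one, mul_one, Complex.sub_re, Complex.natCast_re,
              Complex.one_re]
            have : (H.index : ℝ) ≤ (d : ℝ) + 1 := by exact_mod_cast hle'
            linarith
        have hξz : ξ z = ξ 1 := by
          have hexp := classFun_eq_sum (char_isClassFunction hξc)
          rw [hexp]
          simp only [Finset.sum_apply, Pi.smul_apply, smul_eq_mul]
          refine Finset.sum_congr rfl fun ψ _ => ?_
          by_cases h0 : Cfsg.classInner ξ (ψ : G → ℂ) = 0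
          · rw [h0, zero_mul, zero_mul]
          · rw [hker ψ h0]
        rw [hξ, IndBasic.indFun_one_eq_card_fixed, indFun_one, mul_one, Nat.cast_inj,
          H.index_eq_card] at hξz
        have hall : ∀ c : G ⧸ H, z • c = c := by
          intro c
          by_contra hc
          haveI := Fintype.ofFinite (G ⧸ H)
          have hlt := Fintype.card_subtype_lt (p := fun c : G ⧸ H => z • c = c) (x := c) hc
          simp only [← Nat.card_eq_fintype_card] at hlt
          omega
        have h1 : ((z * 1 : G) : G ⧸ H) = ((1 : G) : G ⧸ H) := hall ((1 : G) : G ⧸ H)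
        rw [QuotientGroup.eq] at h1
        simpa using h1
      have hD1 : derivedSeries G (d + 1) ≤ H :=
        (derivedSeries_antitone G (Nat.le_succ d)).trans hDH
      have hker : ∀ w (hw : w ∈ derivedSeries G (d + 1)), lam ⟨w, hD1 hw⟩ = 1 := by
        intro w hw
        have hle2 : derivedSeries G (d + 1) ≤ (lam.ker).map H.subtype := by
          rw [derivedSeries_succ, Subgroup.commutator_le]
          intro a ha b hb
          refine ⟨⁅(⟨a, hDH ha⟩ : H), ⟨b, hDH hb⟩⁆, ?_, by simp [commutatorElement_def]⟩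
          rw [SetLike.mem_coe, MonoidHom.mem_ker, map_commutatorElement]
          exact commutatorElement_eq_one_iff_commute.2 (Commute.all _ _)
        obtain ⟨k, hk, rfl⟩ := hle2 hw
        exact hk
      haveI := derivedSeries_normal G (d + 1)
      rw [indFun_one, map_one, Units.val_one, mul_one]
      apply mul_left_cancel₀ (natCard_ne_zero (G := H))
      rw [IndBasic.card_mul_indFun, Finset.sum_congr rfl (g := fun _ => (1 : ℂ)) fun y _ => ?_]
      · rw [Finset.sum_const, Finset.card_univ, nsmul_one, ← Nat.card_eq_fintype_card,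
          ← Nat.cast_mul, H.card_mul_index]
      · have hy : y⁻¹ * x * y ∈ derivedSeries G (d + 1) := by
          simpa using Subgroup.Normal.conj_mem inferInstance x hx y⁻¹
        rw [IndBasic.extendByZero_of_mem H _ (hD1 hy), hker _ hy, Units.val_one]
  refine ⟨Nat.card G, le_bot_iff.1 fun x hx => ?_⟩
  rw [Subgroup.mem_bot]
  refine eq_one_of_forall_irr fun χ => key _ _ χ.2 ?_ x hx
  obtain ⟨n, hn, -, hdvd⟩ := irr_degree_dvd_card χ.2
  rw [hn, Complex.natCast_re]
  exact_mod_cast Nat.le_of_dvd Nat.card_pos hdvd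

theorem monomial_of_nilpotent_aux (N : ℕ) : ∀ (G : Type u) [Group G] [Fintype G]
    [Group.IsNilpotent G], Nat.card G = N → ∀ χ : G → ℂ, Cfsg.IsIrrCharacter G χ →
      ∃ (H : Subgroup G) (lam : H →* ℂˣ), χ = Cfsg.indFun H (fun h => (lam h : ℂ)) := by
  induction N using Nat.strong_induction_on with
  | _ N ih =>
  intro G _ _ _ hN χ hχ
  classical
  have hχc := isCharacter_of_isIrr hχ
  by_cases hlin : χ 1 = 1
  · refine ⟨⊤, (linearOfDegreeOne hχc hlin).comp (Subgroup.subtype ⊤), ?_⟩
    exact (indFun_top (char_isClassFunction hχc)).symm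
  by_cases hker : charKernel χ hχc ≠ ⊥
  · -- pass to the quotient
    haveI := charKernel_normal hχc
    set K := charKernel χ hχc
    obtain ⟨ψ, -, hψeq, hψirr⟩ := exists_deflate_quotient K hχc fun x hx => hx
    haveI := Fintype.ofFinite (G ⧸ K)
    have hlt : Nat.card (G ⧸ K) < N := by
      rw [← hN, ← K.index_mul_card, K.index_eq_card]
      exact lt_mul_of_one_lt_right Nat.card_pos (Subgroup.one_lt_card_iff_ne_bot K |>.2 hker)
    obtain ⟨H, lam, he⟩ := ih _ hlt (G ⧸ K) rfl ψ (hψirr hχ)
    refine ⟨H.comap (QuotientGroup.mk' K),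
      lam.comp ((QuotientGroup.mk' K).subgroupComap H), ?_⟩
    funext x
    rw [← hψeq x, he]
    exact (congrFun (indFun_comap (QuotientGroup.mk' K) (QuotientGroup.mk'_surjective K) H
      (fun h => (lam h : ℂ))) x).symm
  push Not at hker
  have hfaith : ∀ x : G, χ x = χ 1 → x = 1 := fun x hx => by
    have : x ∈ charKernel χ hχc := hx
    rwa [hker, Subgroup.mem_bot] at this
  -- a normal abelian non-central subgroup
  have hnc : Subgroup.center G ≠ ⊤ := by
    intro h
    exact hlin (irr_degree_one_of_comm (fun a b =>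
      (Subgroup.mem_center_iff.1 (h ▸ Subgroup.mem_top b : b ∈ Subgroup.center G) a)) hχ)
  haveI : Nontrivial (G ⧸ Subgroup.center G) := QuotientGroup.nontrivial_iff.2 hnc
  obtain ⟨q, hq, hq1⟩ := Subgroup.bot_or_exists_ne_one (Subgroup.center (G ⧸ Subgroup.center G))
    |>.resolve_left (Group.IsNilpotent.center_ne_bot _)
  obtain ⟨x, rfl⟩ := QuotientGroup.mk_surjective q
  have hxZ : x ∉ Subgroup.center G := fun h => hq1 ((QuotientGroup.eq_one_iff x).2 h)
  set A := Subgroup.zpowers x ⊔ Subgroup.center G with hA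
  have hAcomm : ∀ g : G, ∀ a ∈ A, g * a * g⁻¹ * a⁻¹ ∈ Subgroup.center G := by
    intro g a ha
    have hA' : A ≤ (Subgroup.center (G ⧸ Subgroup.center G)).comap (QuotientGroup.mk' _) := by
      refine sup_le (Subgroup.zpowers_le.2 hq) fun z hz => ?_
      rw [Subgroup.mem_comap, show QuotientGroup.mk' (Subgroup.center G) z = 1 from
        (QuotientGroup.eq_one_iff z).2 hz]
      exact one_mem _
    have hm := Subgroup.mem_center_iff.1 (hA' ha) (g : G ⧸ Subgroup.center G)
    rw [← QuotientGroup.eq_one_iff]
    simp only [QuotientGroup.mk'_apply] at hm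
    rw [QuotientGroup.mk_mul, QuotientGroup.mk_mul, QuotientGroup.mk_mul, QuotientGroup.mk_inv,
      QuotientGroup.mk_inv, hm]
    simp
  haveI hAn : A.Normal := ⟨fun a ha g => by
    have h1 : g * a * g⁻¹ = (g * a * g⁻¹ * a⁻¹) * a := by simp [mul_assoc]
    rw [h1]
    exact A.mul_mem ((le_sup_right : Subgroup.center G ≤ A) (hAcomm g a ha)) ha⟩
  have hAab : ∀ a ∈ A, ∀ b ∈ A, a * b = b * a := by
    have h1 : ∀ b ∈ A, x * b = b * x := by
      have : A ≤ Subgroup.centralizer ({x} : Set G) := sup_le
        (Subgroup.zpowers_le.2 (Subgroup.mem_centralizer_singleton_iff.2 rfl))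
        fun z hz => Subgroup.mem_centralizer_singleton_iff.2
          (Subgroup.mem_center_iff.1 hz x).symm
      exact fun b hb => (Subgroup.mem_centralizer_singleton_iff.1 (this hb)).symm
    intro a ha b hb
    have : A ≤ Subgroup.centralizer ({b} : Set G) := sup_le
      (Subgroup.zpowers_le.2 (Subgroup.mem_centralizer_singleton_iff.2 (h1 b hb)))
      fun z hz => Subgroup.mem_centralizer_singleton_iff.2 (Subgroup.mem_center_iff.1 hz b).symm
    exact Subgroup.mem_centralizer_singleton_iff.1 (this ha)
  haveI := Fintype.ofFinite A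
  -- a constituent on `A`
  have hr := isCharacter_restrict A hχc
  obtain ⟨θ, hθ, hne⟩ : ∃ θ : A → ℂ, Cfsg.IsIrrCharacter A θ ∧
      Cfsg.classInner (fun a : A => χ a) θ ≠ 0 := by
    by_contra h
    push Not at h
    exact irr_one_ne_zero hχ (congrFun (classFun_eq_zero (char_isClassFunction hr) h) 1)
  have hθ1 : θ 1 = 1 := irr_degree_one_of_comm (fun a b => Subtype.ext (hAab a a.2 b b.2)) hθ
  let T : Subgroup G :=
    { carrier := {g | Clifford.conjBy A g θ = θ}
      one_mem' := Clifford.conjBy_one A θ
      mul_mem' := fun {a b} ha hb => by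
        show Clifford.conjBy A (a * b) θ = θ
        rw [← Clifford.conjBy_conjBy, show Clifford.conjBy A a θ = θ from ha]
        exact hb
      inv_mem' := fun {a} ha => by
        show Clifford.conjBy A a⁻¹ θ = θ
        conv_lhs => rw [show θ = Clifford.conjBy A a θ from (Eq.symm ha)]
        rw [Clifford.conjBy_conjBy, mul_inv_cancel, Clifford.conjBy_one] }
  have hAT : A ≤ T := fun a ha => by
    show Clifford.conjBy A a θ = θ
    funext n
    exact char_isClassFunction (isCharacter_of_isIrr hθ) n ⟨a, ha⟩
  have hT : T ≠ ⊤ := by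
    intro htop
    apply hxZ
    have hinv : ∀ g : G, Clifford.conjBy A g θ = θ := fun g =>
      (htop ▸ Subgroup.mem_top g : g ∈ T)
    have hres := Clifford.restrict_eq_smul_of_invariant A hχ hθ hne hinv
    -- hence every element of `A` acts as a scalar
    obtain ⟨n, ρ, hρ, rfl⟩ := hχ
    set a : A := ⟨x, (le_sup_left : Subgroup.zpowers x ≤ A) (Subgroup.mem_zpowers x)⟩
    have h1 := congrFun hres 1
    have h2 := congrFun hres a
    simp only [Pi.smul_apply, smul_eq_mul, hθ1, mul_one, OneMemClass.coe_one] at h1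
    simp only [Pi.smul_apply, smul_eq_mul, ← h1, ρ.char_one] at h2
    have hn : ‖θ a‖ = 1 :=
      linear_norm_eq_one (linearOfDegreeOne (isCharacter_of_isIrr hθ) hθ1) a
    obtain ⟨ω, hω⟩ := rep_apply_eq_smul_of_norm_eq ρ x (by
      rw [h2, norm_mul, Complex.norm_natCast, hn, mul_one])
    rw [Subgroup.mem_center_iff]
    intro g
    have hid : ρ (g * x * g⁻¹ * x⁻¹) = LinearMap.id := by
      have hc : ρ (g * x) = ρ (x * g) := by rw [map_mul, map_mul, hω]; ext v; simp
      rw [show ρ (g * x * g⁻¹ * x⁻¹) = ρ (g * x) * ρ (g⁻¹ * x⁻¹) by rw [← map_mul, mul_assoc],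
        hc, ← map_mul, mul_assoc, mul_inv_cancel_left, mul_inv_cancel, map_one]
      rfl
    have h3 := hfaith _ (rep_char_eq_of_apply_eq_id hid)
    rwa [mul_inv_eq_one, mul_inv_eq_iff_eq_mul] at h3
  haveI := Fintype.ofFinite T
  obtain ⟨ψ, hψ, hind, -⟩ := Cfsg.Agent.S0854.result A θ hθ T
    (fun g => show Clifford.conjBy A g θ = θ ↔ _ from funext_iff) hAT χ hχ hne
  have hlt : Nat.card T < N := by
    rw [← hN, ← T.card_mul_index]
    refine lt_mul_of_one_lt_right Nat.card_pos ?_
    have := T.index_ne_zero_of_finite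
    have : T.index ≠ 1 := fun h => hT (Subgroup.index_eq_one.1 h)
    omega
  obtain ⟨H, lam, rfl⟩ := ih _ hlt T rfl ψ hψ
  have hH : H = (H.map T.subtype).subgroupOf T :=
    (Subgroup.comap_map_eq_self_of_injective T.subtype_injective H).symm
  set H' := H.map T.subtype with hH'
  clear_value H'
  subst hH
  have hle : H' ≤ T := hH'.le.trans (Subgroup.map_subtype_le _)
  refine ⟨H', lam.comp (Subgroup.subgroupOfEquivOfLe hle).symm.toMonoidHom, ?_⟩
  rw [← hind, ← indFun_trans H' T hle]
  rfl

/-- Irreducible characters of nilpotent groups are monomial. -/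
theorem monomial_of_nilpotent [Fintype G] [Group.IsNilpotent G] {χ : G → ℂ}
    (hχ : Cfsg.IsIrrCharacter G χ) :
    ∃ (H : Subgroup G) (lam : H →* ℂˣ), χ = Cfsg.indFun H (fun h => (lam h : ℂ)) :=
  monomial_of_nilpotent_aux _ G rfl χ hχ

end Cfsg.Agent.Characters.Monomial
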