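import Mathlib
import Cfsg.Agent.Lib.Characters.Integrality

/-!
# Burnside's class-size theorem and the `p^a q^b` theorem
-/

set_option linter.style.haveILetI false

namespace Cfsg.Agent.Characters

open Module
open scoped ComplexConjugate

universe u

theorem prime_card_of_simple_of_comm {G : Type u} [Group G] [Finite G] [IsSimpleGroup G]
    (h : ∀ a b : G, a * b = b * a) : (Nat.card G).Prime := by
  letI : CommGroup G := { (inferInstance : Group G) with mul_comm := h }
  exact IsSimpleGroup.prime_card

theorem prime_card_of_simple_of_central {G : Type u} [Group G] [Finite G] [IsSimpleGroup G]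
    {g : G} (hg : g ≠ 1) (hc : ∀ x : G, g * x = x * g) : (Nat.card G).Prime := by
  refine prime_card_of_simple_of_comm fun a b => ?_
  have hz : g ∈ Subgroup.center G := Subgroup.mem_center_iff.2 fun x => (hc x).symm
  have htop : Subgroup.center G = ⊤ :=
    ((inferInstance : (Subgroup.center G).Normal).eq_bot_or_eq_top).resolve_left
      fun h => hg (by rw [h, Subgroup.mem_bot] at hz; exact hz)
  have ha : a ∈ Subgroup.center G := htop ▸ Subgroup.mem_top a
  exact (Subgroup.mem_center_iff.1 ha b).symm

/-- A finite simple group with a conjugacy class of prime power size `≠ {1}` has prime order. -/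
theorem simple_prime_power_class {G : Type u} [Group G] [Finite G] [IsSimpleGroup G] {p k : ℕ}
    (hp : p.Prime) {g : G} (hg : g ≠ 1)
    (hclass : (Subgroup.centralizer ({g} : Set G)).index = p ^ k) : (Nat.card G).Prime := by
  classical
  rcases Nat.eq_zero_or_pos k with hk | hk
  · rw [hk, pow_zero, Subgroup.index_eq_one] at hclass
    refine prime_card_of_simple_of_central hg fun x => ?_
    have : x ∈ Subgroup.centralizer ({g} : Set G) := hclass ▸ Subgroup.mem_top x
    exact (Subgroup.mem_centralizer_singleton_iff.1 this).symm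
  haveI := Fintype.ofFinite (Cfsg.IrrCharacter G)
  obtain ⟨χ, hχ1, hχp, hχg⟩ : ∃ χ : Cfsg.IrrCharacter G, χ ≠ trivIrr G ∧
      (¬ ∃ m : ℕ, (χ : G → ℂ) 1 = ((p * m : ℕ) : ℂ)) ∧ (χ : G → ℂ) g ≠ 0 := by
    by_contra hcon
    push Not at hcon
    have h := second_orthogonality g (1 : G)
    rw [if_neg (fun h => hg (isConj_one_left.1 h))] at h
    rw [← Finset.add_sum_erase _ _ (Finset.mem_univ (trivIrr G))] at h
    have hint : IsIntegral ℤ ((∑ χ ∈ Finset.univ.erase (trivIrr G),
        (χ : G → ℂ) g * conj ((χ : G → ℂ) 1)) / (p : ℂ)) := by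
      rw [Finset.sum_div]
      refine IsIntegral.sum _ fun χ hχ => ?_
      by_cases hm : ∃ m : ℕ, (χ : G → ℂ) 1 = ((p * m : ℕ) : ℂ)
      · obtain ⟨m, hm⟩ := hm
        rw [hm, Complex.conj_natCast, Nat.cast_mul, ← mul_assoc, mul_right_comm,
          mul_div_cancel_right₀ _ (Nat.cast_ne_zero.2 hp.ne_zero)]
        exact (char_value_isIntegral (irr_isCharacter χ) g).mul
          (isIntegral_algebraMap (R := ℤ) (x := (m : ℤ)))
      · rw [hcon χ (Finset.ne_of_mem_erase hχ) (not_exists.1 hm)]
        simp [isIntegral_zero]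
    have h1 : (∑ χ ∈ Finset.univ.erase (trivIrr G),
        (χ : G → ℂ) g * conj ((χ : G → ℂ) 1)) = -1 := by
      simp only [trivIrr_coe, map_one, mul_one] at h
      linear_combination h
    rw [h1] at hint
    have h2 := hint.neg
    rw [neg_div, neg_neg] at h2
    exact hp.not_dvd_one (dvd_of_isIntegral_div (a := 1) hp.ne_zero (by simpa using h2))
  obtain ⟨n, ρ, hρ, hchar⟩ := χ.2
  rw [← hchar] at hχp hχg
  have hn : ¬ p ∣ finrank ℂ (Fin n → ℂ) := fun ⟨m, hm⟩ =>
    hχp ⟨m, by rw [ρ.char_one, hm]⟩
  have hnorm := (char_eq_zero_or_norm_eq_of_coprime ρ g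
    (by rw [hclass]; exact Nat.Coprime.pow_right _ ((hp.coprime_iff_not_dvd.2 hn).symm))).resolve_left
    hχg
  obtain ⟨ω, hω⟩ := rep_apply_eq_smul_of_norm_eq ρ g hnorm
  rcases (inferInstance : (ρ.asGroupHom.ker).Normal).eq_bot_or_eq_top with hker | hker
  · have hinj := (MonoidHom.ker_eq_bot_iff ρ.asGroupHom).1 hker
    refine absurd (prime_card_of_simple_of_central hg fun x => hinj (Units.ext ?_)) ?_
    · simp [Representation.asGroupHom_apply, hω, Module.End.mul_eq_comp, map_mul]
    · intro hprime
      -- a group of prime order is commutative, so the class has size one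
      haveI := Fact.mk hprime
      haveI : IsCyclic G := isCyclic_of_prime_card rfl
      letI : CommGroup G := IsCyclic.commGroup
      have htop : Subgroup.centralizer ({g} : Set G) = ⊤ :=
        eq_top_iff.2 fun x _ => Subgroup.mem_centralizer_singleton_iff.2 (mul_comm x g)
      rw [htop, Subgroup.index_top] at hclass
      exact (Nat.one_lt_pow hk.ne' hp.one_lt).ne hclass
  · -- `ρ` is trivial, so its character is the trivial one
    exfalso
    have hid : ∀ x : G, ρ x = LinearMap.id := fun x => by
      have hx : x ∈ ρ.asGroupHom.ker := hker ▸ Subgroup.mem_top x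
      have := congrArg Units.val (MonoidHom.mem_ker.1 hx)
      rw [Representation.asGroupHom_apply] at this
      exact this.trans (by rfl)
    have hconst : ∀ x : G, (χ : G → ℂ) x = (χ : G → ℂ) 1 := fun x => by
      rw [← hchar]; exact rep_char_eq_of_apply_eq_id (hid x)
    haveI := Fintype.ofFinite G
    have h0 := classInner_isIrr_ne χ.2 (trivIrr G).2 (fun e => hχ1 (Subtype.ext e))
    rw [classInner_def] at h0
    simp only [hconst, trivIrr_coe, map_one, mul_one, Finset.sum_const, Finset.card_univ,
      nsmul_eq_mul, ← Nat.card_eq_fintype_card] at h0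
    rw [inv_mul_cancel_left₀ natCard_ne_zero] at h0
    exact irr_one_ne_zero χ.2 h0

theorem burnside_pa_qb_aux (n : ℕ) : ∀ (G : Type u) [Group G] [Finite G] (p q a b : ℕ), p.Prime →
    q.Prime → Nat.card G = n → n = p ^ a * q ^ b → Group.IsSolvable G := by
  induction n using Nat.strong_induction_on with
  | _ n ih =>
    intro G _ _ p q a b hp hq hn hab
    rcases subsingleton_or_nontrivial G with hs | hs
    · infer_instance
    by_cases hN : ∃ N : Subgroup G, N.Normal ∧ N ≠ ⊥ ∧ N ≠ ⊤
    · obtain ⟨N, hNn, hN1, hN2⟩ := hN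
      have hdvd : ∀ d, d ∣ p ^ a * q ^ b → ∃ a' b', d = p ^ a' * q ^ b' := fun d hd => by
        obtain ⟨d1, d2, h1, h2, rfl⟩ := exists_dvd_and_dvd_of_dvd_mul hd
        obtain ⟨a', -, rfl⟩ := (Nat.dvd_prime_pow hp).1 h1
        obtain ⟨b', -, rfl⟩ := (Nat.dvd_prime_pow hq).1 h2
        exact ⟨a', b', rfl⟩
      have hN' : 1 < Nat.card N := Subgroup.one_lt_card_iff_ne_bot N |>.2 hN1
      have hi : 1 < N.index := by
        have := N.index_ne_zero_of_finite
        have : N.index ≠ 1 := fun h => hN2 (Subgroup.index_eq_one.1 h)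
        omega
      have hmul := N.card_mul_index
      obtain ⟨a1, b1, h1⟩ := hdvd (Nat.card N) (hab ▸ hn ▸ ⟨_, hmul.symm⟩)
      obtain ⟨a2, b2, h2⟩ := hdvd N.index (hab ▸ hn ▸ ⟨_, (hmul.symm.trans (mul_comm _ _))⟩)
      have s1 : Group.IsSolvable N :=
        ih _ (by rw [← hn, ← hmul]; exact lt_mul_of_one_lt_right (by omega) hi) N p q a1 b1 hp hq
          rfl h1
      have s2 : Group.IsSolvable (G ⧸ N) :=
        ih _ (by rw [← hn, ← hmul]; exact lt_mul_of_one_lt_left (by omega) hN') (G ⧸ N) p q a2 b2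
          hp hq N.index_eq_card.symm h2
      exact (Group.isSolvable_iff_subgroup_quotient N).2 ⟨s1, s2⟩
    push Not at hN
    haveI : IsSimpleGroup G := ⟨fun N hNn => or_iff_not_imp_left.2 (hN N hNn)⟩
    haveI := Fact.mk hp
    haveI := Fact.mk hq
    rcases Nat.eq_zero_or_pos a with ha | ha
    · have hQ : IsPGroup q G := IsPGroup.of_card (n := b) (by rw [hn, hab, ha, pow_zero, one_mul])
      haveI := hQ.isNilpotent
      infer_instance
    obtain ⟨P⟩ := (inferInstance : Nonempty (Sylow p G))
    have hP0 : (P : Subgroup G) ≠ ⊥ := P.ne_bot_of_dvd_card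
      (hn ▸ hab ▸ Dvd.dvd.mul_right (dvd_pow_self p ha.ne') _)
    haveI : Nontrivial (P : Subgroup G) := Subgroup.nontrivial_iff_ne_bot _ |>.2 hP0
    haveI := P.isPGroup'.center_nontrivial
    obtain ⟨z, hz⟩ := exists_ne (1 : Subgroup.center (P : Subgroup G))
    set g : G := ((z : (P : Subgroup G)) : G) with hg
    have hg1 : g ≠ 1 := fun h => hz (Subtype.ext (Subtype.ext h))
    have hle : (P : Subgroup G) ≤ Subgroup.centralizer ({g} : Set G) := fun x hx =>
      Subgroup.mem_centralizer_singleton_iff.2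
        (congrArg Subtype.val (Subgroup.mem_center_iff.1 z.2 ⟨x, hx⟩))
    have hidx : (P : Subgroup G).index ∣ q ^ b := by
      have h1 : (P : Subgroup G).index ∣ p ^ a * q ^ b := hab ▸ hn ▸ Subgroup.index_dvd_card _
      exact (Nat.Coprime.dvd_of_dvd_mul_left
        (Nat.Coprime.pow_right a ((hp.coprime_iff_not_dvd.2 P.not_dvd_index).symm)) h1)
    obtain ⟨k, -, hk⟩ := (Nat.dvd_prime_pow hq).1 ((Subgroup.index_dvd_of_le hle).trans hidx)
    haveI := Fact.mk (simple_prime_power_class hq hg1 hk)
    haveI : IsCyclic G := isCyclic_of_prime_card rfl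
    exact Group.isSolvable_of_comm fun x y => by
      letI : CommGroup G := IsCyclic.commGroup
      exact mul_comm x y

/-- Burnside's `p^a q^b` theorem. -/
theorem burnside_pa_qb {G : Type u} [Group G] [Finite G] {p q a b : ℕ} (hp : p.Prime)
    (hq : q.Prime) (h : Nat.card G = p ^ a * q ^ b) : Group.IsSolvable G :=
  burnside_pa_qb_aux _ G p q a b hp hq h rfl

end Cfsg.Agent.Characters
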