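import Mathlib
import Cfsg.Agent.Lib.Characters.Integrality

/-!
# Degrees divide the index of the centre
-/

set_option linter.style.haveILetI false

namespace Cfsg.Agent.Characters

open Module
open scoped ComplexConjugate

universe u v

variable {G : Type u} [Group G]

/-- The degree of an irreducible character divides the index of the centre. -/
theorem irr_degree_dvd_center_index [Finite G] {χ : G → ℂ} (hχ : Cfsg.IsIrrCharacter G χ) :
    ∃ n : ℕ, χ 1 = (n : ℂ) ∧ n ∣ (Subgroup.center G).index := by
  classical
  haveI := Fintype.ofFinite G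
  obtain ⟨d, ρ, hρ, rfl⟩ := hχ
  set n := finrank ℂ (Fin d → ℂ) with hn
  have hn0 : 0 < n := finrank_pos_of_isIrreducible ρ
  refine ⟨n, ρ.char_one, ?_⟩
  set Z := Subgroup.center G with hZ
  -- scalars on the centre
  have hsc : ∀ z : Z, ∃ c : ℂ, ρ (z : G) = c • LinearMap.id := fun z =>
    schur_scalar ρ (ρ (z : G)) fun g v => by
      rw [← Module.End.mul_apply, ← Module.End.mul_apply, ← map_mul, ← map_mul,
        Subgroup.mem_center_iff.1 z.2 g]
  choose c hc using hsc
  have hnC : (n : ℂ) ≠ 0 := Nat.cast_ne_zero.2 hn0.ne'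
  have htr : ∀ z : Z, ρ.character z = c z * n := fun z => by
    simp [Representation.character, hc z, hn]
  have hone : c 1 = 1 := by
    have := htr 1
    rw [OneMemClass.coe_one, ρ.char_one] at this
    exact (mul_right_cancel₀ hnC ((one_mul (n : ℂ)).trans this)).symm
  have hmul : ∀ z w : Z, c (z * w) = c z * c w := fun z w => by
    apply mul_right_cancel₀ hnC
    rw [← htr, Subgroup.coe_mul]
    simp only [Representation.character, map_mul, hc]
    simp [Module.End.mul_eq_comp, LinearMap.comp_smul, LinearMap.smul_comp, hn, mul_comm,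
      mul_left_comm, mul_assoc]
  letI instZ : CommGroup Z :=
    { (inferInstance : Group Z) with
      mul_comm := fun a b => Subtype.ext (Subgroup.mem_center_iff.1 b.2 a) }
  let cH : Z →* ℂ := { toFun := c, map_one' := hone, map_mul' := hmul }
  -- the m-th external power
  have key : ∀ k : ℕ, n ^ (k + 1) * Nat.card Z ^ k ∣ Nat.card G ^ (k + 1) := by
    intro k
    let f : (Fin (k + 1) → G) → ℂ := fun x => ∏ i, ρ.character (x i)
    have hfc : Cfsg.IsCharacter (Fin (k + 1) → G) f := by
      have h := Finset.prod_induction (s := (Finset.univ : Finset (Fin (k + 1))))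
        (f := fun i (x : Fin (k + 1) → G) => ρ.character (x i))
        (Cfsg.IsCharacter (Fin (k + 1) → G)) (fun a b => isCharacter_mul) isCharacter_one
        (fun i _ => isCharacter_comp (Pi.evalMonoidHom (fun _ : Fin (k + 1) => G) i)
          (isCharacter_character ρ))
      rwa [show (∏ i, fun x : Fin (k + 1) → G => ρ.character (x i)) = f from
        funext fun x => Finset.prod_apply x _ _] at h
    have hfn : Cfsg.classInner f f = 1 := by
      have h1 := classInner_isIrr_self (isIrrCharacter_character ρ)
      rw [classInner_def] at h1 ⊢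
      rw [Nat.card_fun, Nat.card_eq_fintype_card (α := Fin (k + 1)), Fintype.card_fin, Nat.cast_pow,
        ← inv_pow]
      simp only [f, map_prod, ← Finset.prod_mul_distrib]
      rw [← Fintype.prod_sum (fun (_ : Fin (k + 1)) (g : G) => ρ.character g * conj (ρ.character g)),
        Finset.prod_const, Finset.card_univ, Fintype.card_fin, ← mul_pow, h1, one_pow]
    have hfirr := isIrr_of_isCharacter_of_norm_one hfc hfn
    let prodHom : (Fin (k + 1) → Z) →* Z :=
      { toFun := fun x => ∏ i, x i
        map_one' := by simp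
        map_mul' := fun x y => Finset.prod_mul_distrib }
    let ι : (Fin (k + 1) → Z) →* (Fin (k + 1) → G) := Z.subtype.compLeft (Fin (k + 1))
    let D : Subgroup (Fin (k + 1) → G) := prodHom.ker.map ι
    have hιinj : Function.Injective ι := fun a b h => funext fun i => Subtype.ext (congrFun h i)
    haveI : D.Normal := ⟨fun a ha g => by
      obtain ⟨z, hz, rfl⟩ := ha
      rw [show g * ι z * g⁻¹ = ι z from funext fun i => by
        show g i * (z i : G) * (g i)⁻¹ = (z i : G)
        rw [Subgroup.mem_center_iff.1 (z i).2 (g i), mul_inv_cancel_right]]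
      exact ⟨z, hz, rfl⟩⟩
    obtain ⟨ψ, -, hψ, hψirr⟩ := exists_deflate_quotient D hfc fun x hx => by
      obtain ⟨z, hz, rfl⟩ := hx
      show ∏ i, ρ.character (z i : G) = ∏ i, ρ.character ((1 : Fin (k + 1) → G) i)
      simp only [htr, Pi.one_apply, ρ.char_one, Finset.prod_mul_distrib]
      rw [show (∏ i, c (z i)) = cH (prodHom z) from (map_prod cH _ _).symm,
        MonoidHom.mem_ker.1 hz, map_one, one_mul]
    obtain ⟨e, he, -, hdvd⟩ := irr_degree_dvd_card (hψirr hfirr)
    have hen : e = n ^ (k + 1) := by
      have h1 := hψ 1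
      rw [QuotientGroup.mk_one, he] at h1
      simp only [f, Pi.one_apply, ρ.char_one, Finset.prod_const, Finset.card_univ,
        Fintype.card_fin] at h1
      exact_mod_cast h1
    have hD : Nat.card D * Nat.card Z = Nat.card Z ^ (k + 1) := by
      have hsurj : Function.Surjective prodHom := fun z =>
        ⟨Pi.mulSingle 0 z, by simp [prodHom, Finset.prod_pi_mulSingle']⟩
      have h1 := prodHom.ker.card_mul_index
      rw [Subgroup.index_eq_card,
        Nat.card_congr (QuotientGroup.quotientKerEquivOfSurjective prodHom hsurj).toEquiv] at h1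
      rw [Subgroup.card_map_of_injective hιinj, h1, Nat.card_fun,
        Nat.card_eq_fintype_card (α := Fin (k + 1)), Fintype.card_fin]
    have hD' : Nat.card D = Nat.card Z ^ k := by
      rw [pow_succ] at hD
      exact Nat.eq_of_mul_eq_mul_right Nat.card_pos hD
    have hGm := D.card_mul_index
    rw [Nat.card_fun (α := Fin (k + 1)), Nat.card_eq_fintype_card (α := Fin (k + 1)),
      Fintype.card_fin, hD', mul_comm] at hGm
    rw [← hGm, ← hen]
    exact Nat.mul_dvd_mul_right (D.index_eq_card ▸ hdvd) _
  set x := Z.index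
  set z := Nat.card Z
  have hzpos : 0 < z := Nat.card_pos
  have hk := key z
  rw [← Z.card_mul_index, mul_pow] at hk
  have h1 : n ^ (z + 1) ∣ z * x ^ (z + 1) := by
    have : n ^ (z + 1) * z ^ z ∣ (z * x ^ (z + 1)) * z ^ z := by
      rw [show z * x ^ (z + 1) * z ^ z = z ^ (z + 1) * x ^ (z + 1) by ring]
      exact hk
    exact Nat.dvd_of_mul_dvd_mul_right (pow_pos hzpos _) this
  obtain ⟨g, n', x', hg0, hcop, hn', hx'⟩ :=
    Nat.exists_coprime' (Nat.gcd_pos_of_pos_left x hn0)
  rw [hn', hx', mul_pow, mul_pow, ← mul_assoc] at h1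
  have h2 : n' ^ (z + 1) ∣ z :=
    (Nat.Coprime.pow _ _ hcop).dvd_of_dvd_mul_right
      (Nat.dvd_of_mul_dvd_mul_right (pow_pos hg0 _) h1)
  have h3 : n' = 1 := by
    by_contra hne
    have hn'2 : 2 ≤ n' := by
      have : n' ≠ 0 := by rintro rfl; rw [zero_mul] at hn'; omega
      omega
    have h4 := Nat.le_of_dvd hzpos h2
    have h5 : z + 1 < n' ^ (z + 1) :=
      lt_of_lt_of_le (Nat.lt_two_pow_self) (Nat.pow_le_pow_left hn'2 _)
    omega
  rw [hn', hx', h3, one_mul]
  exact dvd_mul_left g x'

end Cfsg.Agent.Characters
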