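import Mathlib
import Cfsg.Agent.Lib.Characters.Integrality

/-!
# Galois action on character values: polynomials in roots of unity
-/

set_option linter.style.haveILetI false

namespace Cfsg.Agent.Characters

open Module Polynomial
open scoped ComplexConjugate

universe u v

/-! ## Symmetric functions of `P(μ)` over the primitive roots of unity `μ` -/

/-- A rational polynomial taking the rational value `q` at one primitive root of unity takes it at
all primitive roots of unity of the same order. -/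
theorem aeval_eq_rat_of_primitive {M : ℕ} (hM : 0 < M) {ζ μ : ℂ} (hζ : IsPrimitiveRoot ζ M)
    (hμ : IsPrimitiveRoot μ M) (P : ℚ[X]) {q : ℚ} (h : aeval ζ P = (q : ℂ)) :
    aeval μ P = (q : ℂ) := by
  have h1 : aeval ζ (P - C q) = 0 := by simp [h]
  have h2 := minpoly.dvd ℚ ζ h1
  rw [← cyclotomic_eq_minpoly_rat hζ hM, cyclotomic_eq_minpoly_rat hμ hM] at h2
  have h3 := aeval_eq_zero_of_dvd_aeval_eq_zero h2 (minpoly.aeval ℚ μ)
  simpa [sub_eq_zero] using h3

/-- Sums and products of `P(μ)` over all primitive `M`-th roots of unity `μ` are rational. -/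
theorem exists_rat_sum_prod_primitiveRoots {M : ℕ} (hM : 0 < M) (P : ℚ[X]) :
    (∃ q : ℚ, ∑ μ ∈ primitiveRoots M ℂ, aeval μ P = (q : ℂ)) ∧
      ∃ q : ℚ, ∏ μ ∈ primitiveRoots M ℂ, aeval μ P = (q : ℂ) := by
  haveI : NeZero M := ⟨hM.ne'⟩
  haveI : NeZero (M : ℚ) := ⟨by exact_mod_cast hM.ne'⟩
  haveI : IsCyclotomicExtension {M} ℚ (CyclotomicField M ℚ) :=
    CyclotomicField.isCyclotomicExtension M ℚ
  have hη := IsCyclotomicExtension.zeta_spec M ℚ (CyclotomicField M ℚ)
  have hirr := cyclotomic.irreducible_rat hM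
  set η := IsCyclotomicExtension.zeta M ℚ (CyclotomicField M ℚ)
  haveI : FiniteDimensional ℚ (CyclotomicField M ℚ) :=
    IsCyclotomicExtension.finiteDimensional {M} ℚ _
  set e := hη.embeddingsEquivPrimitiveRoots ℂ hirr
  have he : ∀ σ : CyclotomicField M ℚ →ₐ[ℚ] ℂ, σ (aeval η P) = aeval ((e σ : ℂ)) P := by
    intro σ
    rw [← aeval_algHom_apply, IsPrimitiveRoot.embeddingsEquivPrimitiveRoots_apply_coe]
  constructor
  · refine ⟨Algebra.trace ℚ (CyclotomicField M ℚ) (aeval η P), ?_⟩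
    have := trace_eq_sum_embeddings (E := ℂ) (K := ℚ) (x := aeval η P)
    rw [eq_ratCast] at this
    rw [this, ← Finset.sum_attach, ← Finset.univ_eq_attach]
    exact (Fintype.sum_equiv e _ _ fun σ => he σ).symm
  · refine ⟨Algebra.norm ℚ (aeval η P), ?_⟩
    have := Algebra.norm_eq_prod_embeddings ℚ ℂ (aeval η P)
    rw [eq_ratCast] at this
    rw [this, ← Finset.prod_attach, ← Finset.univ_eq_attach]
    exact (Fintype.prod_equiv e _ _ fun σ => he σ).symm

/-- If `aeval μ P` is a nonzero algebraic integer for all primitive roots `μ`, the product of the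
absolute values is at least one. -/
theorem one_le_prod_norm_primitiveRoots {M : ℕ} (hM : 0 < M) (P : ℚ[X])
    (hint : ∀ μ ∈ primitiveRoots M ℂ, IsIntegral ℤ (aeval μ P))
    (hne : ∀ μ ∈ primitiveRoots M ℂ, aeval μ P ≠ 0) :
    1 ≤ ∏ μ ∈ primitiveRoots M ℂ, ‖aeval μ P‖ := by
  obtain ⟨q, hq⟩ := (exists_rat_sum_prod_primitiveRoots hM P).2
  have h1 : IsIntegral ℤ (q : ℂ) := hq ▸ IsIntegral.prod _ hint
  obtain ⟨z, hz⟩ := exists_int_of_isIntegral_ratCast h1
  have h2 : (z : ℂ) ≠ 0 := hz ▸ hq ▸ Finset.prod_ne_zero_iff.2 hne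
  rw [← norm_prod, hq, hz, Complex.norm_intCast]
  exact_mod_cast Int.one_le_abs (by exact_mod_cast h2)

/-! ## Character values -/

variable {G : Type u} [Group G] {V : Type v} [AddCommGroup V] [Module ℂ V] [FiniteDimensional ℂ V]
  (ρ : Representation ℂ G V)

/-- `χ(g^k) = P(ζ^k)` for a rational polynomial `P`, where `ζ` is a primitive `M`-th root of unity
and `g ^ M = 1`. -/
theorem exists_poly_values [Finite G] (g : G) {M : ℕ} (hM : 0 < M) (hg : g ^ M = 1) {ζ : ℂ}
    (hζ : IsPrimitiveRoot ζ M) : ∃ P : ℚ[X], ∀ k : ℕ, ρ.character (g ^ k) = aeval (ζ ^ k) P := by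
  obtain ⟨w, hw, h⟩ := exists_rootsOfUnity_sum ρ g
  haveI : NeZero M := ⟨hM.ne'⟩
  have hd : orderOf g ∣ M := orderOf_dvd_of_pow_eq_one hg
  have h1 : ∀ i, ∃ e : ℕ, ζ ^ e = w i := fun i => by
    obtain ⟨c, hc⟩ := hd
    obtain ⟨e, _, he⟩ := hζ.eq_pow_of_pow_eq_one (ξ := w i) (by rw [hc, pow_mul, hw, one_pow])
    exact ⟨e, he⟩
  choose e he using h1
  refine ⟨∑ i, X ^ e i, fun k => ?_⟩
  rw [h k, map_sum]
  refine Finset.sum_congr rfl fun i _ => ?_
  rw [map_pow, aeval_X, ← he i, ← pow_mul, ← pow_mul, mul_comm]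

/-- On a set of elements closed under powers prime to the group order, where a character does not
vanish, the mean of `‖χ‖²` is at least one. -/
theorem card_le_sum_norm_sq [Finite G] (S : Finset G)
    (hS : ∀ g ∈ S, ∀ k : ℕ, k.Coprime (Nat.card G) → g ^ k ∈ S)
    (hne : ∀ g ∈ S, ρ.character g ≠ 0) : (S.card : ℝ) ≤ ∑ g ∈ S, ‖ρ.character g‖ ^ 2 := by
  classical
  set M := Nat.card G with hMdef
  have hM : 0 < M := Nat.card_pos
  haveI : NeZero M := ⟨hM.ne'⟩
  set ζ := Complex.exp (2 * Real.pi * Complex.I / M)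
  have hζ : IsPrimitiveRoot ζ M := Complex.isPrimitiveRoot_exp M hM.ne'
  have hR : ∀ μ ∈ primitiveRoots M ℂ, ∃ k, k.Coprime M ∧ ζ ^ k = μ := fun μ hμ => by
    obtain ⟨k, _, hk, hk'⟩ := (hζ.isPrimitiveRoot_iff (ξ := μ) (k := M)).1
      ((mem_primitiveRoots hM).1 hμ)
    exact ⟨k, hk, hk'⟩
  choose! k hk hk' using hR
  have hswap : ∀ μ ∈ primitiveRoots M ℂ,
      ∑ g ∈ S, ‖ρ.character (g ^ k μ)‖ ^ 2 = ∑ g ∈ S, ‖ρ.character g‖ ^ 2 := by
    intro μ hμ
    have himg : S.image (powCoprime (G := G) (hk μ hμ).symm) = S := by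
      refine Finset.eq_of_subset_of_card_le (fun x hx => ?_) ?_
      · obtain ⟨g, hg, rfl⟩ := Finset.mem_image.1 hx
        simpa using hS g hg (k μ) (hk μ hμ)
      · rw [Finset.card_image_of_injective _ (Equiv.injective _)]
    conv_rhs => rw [← himg]
    rw [Finset.sum_image ((Equiv.injective _).injOn)]
    exact Finset.sum_congr rfl fun g _ => by simp
  have hge : ∀ g ∈ S, ((primitiveRoots M ℂ).card : ℝ) ≤
      ∑ μ ∈ primitiveRoots M ℂ, ‖ρ.character (g ^ k μ)‖ ^ 2 := by
    intro g hg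
    obtain ⟨P, hP⟩ := exists_poly_values ρ g hM pow_card_eq_one' hζ
    have hval : ∀ μ ∈ primitiveRoots M ℂ, ρ.character (g ^ k μ) = aeval μ P := fun μ hμ => by
      rw [hP, hk' μ hμ]
    have hnz : ∀ μ ∈ primitiveRoots M ℂ, aeval μ P ≠ 0 := fun μ hμ =>
      hval μ hμ ▸ hne _ (hS g hg _ (hk μ hμ))
    have hprod := one_le_prod_norm_primitiveRoots hM P
      (fun μ hμ => hval μ hμ ▸ rep_value_isIntegral ρ _) hnz
    have hpos : ∀ μ ∈ primitiveRoots M ℂ, 0 < ‖aeval μ P‖ ^ 2 := fun μ hμ =>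
      pow_pos (norm_pos_iff.2 (hnz μ hμ)) 2
    have hlog : 0 ≤ ∑ μ ∈ primitiveRoots M ℂ, Real.log (‖aeval μ P‖ ^ 2) := by
      rw [← Real.log_prod (fun μ hμ => (hpos μ hμ).ne'), Finset.prod_pow]
      exact Real.log_nonneg (one_le_pow₀ hprod)
    have h2 := hlog.trans (Finset.sum_le_sum fun μ hμ => Real.log_le_sub_one_of_pos (hpos μ hμ))
    rw [Finset.sum_sub_distrib, sub_nonneg, Finset.sum_const, nsmul_one] at h2
    exact h2.trans_eq (Finset.sum_congr rfl fun μ hμ => by rw [hval μ hμ])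
  have h1 := Finset.sum_le_sum hge
  rw [Finset.sum_comm, Finset.sum_congr rfl hswap, Finset.sum_const, Finset.sum_const,
    nsmul_eq_mul, nsmul_eq_mul, mul_comm] at h1
  exact le_of_mul_le_mul_left h1
    (by exact_mod_cast Finset.card_pos.2 ⟨ζ, (mem_primitiveRoots hM).2 hζ⟩)

/-- If every value of an irreducible character of degree `n` is non-zero then `n = 1`. -/
theorem finrank_eq_one_of_char_ne_zero [Finite G] [ρ.IsIrreducible]
    (hne : ∀ g, ρ.character g ≠ 0) : finrank ℂ V = 1 := by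
  classical
  haveI := Fintype.ofFinite G
  have hnorm : ∑ g : G, ‖ρ.character g‖ ^ 2 = (Nat.card G : ℝ) := by
    have h1 := classInner_isIrr_self (isIrrCharacter_character ρ)
    rw [classInner_def, inv_mul_eq_one₀ natCard_ne_zero] at h1
    apply Complex.ofReal_injective
    push_cast
    rw [h1]
    exact Finset.sum_congr rfl fun g _ => (Complex.mul_conj' _).symm
  have h1 := card_le_sum_norm_sq ρ ((Finset.univ : Finset G).erase 1)
    (fun g hg k hk => Finset.mem_erase.2 ⟨fun h => Finset.ne_of_mem_erase hg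
      ((powCoprime hk.symm).injective (by simpa using h)), Finset.mem_univ _⟩) fun g _ => hne g
  rw [Finset.card_erase_of_mem (Finset.mem_univ _), Finset.card_univ, ← Nat.card_eq_fintype_card,
    Nat.cast_sub Nat.card_pos, Nat.cast_one] at h1
  rw [← Finset.add_sum_erase _ _ (Finset.mem_univ (1 : G)), ρ.char_one,
    Complex.norm_natCast] at hnorm
  have h4 : (finrank ℂ V : ℝ) ^ 2 ≤ 1 := by linarith
  have h5 : finrank ℂ V ≤ 1 := by
    have : (finrank ℂ V) ^ 2 ≤ 1 := by exact_mod_cast h4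
    nlinarith
  have := finrank_pos_of_isIrreducible ρ
  omega

/-- Rationality criterion: all values of all irreducible characters are rational iff each element
is conjugate to all its powers of exponent prime to the group order. -/
theorem rational_iff_coprime_pow_conj [Finite G] :
    (∀ χ : Cfsg.IrrCharacter G, ∀ g : G, ∃ q : ℚ, (χ : G → ℂ) g = (q : ℂ)) ↔
      ∀ m : ℕ, m.Coprime (Nat.card G) → ∀ g : G, IsConj g (g ^ m) := by
  classical
  set M := Nat.card G with hMdef
  have hM : 0 < M := Nat.card_pos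
  haveI : NeZero M := ⟨hM.ne'⟩
  set ζ := Complex.exp (2 * Real.pi * Complex.I / M)
  have hζ : IsPrimitiveRoot ζ M := Complex.isPrimitiveRoot_exp M hM.ne'
  constructor
  · intro h m hm g
    refine isConj_of_forall_irr_eq fun χ => ?_
    obtain ⟨q, hq⟩ := h χ g
    obtain ⟨n, σ, _, hσ⟩ := χ.2
    obtain ⟨P, hP⟩ := exists_poly_values σ g hM pow_card_eq_one' hζ
    have h1 := hP 1
    rw [pow_one, pow_one] at h1
    have h2 := aeval_eq_rat_of_primitive hM hζ (hζ.pow_of_coprime m hm) P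
      (q := q) (by rw [← h1, ← hq, ← hσ])
    rw [hq, ← hσ, hP, h2]
  · intro h χ g
    obtain ⟨n, σ, _, hσ⟩ := χ.2
    obtain ⟨P, hP⟩ := exists_poly_values σ g hM pow_card_eq_one' hζ
    obtain ⟨q, hq⟩ := (exists_rat_sum_prod_primitiveRoots hM P).1
    have hall : ∀ μ ∈ primitiveRoots M ℂ, aeval μ P = (χ : G → ℂ) g := by
      intro μ hμ
      obtain ⟨k, _, hk, rfl⟩ := (hζ.isPrimitiveRoot_iff (ξ := μ) (k := M)).1
        ((mem_primitiveRoots hM).1 hμ)
      obtain ⟨c, hc⟩ := isConj_iff.1 (h k hk g)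
      rw [← hP, ← hc, σ.char_conj, hσ]
    rw [Finset.sum_congr rfl hall, Finset.sum_const, nsmul_eq_mul] at hq
    have hc : ((primitiveRoots M ℂ).card : ℂ) ≠ 0 := by
      exact_mod_cast (Finset.card_pos.2 ⟨ζ, (mem_primitiveRoots hM).2 hζ⟩).ne'
    refine ⟨q / (primitiveRoots M ℂ).card, ?_⟩
    rw [Rat.cast_div, Rat.cast_natCast, eq_div_iff hc, ← hq, mul_comm]

end Cfsg.Agent.Characters
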