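import Mathlib
import Cfsg.Prelude.Def_Solvable
import Cfsg.Agent.Lib.Characters.Kernel

/-!
# The Frobenius kernel theorem
-/

set_option linter.style.haveILetI false

namespace Cfsg.Agent.Characters

open Module
open scoped ComplexConjugate Pointwise

universe u

variable {G : Type u} [Group G] {H : Subgroup G}

theorem mem_conj_smul_iff (g x : G) : x ∈ MulAut.conj g • H ↔ g⁻¹ * x * g ∈ H := by
  rw [Subgroup.mem_pointwise_smul_iff_inv_smul_mem, MulAut.smul_def]
  simp [mul_assoc]

theorem mem_of_frobenius_meet (hH : Cfsg.IsFrobeniusComplement H) {g x : G} (hx : x ∈ H)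
    (hx' : g⁻¹ * x * g ∈ H) (hx1 : x ≠ 1) : g ∈ H := by
  by_contra hg
  have : x ∈ H ⊓ MulAut.conj g • H := ⟨hx, (mem_conj_smul_iff g x).2 hx'⟩
  rw [hH.2.2 g hg, Subgroup.mem_bot] at this
  exact hx1 this

theorem mem_frobeniusKernel_iff (x : G) :
    x ∈ Cfsg.frobeniusKernel H ↔ x = 1 ∨ ∀ g : G, g⁻¹ * x * g ∉ H := by
  show (x = 1 ∨ ∀ g : G, x ∉ MulAut.conj g • H) ↔ _
  simp only [mem_conj_smul_iff]

/-- The Frobenius kernel has `|G : H|` elements. -/
theorem card_frobeniusKernel [Finite G] (hH : Cfsg.IsFrobeniusComplement H) :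
    Nat.card (Cfsg.frobeniusKernel H) = H.index := by
  classical
  haveI := Fintype.ofFinite G
  let f : (G ⧸ H) × {h : H // h ≠ 1} → G := fun p => p.1.out * (p.2.1 : G) * p.1.out⁻¹
  have hinj : Function.Injective f := by
    rintro ⟨c, h, hh⟩ ⟨c', h', hh'⟩ e
    simp only [f] at e
    have hc : c = c' := by
      have hmem : c'.out⁻¹ * c.out ∈ H := by
        refine mem_of_frobenius_meet hH (x := (h' : G)) h'.2 ?_ (fun e1 => hh' (Subtype.ext e1))
        have : (c'.out⁻¹ * c.out)⁻¹ * (h' : G) * (c'.out⁻¹ * c.out) = (h : G) :=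
          calc _ = c.out⁻¹ * (c'.out * (h' : G) * c'.out⁻¹) * c.out := by group
            _ = _ := by rw [← e]; group
        rw [this]; exact h.2
      rw [← QuotientGroup.out_eq' c, ← QuotientGroup.out_eq' c']
      exact (QuotientGroup.eq.2 hmem).symm
    subst hc
    exact Prod.ext rfl (Subtype.ext (Subtype.ext (mul_left_cancel (mul_right_cancel e))))
  have hrange : Set.range f = (Cfsg.frobeniusKernel H)ᶜ := by
    ext x
    rw [Set.mem_compl_iff, mem_frobeniusKernel_iff]
    push Not
    constructor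
    · rintro ⟨⟨c, h, hh⟩, rfl⟩
      refine ⟨fun e => hh (Subtype.ext ?_), c.out, ?_⟩
      · simpa [f] using e
      · simp [f, mul_assoc, h.2]
    · rintro ⟨hx, g, hg⟩
      obtain ⟨k, hk⟩ := QuotientGroup.mk_out_eq_mul H g
      refine ⟨⟨(g : G ⧸ H), ⟨⟨(k : G)⁻¹ * (g⁻¹ * x * g) * k,
        H.mul_mem (H.mul_mem (H.inv_mem k.2) hg) k.2⟩, fun e => hx ?_⟩⟩, ?_⟩
      · have e' : (k : G)⁻¹ * (g⁻¹ * x * g) * k = 1 := congrArg Subtype.val e
        simpa [mul_assoc, mul_eq_one_iff_eq_inv] using e'
      · simp [f, hk, mul_assoc]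
  have hcard : Nat.card ((Cfsg.frobeniusKernel H)ᶜ : Set G) = H.index * (Nat.card H - 1) := by
    rw [← hrange, Nat.card_range_of_injective hinj, Nat.card_prod, H.index_eq_card]
    congr 1
    simp [Nat.card_eq_fintype_card, Fintype.card_subtype_compl]
  have htot : Nat.card (Cfsg.frobeniusKernel H) +
      Nat.card ((Cfsg.frobeniusKernel H)ᶜ : Set G) = H.index * Nat.card H := by
    rw [H.index_mul_card, ← Nat.card_sum, Nat.card_congr (Equiv.Set.sumCompl _)]
  rw [hcard] at htot
  have h1 : 0 < Nat.card H := Nat.card_pos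
  have h2 : H.index * Nat.card H = H.index + H.index * (Nat.card H - 1) := by
    conv_lhs => rw [show Nat.card H = 1 + (Nat.card H - 1) by omega, mul_add, mul_one]
  omega

/-- Every irreducible character of a Frobenius complement extends to an irreducible character of
the whole group containing the kernel in its kernel. -/
theorem frobenius_extend_character [Finite G] (hH : Cfsg.IsFrobeniusComplement H) {θ : H → ℂ}
    (hθ : Cfsg.IsIrrCharacter H θ) :
    ∃ χ : G → ℂ, Cfsg.IsIrrCharacter G χ ∧ (∀ h : H, χ h = θ h) ∧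
      ∀ x ∈ Cfsg.frobeniusKernel H, χ x = χ 1 := by
  classical
  haveI := Fintype.ofFinite G
  haveI := Fintype.ofFinite H
  by_cases hθ1 : θ = fun _ => 1
  · subst hθ1
    exact ⟨fun _ => 1, isIrrCharacter_one, fun _ => rfl, fun _ _ => rfl⟩
  obtain ⟨d, hd, hdeg⟩ := irr_one_pos hθ
  set one : H → ℂ := fun _ => 1 with hone
  set φ : H → ℂ := θ - (d : ℂ) • one with hφ
  have hφgen : Cfsg.IsGeneralizedCharacter H φ :=
    ⟨θ, (d : ℂ) • one, isCharacter_of_isIrr hθ, isCharacter_natSmul isCharacter_one d, rfl⟩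
  have hφcl : Cfsg.IsClassFunction H φ := isGen_isClassFunction hφgen
  have hφ1 : φ 1 = 0 := by simp [hφ, hone, hdeg]
  have hzero : ∀ x ∈ Cfsg.frobeniusKernel H, Cfsg.indFun H φ x = 0 := by
    intro x hx
    rw [mem_frobeniusKernel_iff] at hx
    rcases hx with rfl | hx
    · rw [indFun_one, hφ1, mul_zero]
    · apply mul_left_cancel₀ (Nat.cast_ne_zero.2 (Nat.card_pos (α := H)).ne' : (Nat.card H : ℂ) ≠ 0)
      rw [CharTheory.IndBasic.card_mul_indFun, mul_zero]
      exact Finset.sum_eq_zero fun y _ =>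
        CharTheory.IndBasic.extendByZero_of_notMem H φ (hx y)
  have hres : ∀ h : H, Cfsg.indFun H φ h = φ h := by
    intro h
    rcases eq_or_ne h 1 with rfl | hne
    · rw [OneMemClass.coe_one, indFun_one, hφ1, mul_zero]
    apply mul_left_cancel₀ (Nat.cast_ne_zero.2 (Nat.card_pos (α := H)).ne' : (Nat.card H : ℂ) ≠ 0)
    rw [CharTheory.IndBasic.card_mul_indFun]
    have hval : ∀ y : G, Cfsg.extendByZero H φ (y⁻¹ * h * y) = if y ∈ H then φ h else 0 := by
      intro y
      by_cases hy : y ∈ H
      · rw [if_pos hy, CharTheory.IndBasic.extendByZero_of_mem H φ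
          (H.mul_mem (H.mul_mem (H.inv_mem hy) h.2) hy)]
        have := hφcl h (⟨y, hy⟩⁻¹ : H)
        rw [inv_inv] at this
        exact this
      · rw [if_neg hy]
        exact CharTheory.IndBasic.extendByZero_of_notMem H φ fun hy' =>
          hy (mem_of_frobenius_meet hH h.2 hy' fun e => hne (Subtype.ext e))
    simp only [hval, Finset.sum_ite, Finset.sum_const, nsmul_eq_mul, mul_zero, add_zero]
    congr 2
    rw [Nat.card_eq_fintype_card, Fintype.card_subtype]
  set χ : G → ℂ := Cfsg.indFun H φ + (d : ℂ) • (fun _ => 1) with hχ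
  have hgen : Cfsg.IsGeneralizedCharacter G χ :=
    isGen_add (isGen_indFun H hφgen) (isGen_of_isCharacter (isCharacter_natSmul isCharacter_one d))
  have hθone : Cfsg.classInner θ one = 0 := classInner_isIrr_ne hθ isIrrCharacter_one hθ1
  have honeone : Cfsg.classInner one one = 1 := classInner_isIrr_self isIrrCharacter_one
  have honeθ : Cfsg.classInner one θ = 0 := by rw [classInner_conj_symm θ one, hθone, map_zero]
  have hφone : Cfsg.classInner φ one = -(d : ℂ) := by
    simp [hφ, classInner_sub_left, classInner_smul_left, hθone, honeone]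
  have hφφ : Cfsg.classInner φ φ = 1 + (d : ℂ) * d := by
    simp [hφ, classInner_sub_left, classInner_sub_right, classInner_smul_left,
      classInner_smul_right, classInner_isIrr_self hθ, honeone, honeθ, hθone]
  have hii : Cfsg.classInner (Cfsg.indFun H φ) (Cfsg.indFun H φ) = 1 + (d : ℂ) * d := by
    rw [frobenius_reciprocity H φ (indFun_isClassFunction H φ), ← hφφ]
    simp only [hres]
  have hi1 : Cfsg.classInner (Cfsg.indFun H φ) (fun _ : G => (1 : ℂ)) = -(d : ℂ) := by
    have hcl1 : Cfsg.IsClassFunction G fun _ => (1 : ℂ) := fun _ _ => rfl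
    rw [frobenius_reciprocity H φ hcl1]
    exact hφone
  have h1i : Cfsg.classInner (fun _ : G => (1 : ℂ)) (Cfsg.indFun H φ) = -(d : ℂ) := by
    rw [classInner_conj_symm (Cfsg.indFun H φ), hi1, map_neg, Complex.conj_natCast]
  have h11 : Cfsg.classInner (fun _ : G => (1 : ℂ)) (fun _ : G => (1 : ℂ)) = 1 :=
    classInner_isIrr_self isIrrCharacter_one
  have hnorm : Cfsg.classInner χ χ = 1 := by
    simp only [hχ, classInner_add_left, classInner_add_right, classInner_smul_left,
      classInner_smul_right, Complex.conj_natCast, hii, hi1, h1i, h11]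
    ring
  have hker : ∀ x ∈ Cfsg.frobeniusKernel H, χ x = (d : ℂ) := fun x hx => by
    simp [hχ, hzero x hx]
  have hχ1 : χ 1 = (d : ℂ) := hker 1 ((mem_frobeniusKernel_iff 1).2 (Or.inl rfl))
  refine ⟨χ, isIrr_of_gen_norm_one hgen hnorm ?_, fun h => ?_,
    fun x hx => (hker x hx).trans hχ1.symm⟩
  · rw [hχ1, Complex.natCast_re]; exact_mod_cast hd
  · rw [hχ, Pi.add_apply, hres, hφ]
    simp [hone]

/-- Frobenius' theorem: the Frobenius kernel is a normal complement. -/
theorem frobenius_kernel_theorem [Finite G] (hH : Cfsg.IsFrobeniusComplement H) :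
    ∃ N : Subgroup G, (N : Set G) = Cfsg.frobeniusKernel H ∧ N.Normal ∧
      Subgroup.IsComplement' N H := by
  classical
  have hext := fun θ : Cfsg.IrrCharacter H => frobenius_extend_character hH θ.2
  choose χ hχirr hχres hχker using hext
  let N : Subgroup G := ⨅ θ : Cfsg.IrrCharacter H, charKernel (χ θ) (isCharacter_of_isIrr (hχirr θ))
  have hNn : N.Normal := Subgroup.normal_iInf_normal fun θ => charKernel_normal _
  have hNset : (N : Set G) = Cfsg.frobeniusKernel H := by
    ext x
    simp only [SetLike.mem_coe, N, Subgroup.mem_iInf, mem_charKernel]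
    refine ⟨fun hx => ?_, fun hx θ => hχker θ x hx⟩
    rw [mem_frobeniusKernel_iff]
    refine or_iff_not_imp_left.2 fun hx1 g hg => hx1 ?_
    have h1 : (⟨_, hg⟩ : H) = 1 := by
      refine eq_one_of_forall_irr fun θ => ?_
      have h2 := char_isClassFunction (isCharacter_of_isIrr (hχirr θ)) x g⁻¹
      rw [inv_inv] at h2
      rw [← hχres θ, ← hχres θ, OneMemClass.coe_one]
      exact h2.trans (hx θ)
    have h3 : g⁻¹ * x * g = 1 := congrArg Subtype.val h1
    simpa [mul_assoc, mul_eq_one_iff_eq_inv] using h3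
  refine ⟨N, hNset, hNn, Subgroup.isComplement'_of_card_mul_and_disjoint ?_ ?_⟩
  · rw [show Nat.card N = Nat.card (Cfsg.frobeniusKernel H) from
      Nat.card_congr (Equiv.setCongr hNset), card_frobeniusKernel hH, H.index_mul_card]
  · rw [Subgroup.disjoint_def]
    intro x hxN hxH
    have : x ∈ Cfsg.frobeniusKernel H := hNset ▸ hxN
    rcases (mem_frobeniusKernel_iff x).1 this with h | h
    · exact h
    · exact absurd (by simpa using hxH) (h 1)

end Cfsg.Agent.Characters
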