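import Mathlib
import Cfsg.Agent.Lib.Characters.Monomial
import Cfsg.Agent.Lib.CharTheory.BrauerInduction

/-!
# Spans of induced linear characters: Artin's and Brauer's induction theorems
-/

set_option linter.style.haveILetI false

namespace Cfsg.Agent.Characters.Artin

open Module
open scoped ComplexConjugate
open CharTheory

universe u

variable {G : Type u} [Group G] [Fintype G]

/-- The `ℤ`-span of characters induced from linear characters of subgroups satisfying `P`. -/
def linSpan (P : Subgroup G → Prop) : AddSubgroup (G → ℂ) :=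
  AddSubgroup.closure {f | ∃ (H : Subgroup G) (lam : H →* ℂˣ), P H ∧
    f = Cfsg.indFun H (fun h => (lam h : ℂ))}

theorem exists_list_of_mem {P : Subgroup G → Prop} {f : G → ℂ} (hf : f ∈ linSpan P) :
    ∃ l : List ((E : Subgroup G) × ((E →* ℂˣ) × ℤ)), (∀ t ∈ l, P t.1) ∧
      f = (l.map fun t => (t.2.2 : ℂ) • Cfsg.indFun t.1 (fun e => (t.2.1 e : ℂ))).sum := by
  induction hf using AddSubgroup.closure_induction with
  | mem f hf =>
    obtain ⟨E, lam, hE, rfl⟩ := hf
    exact ⟨[⟨E, lam, 1⟩], by simp [hE], by simp⟩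
  | zero => exact ⟨[], by simp, by simp⟩
  | add f g _ _ hf hg =>
    obtain ⟨l, hl, rfl⟩ := hf
    obtain ⟨l', hl', rfl⟩ := hg
    exact ⟨l ++ l', fun t ht => (List.mem_append.mp ht).elim (hl t) (hl' t), by simp⟩
  | neg f _ hf =>
    obtain ⟨l, hl, rfl⟩ := hf
    refine ⟨l.map fun t => ⟨t.1, t.2.1, -t.2.2⟩, fun t ht => ?_, ?_⟩
    · obtain ⟨t', ht', rfl⟩ := List.mem_map.mp ht
      exact hl t' ht'
    · rw [List.sum_neg, List.map_map, List.map_map]
      congr 1
      refine List.map_congr_left fun t _ => ?_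
      simp

theorem indFun_gen_mem_of_forall_irr {P : Subgroup G → Prop} (H : Subgroup G)
    (h : ∀ ψ : H → ℂ, Cfsg.IsIrrCharacter H ψ → Cfsg.indFun H ψ ∈ linSpan P) {θ : H → ℂ}
    (hθ : Cfsg.IsGeneralizedCharacter H θ) : Cfsg.indFun H θ ∈ linSpan P := by
  obtain ⟨a, b, ha, hb, rfl⟩ := hθ
  haveI := Fintype.ofFinite (Cfsg.IrrCharacter H)
  have key : ∀ φ : H → ℂ, Cfsg.IsCharacter H φ → Cfsg.indFun H φ ∈ linSpan P := by
    intro φ hφ
    obtain ⟨n, rfl⟩ := char_eq_sum_nat hφ
    rw [BrauerInduction.indFun_sum]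
    refine sum_mem fun ψ _ => ?_
    rw [indFun_smul, Nat.cast_smul_eq_nsmul]
    exact nsmul_mem (h _ ψ.2) _
  rw [indFun_sub]
  exact sub_mem (key a ha) (key b hb)

/-- Induced generalized characters of abelian subgroups lie in the span. -/
theorem indFun_mem_of_comm {P : Subgroup G → Prop} {A : Subgroup G} (hA : P A)
    (hcomm : ∀ a b : A, a * b = b * a) {θ : A → ℂ} (hθ : Cfsg.IsGeneralizedCharacter A θ) :
    Cfsg.indFun A θ ∈ linSpan P :=
  indFun_gen_mem_of_forall_irr A (fun _ hψ => AddSubgroup.subset_closure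
    ⟨A, linearOfDegreeOne (isCharacter_of_isIrr hψ) (irr_degree_one_of_comm hcomm hψ), hA, rfl⟩) hθ

/-! ## Artin -/

open scoped Classical in
/-- Artin's function `|A|` on generators of `A`, zero elsewhere. -/
noncomputable def artinFun (A : Subgroup G) : A → ℂ :=
  fun a => if Subgroup.zpowers (a : G) = A then (Nat.card A : ℂ) else 0

open scoped Classical in
theorem sum_indFun_artinFun (A : Subgroup G) :
    ∀ g : G, Cfsg.indFun A (artinFun A) g =
      ((Finset.univ.filter fun x : G => Subgroup.zpowers (x⁻¹ * g * x) = A).card : ℂ) := by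
  classical
  intro g
  apply mul_left_cancel₀ (Nat.cast_ne_zero.2 (Nat.card_pos (α := A)).ne' : (Nat.card A : ℂ) ≠ 0)
  rw [IndBasic.card_mul_indFun, ← Finset.sum_boole, Finset.mul_sum]
  refine Finset.sum_congr rfl fun x _ => ?_
  by_cases hx : x⁻¹ * g * x ∈ A
  · rw [IndBasic.extendByZero_of_mem A _ hx]
    unfold artinFun
    split_ifs <;> simp
  · rw [IndBasic.extendByZero_of_notMem A _ hx, if_neg fun h => hx ?_, mul_zero]
    exact h ▸ Subgroup.mem_zpowers _

/-- `∑_A Ind (artinFun A)` over all subgroups is the constant `|G|`. -/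
theorem sum_artin [Fintype (Subgroup G)] :
    ∑ A : Subgroup G, Cfsg.indFun A (artinFun A) = fun _ => (Nat.card G : ℂ) := by
  classical
  funext g
  rw [Finset.sum_apply]
  simp only [sum_indFun_artinFun]
  rw [← Nat.cast_sum, Nat.card_eq_fintype_card, ← Finset.card_univ,
    Finset.card_eq_sum_card_fiberwise (f := fun x : G => Subgroup.zpowers (x⁻¹ * g * x))
      (t := (Finset.univ : Finset (Subgroup G))) (fun x _ => Finset.mem_univ _)]

theorem isGen_artinFun (A : Subgroup G) : Cfsg.IsGeneralizedCharacter A (artinFun A) := by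
  classical
  induction A using WellFoundedLT.induction with
  | _ A ih =>
  haveI := Fintype.ofFinite A
  haveI := Fintype.ofFinite (Subgroup A)
  -- Artin's identity inside `A`, with the term of `⊤` isolated
  have hA := sum_artin (G := A)
  rw [← Finset.add_sum_erase _ _ (Finset.mem_univ (⊤ : Subgroup A))] at hA
  have htop : Cfsg.indFun (⊤ : Subgroup A) (artinFun (⊤ : Subgroup A)) = artinFun A := by
    have hz : ∀ a : A, (Subgroup.zpowers a = ⊤) ↔ Subgroup.zpowers (a : G) = A := fun a => by
      rw [← (Subgroup.map_injective A.subtype_injective).eq_iff, MonoidHom.map_zpowers,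
        ← MonoidHom.range_eq_map, A.range_subtype]
      rfl
    have hcl : Cfsg.IsClassFunction A (artinFun A) := fun a b => by
      have : Subgroup.zpowers (b * a * b⁻¹) = ⊤ ↔ Subgroup.zpowers a = ⊤ := by
        rw [show b * a * b⁻¹ = (MulAut.conj b).toMonoidHom a from rfl, ← MonoidHom.map_zpowers]
        conv_lhs => rw [← Subgroup.map_top_of_surjective (MulAut.conj b).toMonoidHom
          (MulAut.conj b).surjective]
        exact (Subgroup.map_injective (MulAut.conj b).injective).eq_iff
      unfold artinFun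
      simp only [← hz, this]
    rw [← Monomial.indFun_top hcl]
    congr 1
    funext x
    simp only [artinFun, Subgroup.card_top, hz]
  rw [htop] at hA
  rw [eq_sub_of_add_eq hA]
  refine isGen_sub (isGen_of_isCharacter ?_) (isGen_sum _ _ fun B hB => isGen_indFun B ?_)
  · rw [show (fun _ : A => (Nat.card A : ℂ)) = (Nat.card A : ℂ) • (fun _ : A => (1 : ℂ)) from
      funext fun _ => by simp]
    exact isCharacter_natSmul isCharacter_one _
  · -- transport from the corresponding proper subgroup of `G`
    have hlt : B.map A.subtype < A := by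
      refine lt_of_le_of_ne (Subgroup.map_subtype_le B) fun h => Finset.ne_of_mem_erase hB ?_
      apply Subgroup.map_injective A.subtype_injective
      rw [h, ← MonoidHom.range_eq_map, A.range_subtype]
    let e : B ≃* B.map A.subtype := Subgroup.equivMapOfInjective B A.subtype A.subtype_injective
    have heq : artinFun B = artinFun (B.map A.subtype) ∘ e.toMonoidHom := by
      funext b
      have hiff : Subgroup.zpowers (b : A) = B ↔
          Subgroup.zpowers ((e b : B.map A.subtype) : G) = B.map A.subtype := by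
        rw [← (Subgroup.map_injective A.subtype_injective).eq_iff, MonoidHom.map_zpowers]
        rfl
      simp only [artinFun, Function.comp_apply, Nat.card_congr e.toEquiv, hiff]
      rfl
    rw [heq]
    exact isGen_comp _ (ih _ hlt)

/-- Artin's induction theorem in integral form. -/
theorem artin_induction {χ : G → ℂ} (hχ : Cfsg.IsCharacter G χ) :
    (Nat.card G : ℂ) • χ ∈ linSpan (fun A : Subgroup G => IsCyclic A) := by
  classical
  haveI := Fintype.ofFinite (Subgroup G)
  rw [show (Nat.card G : ℂ) • χ = (fun _ => (Nat.card G : ℂ)) * χ from rfl, ← sum_artin,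
    Finset.sum_mul]
  refine sum_mem fun A _ => ?_
  by_cases hA : IsCyclic A
  · rw [← BrauerInduction.indFun_mul_classFun A _ (char_isClassFunction hχ)]
    exact indFun_mem_of_comm hA (fun a b => by
        obtain ⟨g, hg⟩ := hA.exists_generator
        obtain ⟨i, rfl⟩ := hg a
        obtain ⟨j, rfl⟩ := hg b
        exact Commute.zpow_zpow_self g i j)
      (isGen_mul (isGen_artinFun A) (isGen_of_isCharacter (isCharacter_restrict A hχ)))
  · have h0 : artinFun A = 0 := funext fun a => if_neg fun h =>
      hA ((MulEquiv.subgroupCongr h).isCyclic.1 inferInstance)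
    rw [h0, indFun_zero, zero_mul]
    exact zero_mem _

/-! ## Brauer -/

/-- Subgroups of elementary groups are elementary. -/
theorem isElementary_subgroup {E : Type u} [Group E] [Finite E] {p : ℕ} (hp : p.Prime)
    (hE : Cfsg.IsElementary p E) (H : Subgroup E) : Cfsg.IsElementary p H := by
  obtain ⟨x, hx, hcop, k, hk⟩ := hE
  obtain ⟨⟨y, hy'⟩, hy⟩ := (Subgroup.isCyclic_of_le
    (inf_le_left : Subgroup.zpowers x ⊓ H ≤ Subgroup.zpowers x)).exists_generator
  have hgen : Subgroup.zpowers y = Subgroup.zpowers x ⊓ H := by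
    refine le_antisymm (Subgroup.zpowers_le.2 hy') fun z hz => ?_
    obtain ⟨i, hi⟩ := hy ⟨z, hz⟩
    exact ⟨i, congrArg Subtype.val hi⟩
  refine ⟨⟨y, hy'.2⟩, ?_, ?_, ?_⟩
  · rw [Subgroup.mem_center_iff]
    intro g
    obtain ⟨i, hi⟩ := hy'.1
    apply Subtype.ext
    show (g : E) * y = y * g
    rw [← hi]
    exact (Subgroup.mem_center_iff.1 (Subgroup.zpow_mem _ hx i)) g
  · rw [Subgroup.orderOf_mk]
    exact hcop.coprime_dvd_left (orderOf_dvd_of_mem_zpowers hy'.1)
  · haveI hn : (Subgroup.zpowers x).Normal := ⟨fun a ha g => by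
      obtain ⟨i, rfl⟩ := ha
      rw [Subgroup.mem_center_iff.1 (Subgroup.zpow_mem _ hx i) g, mul_inv_cancel_right]
      exact ⟨i, rfl⟩⟩
    have hd : (Subgroup.zpowers x).relIndex H ∣ p ^ k :=
      hk ▸ Subgroup.relIndex_dvd_index_of_normal _ _
    obtain ⟨j, -, hj⟩ := (Nat.dvd_prime_pow hp).1 hd
    refine ⟨j, ?_⟩
    rw [← hj, ← Subgroup.inf_relIndex_right, ← hgen, Subgroup.relIndex]
    congr 1
    apply Subgroup.map_injective H.subtype_injective
    rw [MonoidHom.map_zpowers, Subgroup.subgroupOf_map_subtype, inf_eq_left.2]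
    · rfl
    · exact Subgroup.zpowers_le.2 hy'.2

theorem isNilpotent_of_isElementary {E : Type u} [Group E] [Finite E] {p : ℕ} (hp : p.Prime)
    (hE : Cfsg.IsElementary p E) : Group.IsNilpotent E := by
  obtain ⟨x, hx, -, k, hk⟩ := hE
  haveI := Fact.mk hp
  haveI hn : (Subgroup.zpowers x).Normal := ⟨fun a ha g => by
    obtain ⟨i, rfl⟩ := ha
    rw [Subgroup.mem_center_iff.1 (Subgroup.zpow_mem _ hx i) g, mul_inv_cancel_right]
    exact ⟨i, rfl⟩⟩
  have hP : IsPGroup p (E ⧸ Subgroup.zpowers x) :=
    IsPGroup.of_card (n := k) ((Subgroup.index_eq_card _).symm.trans hk)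
  haveI := hP.isNilpotent
  exact isNilpotent_of_ker_le_center (QuotientGroup.mk' (Subgroup.zpowers x))
    (by rw [QuotientGroup.ker_mk']; exact Subgroup.zpowers_le.2 hx)

/-- Brauer's induction theorem with linear characters of elementary subgroups. -/
theorem brauer_induction {χ : G → ℂ} (hχ : Cfsg.IsCharacter G χ) :
    χ ∈ linSpan (fun E : Subgroup G => ∃ p : ℕ, p.Prime ∧ Cfsg.IsElementary p E) := by
  classical
  set S := linSpan (fun E : Subgroup G => ∃ p : ℕ, p.Prime ∧ Cfsg.IsElementary p E)
  let K : AddSubgroup ℤ := S.comap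
    ((AddMonoidHom.mulRight χ).comp ((Pi.constRingHom G ℂ).toAddMonoidHom.comp (Int.castAddHom ℂ)))
  suffices (1 : ℤ) ∈ K by
    have h := this
    simp only [K, AddSubgroup.mem_comap, AddMonoidHom.coe_comp, Function.comp_apply,
      Int.coe_castAddHom, Int.cast_one] at h
    simpa using h
  refine TransferExt.one_mem_of_forall_prime K fun p hp => ?_
  obtain ⟨m, hm, hmem⟩ := BrauerInduction.exists_constant_mem hp G
  refine ⟨m, ?_, hm⟩
  show (fun _ : G => (m : ℂ)) * χ ∈ S
  have key : ∀ f ∈ BrauerInduction.elemSpan p G, f * χ ∈ S := by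
    intro f hf
    induction hf using AddSubgroup.closure_induction with
    | mem f hf =>
      obtain ⟨E, φ, hE, hφ, rfl⟩ := hf
      rw [← BrauerInduction.indFun_mul_classFun E φ (char_isClassFunction hχ)]
      haveI := isNilpotent_of_isElementary hp hE
      haveI := Fintype.ofFinite E
      refine indFun_gen_mem_of_forall_irr E (fun ψ hψ => ?_)
        (isGen_of_isCharacter (isCharacter_mul hφ (isCharacter_restrict E hχ)))
      obtain ⟨H, lam, rfl⟩ := Monomial.monomial_of_nilpotent hψ
      have hH := isElementary_subgroup hp hE H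
      have hH' : H = (H.map E.subtype).subgroupOf E :=
        (Subgroup.comap_map_eq_self_of_injective E.subtype_injective H).symm
      set H' := H.map E.subtype with hH''
      clear_value H'
      subst hH'
      have hle : H' ≤ E := hH''.le.trans (Subgroup.map_subtype_le _)
      refine AddSubgroup.subset_closure ⟨H', lam.comp (Subgroup.subgroupOfEquivOfLe hle).symm.toMonoidHom,
        ⟨p, hp, BrauerInduction.isElementary_of_mulEquiv (Subgroup.subgroupOfEquivOfLe hle) hH⟩, ?_⟩
      rw [← indFun_trans H' E hle]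
      rfl
    | zero => rw [zero_mul]; exact S.zero_mem
    | add f g _ _ hf hg => rw [add_mul]; exact S.add_mem hf hg
    | neg f _ hf => rw [neg_mul]; exact S.neg_mem hf
  exact key _ hmem

end Cfsg.Agent.Characters.Artin
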