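import Mathlib
import Cfsg.Agent.Lib.Characters.Kernel

/-!
# Generalized characters of norm two; the basic coherence lemma
-/

set_option linter.style.haveILetI false

namespace Cfsg.Agent.Characters

open Module
open scoped ComplexConjugate

universe u

variable {G : Type u} [Group G] [Fintype G]

/-- A generalized character of norm two and degree zero is a difference of two irreducibles. -/
theorem isGen_norm_two {θ : G → ℂ} (h : Cfsg.IsGeneralizedCharacter G θ)
    (h2 : Cfsg.classInner θ θ = 2) (h0 : θ 1 = 0) :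
    ∃ α β : Cfsg.IrrCharacter G, α ≠ β ∧ θ = (α : G → ℂ) - (β : G → ℂ) := by
  classical
  haveI := Fintype.ofFinite (Cfsg.IrrCharacter G)
  have hn : ∀ ψ : Cfsg.IrrCharacter G, ∃ z : ℤ, Cfsg.classInner θ (ψ : G → ℂ) = (z : ℂ) :=
    fun ψ => classInner_gen_int h (isGen_of_isCharacter (irr_isCharacter ψ))
  choose n hn using hn
  choose d hdpos hd using fun ψ : Cfsg.IrrCharacter G => irr_one_pos ψ.2
  have hsum : ∑ ψ, n ψ * n ψ = 2 := by
    have := classInner_eq_sum θ (isGen_isClassFunction h)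
    simp only [fun ψ : Cfsg.IrrCharacter G => classInner_conj_symm θ (ψ : G → ℂ), hn,
      map_intCast, h2] at this
    exact_mod_cast this.symm
  have hexp := classFun_eq_sum (isGen_isClassFunction h)
  simp only [hn] at hexp
  have hdeg : ∑ ψ, n ψ * (d ψ : ℤ) = 0 := by
    have := congrFun hexp 1
    simp only [h0, Finset.sum_apply, Pi.smul_apply, smul_eq_mul, hd] at this
    exact_mod_cast this.symm
  -- the support has exactly two elements
  set T := Finset.univ.filter fun ψ => n ψ ≠ 0 with hT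
  have hone : ∀ ψ, n ψ ≠ 0 → n ψ * n ψ = 1 := by
    intro ψ hψ
    have h1 := Finset.single_le_sum (f := fun φ => n φ * n φ) (fun _ _ => mul_self_nonneg _)
      (Finset.mem_univ ψ)
    simp only [hsum] at h1
    have hub : n ψ ≤ 1 := by nlinarith
    have hlb : -1 ≤ n ψ := by nlinarith
    rcases (show n ψ = 1 ∨ n ψ = -1 by omega) with e | e <;> rw [e] <;> norm_num
  have hT2 : T.card = 2 := by
    have : ∑ ψ ∈ T, n ψ * n ψ = 2 := by
      rw [← hsum]
      exact Finset.sum_subset (Finset.subset_univ _) fun ψ _ hψ => by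
        simp only [hT, Finset.mem_filter, Finset.mem_univ, true_and, not_not] at hψ
        simp [hψ]
    rw [Finset.sum_congr rfl (g := fun _ => (1 : ℤ)) fun ψ hψ => hone ψ (Finset.mem_filter.1 hψ).2,
      Finset.sum_const, nsmul_one] at this
    exact_mod_cast this
  obtain ⟨α, β, hab, hTe⟩ := Finset.card_eq_two.1 hT2
  have hz : ∀ ψ, ψ ≠ α → ψ ≠ β → n ψ = 0 := fun ψ h1 h2 => by
    by_contra hne
    have : ψ ∈ T := Finset.mem_filter.2 ⟨Finset.mem_univ _, hne⟩
    rw [hTe, Finset.mem_insert, Finset.mem_singleton] at this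
    exact this.elim h1 h2
  have hθ : θ = (n α : ℂ) • (α : G → ℂ) + (n β : ℂ) • (β : G → ℂ) := by
    conv_lhs => rw [hexp]
    exact Finset.sum_eq_add α β hab (fun ψ _ hψ => by simp [hz ψ hψ.1 hψ.2]) (by simp) (by simp)
  rw [Finset.sum_eq_add α β hab (fun ψ _ hψ => by simp [hz ψ hψ.1 hψ.2]) (by simp) (by simp)] at hdeg
  have hα0 : n α ≠ 0 := (Finset.mem_filter.1 (show α ∈ T by simp [hTe])).2
  have hβ0 : n β ≠ 0 := (Finset.mem_filter.1 (show β ∈ T by simp [hTe])).2
  have hda : (0 : ℤ) < d α := by exact_mod_cast hdpos α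
  have hdb : (0 : ℤ) < d β := by exact_mod_cast hdpos β
  rcases mul_self_eq_one_iff.1 (hone α hα0) with ha | ha <;>
    rcases mul_self_eq_one_iff.1 (hone β hβ0) with hb | hb <;>
    rw [ha, hb] at hdeg hθ
  · linarith
  · exact ⟨α, β, hab, by rw [hθ]; push_cast; module⟩
  · exact ⟨β, α, hab.symm, by rw [hθ]; push_cast; module⟩
  · linarith

/-- Basic coherence: virtual characters of degree zero with the Gram matrix of `μ_i - μ_{i₀}`. -/
theorem exists_coherent_family {n : ℕ} (i₀ : Fin n) (τ : Fin n → (G → ℂ)) (h0 : τ i₀ = 0)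
    (hgen : ∀ i, Cfsg.IsGeneralizedCharacter G (τ i)) (hone : ∀ i, τ i 1 = 0)
    (hgram : ∀ i j, i ≠ i₀ → j ≠ i₀ → Cfsg.classInner (τ i) (τ j) = if i = j then 2 else 1) :
    ∃ ε : ℂ, (ε = 1 ∨ ε = -1) ∧ ∃ μ : Fin n → (G → ℂ), (∀ i, Cfsg.IsIrrCharacter G (μ i)) ∧
      Function.Injective μ ∧ ∀ i, τ i = ε • (μ i - μ i₀) := by
  classical
  have hdec : ∀ i, i ≠ i₀ → ∃ α β : Cfsg.IrrCharacter G, α ≠ β ∧
      τ i = (α : G → ℂ) - (β : G → ℂ) := fun i hi =>
    isGen_norm_two (hgen i) (by rw [hgram i i hi hi, if_pos rfl]) (hone i)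
  haveI : Nonempty (Cfsg.IrrCharacter G) := ⟨trivIrr G⟩
  choose! a b hab hτ using hdec
  have hpair : ∀ i j, i ≠ i₀ → j ≠ i₀ → i ≠ j →
      (a i = a j ∧ b i ≠ b j) ∨ (a i ≠ a j ∧ b i = b j) := by
    intro i j hi hj hij
    have h := hgram i j hi hj
    rw [if_neg hij, hτ i hi, hτ j hj, classInner_sub_left, classInner_sub_right,
      classInner_sub_right] at h
    simp only [classInner_irr] at h
    by_cases h1 : a i = a j <;> by_cases h2 : b i = b j
    · exfalso
      have h' := hgram i j hi hj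
      have he : τ i = τ j := by rw [hτ i hi, hτ j hj, h1, h2]
      rw [if_neg hij, he, hgram j j hj hj, if_pos rfl] at h'
      norm_num at h'
    · exact Or.inl ⟨h1, h2⟩
    · exact Or.inr ⟨h1, h2⟩
    · rw [if_neg h1, if_neg h2] at h
      split_ifs at h <;> norm_num at h
  by_cases hex : ∃ i j, i ≠ i₀ ∧ j ≠ i₀ ∧ i ≠ j ∧ a i = a j
  · obtain ⟨i, j, hi, hj, hij, hA⟩ := hex
    have hBij : b i ≠ b j := by
      rcases hpair i j hi hj hij with ⟨-, h⟩ | ⟨h, -⟩
      exacts [h, absurd hA h]
    have hall : ∀ k, k ≠ i₀ → a k = a i := by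
      intro k hk
      by_cases hki : k = i
      · rw [hki]
      by_cases hkj : k = j
      · rw [hkj, hA]
      rcases hpair k i hk hi hki with ⟨h, -⟩ | ⟨h, hb⟩
      · exact h
      rcases hpair k j hk hj hkj with ⟨h', -⟩ | ⟨-, hb'⟩
      · exact h'.trans hA.symm
      · exact absurd (hb.symm.trans hb') hBij
    refine ⟨-1, Or.inr rfl,
      fun k => if k = i₀ then (a i : G → ℂ) else (b k : G → ℂ), fun k => ?_, ?_, fun k => ?_⟩
    · dsimp only; split_ifs
      exacts [(a i).2, (b k).2]
    · intro k l hkl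
      dsimp only at hkl
      split_ifs at hkl with hk hl hl
      · rw [hk, hl]
      · exact absurd ((hall l hl).trans (Subtype.ext hkl)) (hab l hl)
      · exact absurd ((hall k hk).trans (Subtype.ext hkl).symm) (hab k hk)
      · by_contra hne
        rcases hpair k l hk hl hne with ⟨-, h⟩ | ⟨h, -⟩
        · exact h (Subtype.ext hkl)
        · exact h ((hall k hk).trans (hall l hl).symm)
    · by_cases hk : k = i₀
      · subst hk; simp [h0]
      · simp only [if_neg hk, ↓reduceIte]
        rw [hτ k hk, hall k hk]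
        module
  · push Not at hex
    have hB : ∀ k l, k ≠ i₀ → l ≠ i₀ → b k = b l := fun k l hk hl => by
      by_cases hkl : k = l
      · rw [hkl]
      rcases hpair k l hk hl hkl with ⟨h, -⟩ | ⟨-, h⟩
      · exact absurd h (hex k l hk hl hkl)
      · exact h
    obtain ⟨c, hc, hne⟩ : ∃ c : Cfsg.IrrCharacter G, (∀ k, k ≠ i₀ → b k = c) ∧
        ∀ k, k ≠ i₀ → a k ≠ c := by
      by_cases h : ∃ k, k ≠ i₀
      · obtain ⟨k, hk⟩ := h
        exact ⟨b k, fun l hl => hB l k hl hk, fun l hl => hB k l hk hl ▸ hab l hl⟩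
      · push Not at h
        exact ⟨trivIrr G, fun k hk => absurd (h k) hk, fun k hk => absurd (h k) hk⟩
    refine ⟨1, Or.inl rfl,
      fun k => if k = i₀ then (c : G → ℂ) else (a k : G → ℂ), fun k => ?_, ?_, fun k => ?_⟩
    · dsimp only; split_ifs
      exacts [c.2, (a k).2]
    · intro k l hkl
      dsimp only at hkl
      split_ifs at hkl with hk hl hl
      · rw [hk, hl]
      · exact absurd (Subtype.ext hkl).symm (hne l hl)
      · exact absurd (Subtype.ext hkl) (hne k hk)
      · by_contra hne'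
        exact hex k l hk hl hne' (Subtype.ext hkl)
    · by_cases hk : k = i₀
      · subst hk; simp [h0]
      · simp only [if_neg hk, ↓reduceIte]
        rw [hτ k hk, hc k hk, one_smul]

end Cfsg.Agent.Characters
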