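import Mathlib
import Cfsg.Prelude.Def_Blocks
import Cfsg.Prelude.Def_CharExt
import Cfsg.Agent.Lib.Cores.Residual
import Cfsg.Agent.Lib.CharTheory.ExtendChar
import Cfsg.Agent.Lib.CharTheory.DegreeIndex
import Cfsg.Agent.Lib.CharTheory.Ito
import Cfsg.Agent.S0887

/-!
# Degrees prime to `p` and `O^p(G)` (Thompson)
-/

set_option linter.style.haveILetI false
set_option autoImplicit false

namespace Cfsg.Agent.Characters.ThompsonDegrees

open scoped ComplexConjugate
open CharTheory CharTheory.ExtendChar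

universe u

variable {G : Type u} [Group G] [Finite G]

theorem deg_cast {χ : G → ℂ} (h : Cfsg.IsCharacter G χ) :
    (Cfsg.charDegree χ : ℂ) = χ 1 := by
  obtain ⟨n, hn⟩ := char_one_nat h
  rw [Cfsg.charDegree, hn, Complex.natCast_re, Nat.floor_natCast]

theorem deg_of_eq {χ : G → ℂ} (h : Cfsg.IsCharacter G χ) {d : ℕ} (hd : χ 1 = (d : ℂ)) :
    Cfsg.charDegree χ = d := by
  rw [← Nat.cast_inj (R := ℂ), deg_cast h, hd]

/-- The determinant of a linear character is itself. -/
theorem detChar_linear {χ : G → ℂ} (h : Cfsg.IsCharacter G χ) (h1 : χ 1 = 1) :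
    Cfsg.detChar χ = χ := by
  obtain ⟨n, ρ, rfl⟩ := h
  funext g
  rw [detChar_of_rep]
  rw [ρ.char_one, Module.finrank_fin_fun] at h1
  have hn : n = 1 := by exact_mod_cast h1
  subst hn
  rw [Representation.character, LinearMap.trace_eq_matrix_trace ℂ (Pi.basisFun ℂ (Fin 1)),
    ← LinearMap.det_toMatrix (Pi.basisFun ℂ (Fin 1)), Matrix.det_fin_one, Matrix.trace_fin_one]

/-- Conjugation of the irreducible characters of a normal subgroup. -/
@[reducible] noncomputable def conjAction (K : Subgroup G) [K.Normal] :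
    MulAction G (Cfsg.IrrCharacter K) where
  smul g θ := ⟨Clifford.conjBy K g⁻¹ (θ : K → ℂ), Clifford.isIrrCharacter_conjBy K g⁻¹ θ.2⟩
  one_smul θ := Subtype.ext (show Clifford.conjBy K (1 : G)⁻¹ (θ : K → ℂ) = _ by
    rw [inv_one, Clifford.conjBy_one])
  mul_smul a b θ := Subtype.ext (show Clifford.conjBy K (a * b)⁻¹ (θ : K → ℂ) =
    Clifford.conjBy K a⁻¹ (Clifford.conjBy K b⁻¹ (θ : K → ℂ)) by
    rw [Clifford.conjBy_conjBy, mul_inv_rev])

omit [Finite G] in
/-- Invariant sums modulo `p` live on the fixed points. -/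
theorem sum_eq_sum_fixed {X : Type*} [Fintype X] [MulAction G X] {p : ℕ} (hp : p.Prime)
    (horb : ∀ x : X, ∃ k, Nat.card (MulAction.orbit G x) = p ^ k) (f : X → ZMod p)
    (hf : ∀ (g : G) (x : X), f (g • x) = f x) [DecidablePred fun x : X => ∀ g : G, g • x = x] :
    ∑ x, f x = ∑ x ∈ Finset.univ.filter (fun x : X => ∀ g : G, g • x = x), f x := by
  classical
  rw [← Finset.sum_filter_add_sum_filter_not Finset.univ (fun x : X => ∀ g : G, g • x = x) f,
    add_eq_left]
  set s := Finset.univ.filter (fun x : X => ¬∀ g : G, g • x = x)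
  rw [← Finset.sum_fiberwise s (fun x => (Quotient.mk (MulAction.orbitRel G X) x)) f]
  refine Finset.sum_eq_zero fun q _ => ?_
  induction q using Quotient.inductionOn with
  | h x =>
    by_cases hx : x ∈ s
    swap
    · refine Finset.sum_eq_zero fun y hy => absurd ?_ hx
      obtain ⟨hys, hyq⟩ := Finset.mem_filter.1 hy
      obtain ⟨g, hg⟩ := (MulAction.orbitRel_apply (G := G)).1 (Quotient.exact hyq)
      refine Finset.mem_filter.2 ⟨Finset.mem_univ _, fun hall => ?_⟩
      apply (Finset.mem_filter.1 hys).2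
      have hyx : y = x := hg ▸ hall g
      exact hyx ▸ hall
    have hset : s.filter (fun y => (Quotient.mk (MulAction.orbitRel G X) y) = ⟦x⟧) =
        Finset.univ.filter (fun y => y ∈ MulAction.orbit G x) := by
      ext y
      simp only [Finset.mem_filter, Finset.mem_univ, true_and]
      refine ⟨fun h => MulAction.orbitRel_apply.1 (Quotient.exact h.2), fun h => ⟨?_,
        Quotient.sound (MulAction.orbitRel_apply.2 h)⟩⟩
      obtain ⟨g, rfl⟩ := h
      refine Finset.mem_filter.2 ⟨Finset.mem_univ _, fun hall => ?_⟩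
      apply (Finset.mem_filter.1 hx).2
      intro a
      have h1 : x = g • x := by
        have := hall g⁻¹
        rwa [inv_smul_smul] at this
      rw [h1]
      exact hall a
    rw [hset, Finset.sum_congr rfl (g := fun _ => f x) fun y hy => ?_, Finset.sum_const,
      nsmul_eq_mul]
    · obtain ⟨k, hk⟩ := horb x
      have hk0 : k ≠ 0 := by
        rintro rfl
        apply (Finset.mem_filter.1 hx).2
        intro g
        rw [pow_zero, Nat.card_eq_one_iff_unique] at hk
        exact congrArg Subtype.val (hk.1.elim (⟨g • x, MulAction.mem_orbit x g⟩ :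
          MulAction.orbit G x) ⟨x, MulAction.mem_orbit_self x⟩)
      rw [show (Finset.univ.filter fun y => y ∈ MulAction.orbit G x).card = p ^ k by
        rw [← hk, Nat.card_eq_fintype_card]; exact (Fintype.card_subtype _).symm]
      rw [Nat.cast_pow, ZMod.natCast_self, zero_pow hk0, zero_mul]
    · obtain ⟨g, rfl⟩ := (Finset.mem_filter.1 hy).2
      exact hf g x

section Main

variable {p : ℕ}

/-- Linear characters of `O^p(G)` have order prime to `p`. -/
theorem coprime_orderOf_linear (hp : p.Prime) {lam : Cfsg.pResidual p G → ℂ}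
    (h : Cfsg.IsCharacter (Cfsg.pResidual p G) lam) (h1 : lam 1 = 1) :
    (orderOf lam).Coprime p := by
  obtain ⟨f, hf⟩ := exists_hom h h1
  have hlam : lam = fun k => (f k : ℂ) := funext fun k => (hf k).symm
  have hfin : IsOfFinOrder lam := hlam ▸ isOfFinOrder_linear f
  obtain ⟨a, m, hm, ham⟩ :=
    Nat.exists_eq_pow_mul_and_not_dvd hfin.orderOf_pos.ne' p hp.ne_one
  have hker : ∀ k : Cfsg.pResidual p G, (f k) ^ m = 1 := by
    have hle : Cfsg.pResidual p G ≤
        ((f ^ m).ker.map (Cfsg.pResidual p G).subtype) := by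
      refine (Subgroup.closure_le _).2 fun x hx => ?_
      refine ⟨⟨x, Cores.mem_pResidual_of_coprime hx⟩, ?_, rfl⟩
      rw [SetLike.mem_coe, MonoidHom.mem_ker, MonoidHom.pow_apply]
      set k : Cfsg.pResidual p G := ⟨x, Cores.mem_pResidual_of_coprime hx⟩
      refine eq_one_of_pow_coprime (m := orderOf x) (n := p ^ a) ?_ ?_ ?_
      · rw [← pow_mul, mul_comm, pow_mul, ← map_pow,
          show k ^ orderOf x = 1 from Subtype.ext (pow_orderOf_eq_one x), map_one, one_pow]
      · rw [← pow_mul, mul_comm, ← ham]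
        exact Units.ext (by rw [Units.val_pow_eq_pow_val, hf, linear_pow_orderOf, Units.val_one])
      · exact Nat.Coprime.pow_right a hx
    intro k
    obtain ⟨k', hk', he⟩ := hle k.2
    rw [← Subtype.ext he]
    exact hk'
  have hdvd : orderOf lam ∣ m := orderOf_dvd_of_pow_eq_one (funext fun k => by
    rw [Pi.pow_apply, ← hf, ← Units.val_pow_eq_pow_val, hker, Units.val_one, Pi.one_apply])
  exact ((hp.coprime_iff_not_dvd.2 hm).symm).coprime_dvd_left hdvd

theorem order_congr (hp : p.Prime) [Fintype G] :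
    (Nat.card (Cfsg.pResidual p G) : ZMod p) =
      ∑ χ ∈ (Set.toFinite {χ : Cfsg.IrrCharacter G | ¬ p ∣ Cfsg.charDegree (χ : G → ℂ) ∧
        ¬ p ∣ Cfsg.detOrder (χ : G → ℂ)}).toFinset,
        (Cfsg.charDegree (χ : G → ℂ) : ZMod p) ^ 2 := by
  classical
  haveI := Fact.mk hp
  set K := Cfsg.pResidual p G with hK
  haveI := Fintype.ofFinite K
  haveI := Fintype.ofFinite (Cfsg.IrrCharacter K)
  letI := conjAction K
  obtain ⟨n, hidx⟩ := Cores.pResidual_index (G := G) p
  have hsum : (∑ θ : Cfsg.IrrCharacter K, (Cfsg.charDegree (θ : K → ℂ)) ^ 2) = Nat.card K := by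
    rw [← Nat.cast_inj (R := ℂ), Nat.cast_sum, ← sum_degree_sq]
    exact Finset.sum_congr rfl fun θ _ => by rw [Nat.cast_pow, deg_cast (irr_isCharacter θ)]
  have hstab : ∀ θ : Cfsg.IrrCharacter K, K ≤ MulAction.stabilizer G θ := by
    intro θ k hk
    rw [MulAction.mem_stabilizer_iff]
    refine Subtype.ext (funext fun m => ?_)
    have := irr_isClassFunction θ m (⟨k, hk⟩ : K)⁻¹
    exact (congrArg (θ : K → ℂ) (Subtype.ext (by simp))).trans this
  have horb : ∀ θ : Cfsg.IrrCharacter K, ∃ k, Nat.card (MulAction.orbit G θ) = p ^ k := by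
    intro θ
    have h1 := Subgroup.index_dvd_of_le (hstab θ)
    rw [hidx, Nat.dvd_prime_pow hp] at h1
    obtain ⟨k, -, hk⟩ := h1
    exact ⟨k, by rw [Nat.card_coe_set_eq, ← MulAction.index_stabilizer, hk]⟩
  rw [← hsum, Nat.cast_sum]
  simp only [Nat.cast_pow]
  rw [sum_eq_sum_fixed hp horb _ fun g θ => ?inv]
  case inv =>
    congr 2
    show Cfsg.charDegree (Clifford.conjBy K g⁻¹ (θ : K → ℂ)) = _
    rw [Cfsg.charDegree, Cfsg.charDegree, Clifford.conjBy_at_one]
  rw [← Finset.sum_filter_of_ne (p := fun θ : Cfsg.IrrCharacter K =>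
    ¬ p ∣ Cfsg.charDegree (θ : K → ℂ)) fun θ _ h hd => h (by
      rw [(ZMod.natCast_eq_zero_iff _ p).2 hd, sq, zero_mul])]
  -- restriction
  have hres : ∀ χ : Cfsg.IrrCharacter G, ¬ p ∣ Cfsg.charDegree (χ : G → ℂ) →
      Cfsg.IsIrrCharacter K (fun k : K => (χ : G → ℂ) k) := by
    intro χ hχ
    have hc := isCharacter_restrict K (irr_isCharacter χ)
    obtain ⟨θ, hθ, hne⟩ := Ito.exists_constituent hc (irr_one_ne_zero χ.2)
    obtain ⟨d, hd⟩ := char_one_nat (isCharacter_of_isIrr hθ)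
    obtain ⟨h1, h2⟩ := Cfsg.Agent.S0887.result K (χ : G → ℂ) χ.2 θ hθ hne
      (Cfsg.charDegree (χ : G → ℂ)) d (deg_cast (irr_isCharacter χ)).symm hd
    rw [hidx] at h2
    obtain ⟨e, he⟩ := h1
    obtain ⟨d', hd'pos, hd'⟩ := irr_one_pos hθ
    have hdd : d = d' := by rw [hd] at hd'; exact_mod_cast hd'
    rw [he, Nat.mul_div_cancel_left _ (hdd ▸ hd'pos), Nat.dvd_prime_pow hp] at h2
    obtain ⟨k, -, rfl⟩ := h2
    have hk : k = 0 := by
      by_contra hk
      exact hχ (he ▸ dvd_mul_of_dvd_right (dvd_pow_self p hk) d)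
    obtain ⟨m, hm⟩ := classInner_char_nat hc (isCharacter_of_isIrr hθ)
    have hm0 : m ≠ 0 := by rintro rfl; exact hne (by rw [hm, Nat.cast_zero])
    have h1c : (fun k : K => (χ : G → ℂ) k) 1 = ((Cfsg.charDegree (χ : G → ℂ) : ℕ) : ℂ) :=
      (deg_cast (irr_isCharacter χ)).symm
    have hle := Basics.degree_le hc hθ hm h1c hd
    rw [hk, pow_zero, mul_one] at he
    have hm1 : m = 1 := by
      rw [he] at hle
      have := Nat.le_of_mul_le_mul_right (by rwa [one_mul] : m * d ≤ 1 * d) (hdd ▸ hd'pos)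
      omega
    have := Basics.eq_of_degree_eq hc hθ hm (h1c.trans (by rw [hd, hm1, Nat.cast_one, one_mul, he]))
    rw [hm1, Nat.cast_one, one_smul] at this
    exact this ▸ hθ
  symm
  refine Finset.sum_bij (fun χ hχ => (⟨_, hres χ ((Set.Finite.mem_toFinset _).1 hχ).1⟩ :
    Cfsg.IrrCharacter K)) ?_ ?_ ?_ ?_
  · intro χ hχ
    have hχ' := ((Set.Finite.mem_toFinset _).1 hχ)
    refine Finset.mem_filter.2 ⟨Finset.mem_filter.2 ⟨Finset.mem_univ _, fun g => Subtype.ext ?_⟩, ?_⟩
    · exact Clifford.conjBy_restrict K (irr_isClassFunction χ) g⁻¹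
    · exact hχ'.1
  · intro χ₁ h₁ χ₂ h₂ he
    have h₁' := ((Set.Finite.mem_toFinset _).1 h₁)
    have h₂' := ((Set.Finite.mem_toFinset _).1 h₂)
    have he' : (fun k : K => (χ₁ : G → ℂ) k) = fun k : K => (χ₂ : G → ℂ) k :=
      congrArg Subtype.val he
    have hθ := hres χ₁ h₁'.1
    set θ : K → ℂ := fun k => (χ₁ : G → ℂ) k with hθdef
    have hd : θ 1 = (Cfsg.charDegree (χ₁ : G → ℂ) : ℂ) := (deg_cast (irr_isCharacter χ₁)).symm
    have hcop : K.index.Coprime (Cfsg.charDegree (χ₁ : G → ℂ)) := by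
      rw [hidx]; exact ((hp.coprime_iff_not_dvd.2 h₁'.1)).pow_left n
    obtain ⟨l1, l1'⟩ := detChar_isLinear (irr_isCharacter χ₁)
    obtain ⟨l2, l2'⟩ := detChar_isLinear (irr_isCharacter χ₂)
    have hr1 : ∀ k : K, Cfsg.detChar (χ₁ : G → ℂ) k = Cfsg.detChar θ k := fun k =>
      detChar_restrict K (irr_isCharacter χ₁) (fun _ => rfl) k
    have hr2 : ∀ k : K, Cfsg.detChar (χ₂ : G → ℂ) k = Cfsg.detChar θ k := fun k =>
      detChar_restrict K (irr_isCharacter χ₂) (fun x => (congrFun he' x).symm) k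
    have hdet : Cfsg.detChar (χ₂ : G → ℂ) = Cfsg.detChar (χ₁ : G → ℂ) :=
      linear_extension_unique K l1 l1' l2 l2' (fun k => (hr2 k).trans (hr1 k).symm)
        (by rw [hidx]; exact (hp.coprime_iff_not_dvd.2 h₁'.2).pow_left n)
        (by rw [hidx]; exact (hp.coprime_iff_not_dvd.2 h₂'.2).pow_left n)
    obtain ⟨χ₀, -, huniq⟩ := existsUnique_extension_det K hθ hd hcop χ₁.2 (fun _ => rfl) l1 l1' hr1
    exact Subtype.ext ((huniq _ ⟨χ₁.2, fun _ => rfl, rfl⟩).trans
      (huniq _ ⟨χ₂.2, fun x => (congrFun he' x).symm, hdet⟩).symm)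
  · intro θ hθ
    obtain ⟨hθ1, hθp⟩ := Finset.mem_filter.1 hθ
    have hinv' : ∀ g : G, Clifford.conjBy K g (θ : K → ℂ) = (θ : K → ℂ) := by
      intro g
      have := congrArg Subtype.val ((Finset.mem_filter.1 hθ1).2 g⁻¹)
      change Clifford.conjBy K g⁻¹⁻¹ (θ : K → ℂ) = _ at this
      rwa [inv_inv] at this
    have hd : (θ : K → ℂ) 1 = (Cfsg.charDegree (θ : K → ℂ) : ℂ) :=
      (deg_cast (irr_isCharacter θ)).symm
    have hcop : K.index.Coprime (Cfsg.charDegree (θ : K → ℂ)) := by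
      rw [hidx]; exact (hp.coprime_iff_not_dvd.2 hθp).pow_left n
    have hdl := detChar_isLinear (irr_isCharacter θ)
    have hdinv : ∀ (g : G) (m : K), Cfsg.detChar (θ : K → ℂ)
        ⟨g * m * g⁻¹, Subgroup.Normal.conj_mem inferInstance (m : G) m.2 g⟩ =
          Cfsg.detChar (θ : K → ℂ) m := by
      intro g m
      have h1 := congrFun (detChar_comp (MulAut.conjNormal g : K ≃* K).toMonoidHom
        (irr_isCharacter θ)) m
      rw [← Clifford.conjBy_eq_comp, hinv'] at h1
      exact (h1.trans (congrArg (Cfsg.detChar (θ : K → ℂ)) (Subtype.ext (by simp)))).symm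
    have hord : (orderOf (Cfsg.detChar (θ : K → ℂ))).Coprime p :=
      coprime_orderOf_linear hp hdl.1 hdl.2
    obtain ⟨μ, hμ, hμo⟩ := exists_linear_extension_coprime K hdl hdinv
      (by rw [hidx]; exact hord.symm.pow_left n)
    obtain ⟨η, hη, hηK⟩ := exists_extension_det K θ.2 hinv' hd hcop μ hμ
    obtain ⟨hμc, hμ1⟩ := hom_isLinear μ
    obtain ⟨χ, ⟨hχ, hχK, hχd⟩, -⟩ := existsUnique_extension_det K θ.2 hd hcop hη hηK hμc hμ1 hμ
    have hdeg : Cfsg.charDegree χ = Cfsg.charDegree (θ : K → ℂ) := by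
      refine deg_of_eq (isCharacter_of_isIrr hχ) ?_
      rw [← hd, ← hχK 1]; rfl
    refine ⟨⟨χ, hχ⟩, (Set.Finite.mem_toFinset _).2 ⟨hdeg ▸ hθp, ?_⟩,
      Subtype.ext (funext hχK)⟩
    show ¬ p ∣ orderOf (Cfsg.detChar χ)
    rw [hχd, hμo]
    exact hp.coprime_iff_not_dvd.1 hord.symm
  · intro χ hχ
    rfl

/-- Thompson: if `p` divides every nonlinear degree then `O^p(G)` is a `p'`-group. -/
theorem coprime_card_pResidual (hp : p.Prime) [Fintype G]
    (hdeg : ∀ χ : Cfsg.IrrCharacter G, Cfsg.charDegree (χ : G → ℂ) ≠ 1 →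
      p ∣ Cfsg.charDegree (χ : G → ℂ)) : (Nat.card (Cfsg.pResidual p G)).Coprime p := by
  classical
  refine (hp.coprime_iff_not_dvd.2 fun hd => ?_).symm
  have h := order_congr (G := G) hp
  rw [(ZMod.natCast_eq_zero_iff _ p).2 hd] at h
  have hlin : ∀ χ : Cfsg.IrrCharacter G, ¬ p ∣ Cfsg.charDegree (χ : G → ℂ) →
      Cfsg.charDegree (χ : G → ℂ) = 1 := fun χ hχ => by
    by_contra h1
    exact hχ (hdeg χ h1)
  rw [Finset.sum_congr rfl (g := fun _ => (1 : ZMod p)) fun χ hχ => by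
      rw [hlin χ ((Set.Finite.mem_toFinset _).1 hχ).1, Nat.cast_one, one_pow]] at h
  rw [Finset.sum_const, nsmul_eq_mul, mul_one, eq_comm, ZMod.natCast_eq_zero_iff] at h
  let S : Subgroup (G →* ℂˣ) :=
    { carrier := {f | ∃ m : ℕ, ¬ p ∣ m ∧ f ^ m = 1}
      one_mem' := ⟨1, hp.not_dvd_one, one_pow 1⟩
      mul_mem' := by
        rintro a b ⟨m, hm, ha⟩ ⟨m', hm', hb⟩
        exact ⟨m * m', fun e => (hp.dvd_mul.1 e).elim hm hm',
          MonoidHom.ext fun g => by
            have h1 := DFunLike.congr_fun ha g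
            have h2 := DFunLike.congr_fun hb g
            simp only [MonoidHom.pow_apply, MonoidHom.one_apply, MonoidHom.mul_apply] at h1 h2 ⊢
            rw [mul_pow, pow_mul, h1, mul_comm m, pow_mul, h2, one_pow, one_pow, mul_one]⟩
      inv_mem' := by
        rintro a ⟨m, hm, ha⟩
        exact ⟨m, hm, by rw [inv_pow, ha]; simp⟩ }
  haveI : Finite (G →* ℂˣ) := Finite.of_equiv _ (linearEquiv (G := G))
  have hS : ¬ p ∣ Nat.card S := by
    intro hd'
    haveI := Fact.mk hp
    obtain ⟨f, hf⟩ := exists_prime_orderOf_dvd_card' p hd'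
    obtain ⟨m, hm, hfm⟩ := f.2
    exact hm (hf ▸ orderOf_dvd_of_pow_eq_one (Subtype.ext (by simpa using hfm)))
  apply hS
  refine h.trans (dvd_of_eq ?_)
  rw [← Nat.card_eq_finsetCard]
  refine Nat.card_congr ?_
  refine (Equiv.ofBijective (fun χ =>
    (⟨linearOfDegreeOne (irr_isCharacter χ.1) (by
      rw [← deg_cast (irr_isCharacter χ.1), hlin χ.1 ((Set.Finite.mem_toFinset _).1 χ.2).1,
        Nat.cast_one]), ?_⟩ : S)) ⟨?_, ?_⟩)
  · have hχ := ((Set.Finite.mem_toFinset _).1 χ.2)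
    refine ⟨Cfsg.detOrder (χ.1 : G → ℂ), hχ.2, MonoidHom.ext fun g => Units.ext ?_⟩
    have h1 : (χ.1 : G → ℂ) 1 = 1 := by
      rw [← deg_cast (irr_isCharacter χ.1), hlin χ.1 hχ.1, Nat.cast_one]
    rw [MonoidHom.pow_apply, Units.val_pow_eq_pow_val, linearOfDegreeOne_apply, Cfsg.detOrder,
      detChar_linear (irr_isCharacter χ.1) h1, linear_pow_orderOf, MonoidHom.one_apply,
      Units.val_one]
  · intro a b hab
    refine Subtype.ext (Subtype.ext (funext fun g => ?_))
    have := congrArg (fun f : S => ((f.1 g : ℂˣ) : ℂ)) hab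
    simpa using this
  · rintro ⟨f, m, hm, hfm⟩
    have hfc := hom_isLinear f
    refine ⟨⟨⟨_, isIrrCharacter_linear f⟩, (Set.Finite.mem_toFinset _).2 ⟨?_, ?_⟩⟩,
      Subtype.ext (MonoidHom.ext fun g => Units.ext rfl)⟩
    · show ¬ p ∣ Cfsg.charDegree (fun g => (f g : ℂ))
      rw [deg_of_eq hfc.1 (d := 1) (by simp)]
      exact hp.not_dvd_one
    · show ¬ p ∣ orderOf (Cfsg.detChar (fun g => (f g : ℂ)))
      rw [detChar_linear hfc.1 hfc.2]
      intro hd'
      refine hm (hd'.trans (orderOf_dvd_of_pow_eq_one (funext fun g => ?_)))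
      rw [Pi.pow_apply, ← Units.val_pow_eq_pow_val, ← MonoidHom.pow_apply, hfm]
      rfl

end Main

end Cfsg.Agent.Characters.ThompsonDegrees
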