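import Mathlib
import Cfsg.Agent.Lib.Characters.Artin
import Cfsg.Agent.Lib.Characters.Kernel

/-!
# Brauer's splitting field theorem
-/

set_option linter.style.haveILetI false
set_option autoImplicit false

namespace Cfsg.Agent.Characters.SplittingField

open Module
open scoped ComplexConjugate
open CharTheory

universe u v w

variable {G : Type u} [Group G] {K : IntermediateField ℚ ℂ}

/-- `χ` is the trace function of a representation over `K`. -/
def Real (K : IntermediateField ℚ ℂ) (χ : G → ℂ) : Prop :=
  ∃ (n : ℕ) (τ : Representation K G (Fin n → K)), ∀ g, ((τ.character g : K) : ℂ) = χ g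

theorem real_of_rep {V : Type v} [AddCommGroup V] [Module K V] [FiniteDimensional K V]
    (τ : Representation K G V) : Real K (fun g => ((τ.character g : K) : ℂ)) := by
  set e := (Module.finBasis K V).equivFun
  refine ⟨_, (e.conjAlgEquiv K).toAlgHom.toRingHom.toMonoidHom.comp τ, fun g => ?_⟩
  have φ : τ.Equiv ((e.conjAlgEquiv K).toAlgHom.toRingHom.toMonoidHom.comp τ) :=
    Representation.Equiv.mk e fun g => by ext v; simp [LinearEquiv.conjAlgEquiv]
  rw [← Representation.char_iso φ]

theorem real_zero : Real K (0 : G → ℂ) :=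
  ⟨0, 1, fun g => by simp [Representation.character, LinearMap.trace_eq_matrix_trace K
    (Pi.basisFun K (Fin 0))]⟩

theorem real_add {a b : G → ℂ} (ha : Real K a) (hb : Real K b) : Real K (a + b) := by
  obtain ⟨n, τ, hτ⟩ := ha
  obtain ⟨m, τ', hτ'⟩ := hb
  obtain ⟨k, σ, hσ⟩ := real_of_rep (τ.prod τ')
  refine ⟨k, σ, fun g => ?_⟩
  rw [hσ g, Pi.add_apply, ← hτ g, ← hτ' g]
  exact (congrArg (fun x : K => (x : ℂ)) (LinearMap.trace_prodMap' (τ g) (τ' g))).trans
    (by push_cast; rfl)

theorem real_sum {ι : Type*} (s : Finset ι) (f : ι → G → ℂ) (h : ∀ i ∈ s, Real K (f i)) :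
    Real K (∑ i ∈ s, f i) :=
  Finset.sum_induction f (Real K) (fun _ _ => real_add) real_zero h

theorem real_nsmul {a : G → ℂ} (ha : Real K a) (n : ℕ) : Real K (n • a) := by
  induction n with
  | zero => rw [zero_smul]; exact real_zero
  | succ n ih => rw [succ_nsmul]; exact real_add ih ha

/-- The regular left translation over `K`. -/
noncomputable def transl (g : G) : (G → K) →ₗ[K] (G → K) := LinearMap.funLeft K K fun x => g⁻¹ * x

/-- Linear characters with values in `K` induce to `K`-realizable characters. -/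
theorem real_indFun_linear [Fintype G] (H : Subgroup G) (lam : H →* ℂˣ)
    (hK : ∀ h : H, (lam h : ℂ) ∈ K) : Real K (Cfsg.indFun H (fun h => (lam h : ℂ))) := by
  classical
  haveI := Fintype.ofFinite H
  let l : H → K := fun h => ⟨(lam h : ℂ), hK h⟩
  have hl : ∀ a b, l (a * b) = l a * l b := fun a b => Subtype.ext (by simp [l])
  let P : (G → K) →ₗ[K] (G → K) :=
    (Nat.card H : K)⁻¹ • ∑ h : H, l h • LinearMap.funLeft K K fun x => x * (h : G)
  have hPapp : ∀ f x, P f x = (Nat.card H : K)⁻¹ * ∑ h : H, l h * f (x * (h : G)) := by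
    intro f x
    simp [P, LinearMap.funLeft, LinearMap.sum_apply, Finset.sum_apply]
  have hPP : ∀ f, P (P f) = P f := by
    intro f
    funext x
    rw [hPapp, Finset.sum_congr rfl (g := fun _ => P f x) fun h _ => ?_]
    · rw [Finset.sum_const, Finset.card_univ, nsmul_eq_mul, ← mul_assoc,
        Nat.card_eq_fintype_card, inv_mul_cancel₀ (Nat.cast_ne_zero.2 Fintype.card_ne_zero),
        one_mul]
    · rw [hPapp, hPapp, mul_left_comm, Finset.mul_sum]
      congr 1
      exact Fintype.sum_equiv (Equiv.mulLeft h) _ _ fun h' => by simp [hl, mul_assoc]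
  have hcomm : ∀ (g : G) (f : G → K), transl g (P f) = P (transl g f) := by
    intro g f
    funext x
    simp [transl, hPapp, LinearMap.funLeft, mul_assoc]
  let V := LinearMap.range P
  have hinv : ∀ (g : G), ∀ v ∈ V, transl g v ∈ V := by
    rintro g _ ⟨f, rfl⟩
    exact ⟨transl g f, (hcomm g f).symm⟩
  let τ : Representation K G V :=
    { toFun := fun g => (transl g).restrict (hinv g)
      map_one' := by ext v x; simp [transl, LinearMap.funLeft]
      map_mul' := fun a b => by ext v x; simp [transl, LinearMap.funLeft, mul_assoc] }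
  have htr : ∀ g, τ.character g = LinearMap.trace K _ (transl g ∘ₗ P) := by
    intro g
    let P' : (G → K) →ₗ[K] V := P.rangeRestrict
    have h1 : transl g ∘ₗ P = (V.subtype ∘ₗ τ g) ∘ₗ P' := rfl
    have h2 : P' ∘ₗ (V.subtype ∘ₗ τ g) = τ g := by
      ext v x
      obtain ⟨f, hf⟩ := (τ g v).2
      show ((P ((τ g v : V) : G → K) x : K) : ℂ) = ((((τ g v : V) : G → K) x : K) : ℂ)
      rw [← hf, hPP]
    rw [h1, LinearMap.trace_comp_comm', h2, Representation.character]
  obtain ⟨n, σ, hσ⟩ := real_of_rep τ
  refine ⟨n, σ, fun g => ?_⟩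
  rw [hσ g]
  simp only [htr]
  rw [LinearMap.trace_eq_matrix_trace K (Pi.basisFun K G), Matrix.trace]
  simp only [Matrix.diag, LinearMap.toMatrix_apply, Pi.basisFun_apply, Pi.basisFun_repr,
    LinearMap.comp_apply]
  simp only [transl, LinearMap.funLeft, LinearMap.coe_mk, AddHom.coe_mk, Function.comp_apply,
    hPapp]
  rw [← Finset.mul_sum]
  push_cast
  rw [Cfsg.indFun]
  congr 1
  refine Finset.sum_congr rfl fun x _ => ?_
  by_cases hx : x⁻¹ * g * x ∈ H
  · rw [IndBasic.extendByZero_of_mem H _ hx, Finset.sum_eq_single ⟨_, hx⟩]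
    · simp [l, Pi.single_apply, mul_assoc]
    · intro h _ hne
      rw [Pi.single_apply, if_neg, ZeroMemClass.coe_zero, mul_zero]
      intro e
      exact hne (Subtype.ext (by
        have := congrArg (fun y => x⁻¹ * g * y) e
        simpa [mul_assoc] using this))
    · simp
  · rw [IndBasic.extendByZero_of_notMem H _ hx]
    refine Finset.sum_eq_zero fun h _ => ?_
    rw [Pi.single_apply, if_neg, ZeroMemClass.coe_zero, mul_zero]
    intro e
    apply hx
    have : x⁻¹ * g * x = (h : G) := by
      have := congrArg (fun y => x⁻¹ * g * y) e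
      simpa [mul_assoc] using this.symm
    exact this ▸ h.2

/-- The complexification of a matrix representation over `K`. -/
noncomputable def cRep {n : ℕ} (τ : Representation K G (Fin n → K)) :
    Representation ℂ G (Fin n → ℂ) :=
  (Matrix.toLinAlgEquiv' (R := ℂ) (n := Fin n)).toAlgHom.toRingHom.toMonoidHom.comp
    ((algebraMap K ℂ).mapMatrix.toMonoidHom.comp
      ((LinearMap.toMatrixAlgEquiv' (R := K) (n := Fin n)).toAlgHom.toRingHom.toMonoidHom.comp τ))

theorem cRep_toMatrix {n : ℕ} (τ : Representation K G (Fin n → K)) (g : G) :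
    LinearMap.toMatrix' (cRep τ g) = (LinearMap.toMatrix' (τ g)).map (algebraMap K ℂ) := by
  simp [cRep, Matrix.toLinAlgEquiv', LinearMap.toMatrixAlgEquiv']

theorem cRep_character {n : ℕ} (τ : Representation K G (Fin n → K)) (g : G) :
    (cRep τ).character g = ((τ.character g : K) : ℂ) := by
  rw [Representation.character, LinearMap.trace_eq_matrix_trace ℂ (Pi.basisFun ℂ (Fin n)),
    Representation.character, LinearMap.trace_eq_matrix_trace K (Pi.basisFun K (Fin n)),
    LinearMap.toMatrix_eq_toMatrix', LinearMap.toMatrix_eq_toMatrix', cRep_toMatrix]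
  exact (AddMonoidHom.map_trace (algebraMap K ℂ).toAddMonoidHom _).symm

theorem real_isCharacter {a : G → ℂ} (ha : Real K a) : Cfsg.IsCharacter G a := by
  obtain ⟨n, τ, hτ⟩ := ha
  exact ⟨n, cRep τ, funext fun g => (cRep_character τ g).trans (hτ g)⟩

variable [Fintype G]

/-- An irreducible `K`-representation containing `χ` has a multiple of `χ` as character. -/
theorem irreducible_char_eq {χ : G → ℂ} (hχ : Cfsg.IsIrrCharacter G χ) (hχK : ∀ g, χ g ∈ K)
    {n : ℕ} (τ : Representation K G (Fin n → K)) [τ.IsIrreducible]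
    (hc : Cfsg.classInner (cRep τ).character χ ≠ 0) :
    (cRep τ).character = Cfsg.classInner (cRep τ).character χ • χ := by
  classical
  have hχc := isCharacter_of_isIrr hχ
  let f : G → K := fun g => ⟨χ g⁻¹, hχK g⁻¹⟩
  let fC : G → ℂ := fun g => χ g⁻¹
  have hfC : Cfsg.IsClassFunction G fC := fun g h => by
    show χ (h * g * h⁻¹)⁻¹ = χ g⁻¹
    rw [← char_isClassFunction hχc g⁻¹ h]; simp [mul_assoc]
  let P : (Fin n → K) →ₗ[K] (Fin n → K) := ∑ g, f g • τ g
  have hPcomm : ∀ h v, P (τ h v) = τ h (P v) := by
    intro h v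
    simp only [P, LinearMap.sum_apply, LinearMap.smul_apply, map_sum, map_smul]
    refine (Fintype.sum_equiv (MulAut.conj h).toEquiv _ _ fun g => ?_).symm
    have hfg : f (h * g * h⁻¹) = f g := Subtype.ext (hfC g h)
    simp only [MulEquiv.toEquiv_eq_coe, MulEquiv.coe_toEquiv, MulAut.conj_apply, hfg]
    rw [← Module.End.mul_apply, ← Module.End.mul_apply, ← map_mul, ← map_mul]
    simp [mul_assoc]
  have htrP : ((LinearMap.trace K _ P : K) : ℂ) =
      (Nat.card G : ℂ) * Cfsg.classInner (cRep τ).character χ := by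
    rw [classInner_def, ← mul_assoc, mul_inv_cancel₀ natCard_ne_zero, one_mul]
    simp only [P, map_sum, map_smul, smul_eq_mul]
    push_cast
    refine Finset.sum_congr rfl fun g _ => ?_
    rw [cRep_character, ← char_inv hχc, mul_comm]
    rfl
  have hinj : LinearMap.ker P = ⊥ := by
    rcases eq_bot_or_eq_top (⟨LinearMap.ker P, fun h v hv => by
        rw [LinearMap.mem_ker] at hv ⊢; rw [hPcomm, hv, map_zero]⟩ : Subrepresentation τ) with
      h | h
    · exact congrArg Subrepresentation.toSubmodule h
    · exfalso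
      have h0 : P = 0 := LinearMap.ker_eq_top.1 (congrArg Subrepresentation.toSubmodule h)
      rw [h0, map_zero, ZeroMemClass.coe_zero] at htrP
      exact mul_ne_zero natCard_ne_zero hc htrP.symm
  let PC : (Fin n → ℂ) →ₗ[ℂ] (Fin n → ℂ) := ∑ g, fC g • cRep τ g
  have hPC : LinearMap.toMatrix' PC = (LinearMap.toMatrix' P).map (algebraMap K ℂ) := by
    ext i j
    simp only [PC, P, map_sum, map_smul, cRep_toMatrix, Matrix.map_apply, Matrix.sum_apply,
      Matrix.smul_apply, smul_eq_mul]
    simp only [map_mul]
    rfl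
  have hPCinj : LinearMap.ker PC = ⊥ := by
    have hdet : LinearMap.det P ≠ 0 := fun h0 =>
      (LinearMap.bot_lt_ker_of_det_eq_zero h0).ne' hinj
    by_contra hk
    apply hdet
    have : LinearMap.det PC = 0 := by
      by_contra hd
      exact hk (LinearMap.ker_eq_bot_of_injective
        ((Module.End.isUnit_iff _).1 ((LinearMap.isUnit_iff_isUnit_det _).2
          (isUnit_iff_ne_zero.2 hd))).1)
    rw [← LinearMap.det_toMatrix', hPC] at this
    rw [← LinearMap.det_toMatrix']
    exact (algebraMap K ℂ).injective (by rw [RingHom.map_det, map_zero]; exact this)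
  have hψ : Cfsg.IsCharacter G (cRep τ).character := isCharacter_character _
  refine classFun_ext (char_isClassFunction hψ) (fun g h => by
    simp [char_isClassFunction hχc g h]) fun χ' hχ' => ?_
  rw [classInner_smul_left]
  by_cases heq : χ = χ'
  · rw [← heq, classInner_isIrr_self hχ, mul_one]
  rw [classInner_isIrr_ne hχ hχ' heq, mul_zero]
  obtain ⟨m, σ, hσ, rfl⟩ := hχ'
  rw [classInner_character, Nat.cast_eq_zero]
  haveI : Subsingleton (Representation.IntertwiningMap σ (cRep τ)) := by
    refine ⟨fun a b => ?_⟩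
    suffices hz : ∀ a : Representation.IntertwiningMap σ (cRep τ), a = 0 by rw [hz a, hz b]
    intro a
    obtain ⟨s, hs⟩ := schur_scalar σ (∑ g, fC g • σ g) (sum_smul_comm σ hfC)
    have hs0 : s = 0 := by
      have h1 := congrArg (LinearMap.trace ℂ _) hs
      rw [trace_sum_smul, map_smul, LinearMap.trace_id, smul_eq_mul] at h1
      have h2 : ∑ g, fC g * σ.character g = 0 := by
        have h3 := classInner_isIrr_ne (isIrrCharacter_character σ) hχ (Ne.symm heq)
        rw [classInner_def, mul_eq_zero, inv_eq_zero] at h3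
        rw [← h3.resolve_left natCard_ne_zero]
        exact Finset.sum_congr rfl fun g _ => by rw [← char_inv hχc, mul_comm]
      rw [h2] at h1
      exact (mul_eq_zero.1 h1.symm).resolve_right
        (Nat.cast_ne_zero.2 (finrank_pos_of_isIrreducible σ).ne')
    refine DFunLike.ext _ _ fun v => ?_
    have hav : PC (a v) = a ((∑ g, fC g • σ g) v) := by
      simp only [PC, LinearMap.sum_apply, LinearMap.smul_apply, map_sum, map_smul]
      exact Finset.sum_congr rfl fun g _ => by rw [← a.isIntertwining _ _ g v]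
    rw [hs, hs0, zero_smul, LinearMap.zero_apply, map_zero] at hav
    exact LinearMap.ker_eq_bot'.1 hPCinj _ hav
  exact finrank_zero_of_subsingleton

/-- Multiplicities of `χ` in `K`-representations lie in the group generated by those in the
irreducible ones. -/
theorem classInner_mem_of_irreducible (χ : G → ℂ) (S : AddSubgroup ℂ)
    (h : ∀ (n : ℕ) (τ : Representation K G (Fin n → K)), τ.IsIrreducible →
      Cfsg.classInner (cRep τ).character χ ∈ S) :
    ∀ (n : ℕ) (τ : Representation K G (Fin n → K)),
      Cfsg.classInner (cRep τ).character χ ∈ S := by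
  intro n
  induction' n using Nat.strong_induction_on with n ih
  intro τ
  by_cases hirr : τ.IsIrreducible
  · exact h n τ hirr
  rcases Nat.eq_zero_or_pos n with rfl | hn
  · have : (cRep τ).character = 0 := by
      funext g
      simp [Representation.character, LinearMap.trace_eq_matrix_trace ℂ (Pi.basisFun ℂ (Fin 0))]
    rw [this, classInner_zero_left]
    exact zero_mem _
  have hnt : Nontrivial (Subrepresentation τ) := by
    haveI : Nonempty (Fin n) := ⟨⟨0, hn⟩⟩
    exact ⟨⟨⊥, ⊤, fun e => bot_ne_top (α := Submodule K (Fin n → K))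
      (congrArg Subrepresentation.toSubmodule e)⟩⟩
  obtain ⟨U, hU0, hU1⟩ : ∃ U : Subrepresentation τ, U ≠ ⊥ ∧ U ≠ ⊤ := by
    by_contra hall
    push Not at hall
    exact hirr ⟨fun U => or_iff_not_imp_left.2 (hall U)⟩
  haveI : NeZero (Nat.card G : K) := ⟨Nat.cast_ne_zero.2 Nat.card_pos.ne'⟩
  obtain ⟨C, hC⟩ := exists_isCompl U
  have hcompl : IsCompl U.toSubmodule C.toSubmodule :=
    ⟨disjoint_iff.2 (congrArg Subrepresentation.toSubmodule hC.inf_eq_bot),
      codisjoint_iff.2 (congrArg Subrepresentation.toSubmodule hC.sup_eq_top)⟩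
  have hadd : ∀ g, τ.character g =
      U.toRepresentation.character g + C.toRepresentation.character g := by
    intro g
    have φ : (U.toRepresentation.prod C.toRepresentation).Equiv τ :=
      Representation.Equiv.mk (U.toSubmodule.prodEquivOfIsCompl C.toSubmodule hcompl) fun g => by
        ext v <;> simp [Representation.prod, Subrepresentation.toRepresentation]
    rw [← Representation.char_iso φ]
    exact LinearMap.trace_prodMap' _ _
  have hC1 : C ≠ ⊤ := fun e => hU0 (by simpa [e] using hC.inf_eq_bot)
  have key : ∀ W : Subrepresentation τ, W ≠ ⊤ →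
      Cfsg.classInner (fun g => ((W.toRepresentation.character g : K) : ℂ)) χ ∈ S := by
    intro W hW
    obtain ⟨k, σ, hσ⟩ := real_of_rep W.toRepresentation
    have hk : k < n := by
      have hk1 : (k : K) = (finrank K W.toSubmodule : K) := by
        have := hσ 1
        simp only [Representation.char_one] at this
        rw [Module.finrank_fin_fun] at this
        exact_mod_cast this
      rw [Nat.cast_inj] at hk1
      have hlt := Submodule.finrank_lt (s := W.toSubmodule)
        fun e => hW (Subrepresentation.toSubmodule_injective e)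
      rw [Module.finrank_fin_fun] at hlt
      omega
    have := ih k hk σ
    rwa [show (cRep σ).character = fun g => ((W.toRepresentation.character g : K) : ℂ) from
      funext fun g => (cRep_character σ g).trans (hσ g)] at this
  have hsum : (cRep τ).character = (fun g => ((U.toRepresentation.character g : K) : ℂ)) +
      fun g => ((C.toRepresentation.character g : K) : ℂ) := by
    funext g
    rw [cRep_character, hadd, Pi.add_apply]
    push_cast
    rfl
  rw [hsum, classInner_add_left]
  exact add_mem (key U hU1) (key C hC1)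

/-- An irreducible character that is a difference of realizable ones is realizable. -/
theorem real_of_diff {χ a b : G → ℂ} (hχ : Cfsg.IsIrrCharacter G χ) (hχK : ∀ g, χ g ∈ K)
    (ha : Real K a) (hb : Real K b) (hab : χ = a - b) : Real K χ := by
  classical
  obtain ⟨n, τa, hτa⟩ := ha
  obtain ⟨m, τb, hτb⟩ := hb
  have ha' : (cRep τa).character = a := funext fun g => (cRep_character τa g).trans (hτa g)
  have hb' : (cRep τb).character = b := funext fun g => (cRep_character τb g).trans (hτb g)
  have hone : (1 : ℂ) = Cfsg.classInner (cRep τa).character χ -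
      Cfsg.classInner (cRep τb).character χ := by
    rw [ha', hb', ← classInner_sub_left, ← hab, classInner_isIrr_self hχ]
  by_cases hex : ∃ (k : ℕ) (τ : Representation K G (Fin k → K)), τ.IsIrreducible ∧
      Cfsg.classInner (cRep τ).character χ ≠ 0
  swap
  · push Not at hex
    have h := classInner_mem_of_irreducible χ ⊥ fun k τ hτ =>
      AddSubgroup.mem_bot.2 (hex k τ hτ)
    rw [AddSubgroup.mem_bot.1 (h n τa), AddSubgroup.mem_bot.1 (h m τb), sub_zero] at hone
    exact absurd hone one_ne_zero
  obtain ⟨k, τ, hτ, hc⟩ := hex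
  set c := Cfsg.classInner (cRep τ).character χ with hcdef
  have hψ := irreducible_char_eq hχ hχK τ hc
  obtain ⟨cn, hcn⟩ := classInner_char_nat (isCharacter_character (cRep τ))
    (isCharacter_of_isIrr hχ)
  have hgen : ∀ (k' : ℕ) (τ' : Representation K G (Fin k' → K)), τ'.IsIrreducible →
      Cfsg.classInner (cRep τ').character χ ∈ AddSubgroup.zmultiples c := by
    intro k' τ' hτ'
    by_cases hc' : Cfsg.classInner (cRep τ').character χ = 0
    · rw [hc']; exact zero_mem _
    have hψ' := irreducible_char_eq hχ hχK τ' hc'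
    haveI : Invertible (Nat.card G : K) :=
      invertibleOfNonzero (Nat.cast_ne_zero.2 Nat.card_pos.ne')
    have hhom := congrArg (fun x : K => (x : ℂ))
      (Representation.card_inv_mul_sum_char_mul_char_eq_finrank τ τ')
    push_cast at hhom
    simp only [← cRep_character] at hhom
    have hne : (finrank K (Representation.IntertwiningMap τ τ') : ℂ) ≠ 0 := by
      rw [← hhom, hψ, hψ']
      have h1 : (Nat.card G : ℂ)⁻¹ * ∑ g, χ g * χ g⁻¹ = 1 := by
        have := classInner_isIrr_self hχ
        rw [classInner_def] at this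
        simpa [char_inv (isCharacter_of_isIrr hχ)] using this
      simp only [Pi.smul_apply, smul_eq_mul]
      rw [Finset.sum_congr rfl fun g _ => mul_mul_mul_comm _ (χ g) _ (χ g⁻¹), ← Finset.mul_sum,
        mul_left_comm, h1, mul_one]
      exact mul_ne_zero hc' hc
    haveI : Nontrivial (Representation.IntertwiningMap τ τ') :=
      Module.nontrivial_of_finrank_pos (R := K)
        (Nat.pos_of_ne_zero fun e => hne (by rw [e, Nat.cast_zero]))
    obtain ⟨f, hf⟩ := exists_ne (0 : Representation.IntertwiningMap τ τ')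
    have hbij := (Representation.IsIrreducible.bijective_or_eq_zero f).resolve_right hf
    have heq : (cRep τ).character = (cRep τ').character := funext fun g => by
      rw [cRep_character, cRep_character,
        Representation.char_iso (f.ofBijective hbij)]
    rw [← heq]
    exact AddSubgroup.mem_zmultiples c
  obtain ⟨za, hza⟩ :=
    AddSubgroup.mem_zmultiples_iff.1 (classInner_mem_of_irreducible χ _ hgen n τa)
  obtain ⟨zb, hzb⟩ :=
    AddSubgroup.mem_zmultiples_iff.1 (classInner_mem_of_irreducible χ _ hgen m τb)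
  have hc1 : cn = 1 := by
    rw [← hza, ← hzb, ← sub_smul, hcdef, hcn, zsmul_eq_mul] at hone
    have hz : (1 : ℤ) = (za - zb) * cn := by exact_mod_cast hone
    have := Int.eq_one_of_dvd_one (Int.natCast_nonneg cn) ⟨za - zb, by rw [hz, mul_comm]⟩
    exact_mod_cast this
  refine ⟨k, τ, fun g => ?_⟩
  rw [← cRep_character, hψ, hcn, hc1, Nat.cast_one, one_smul]

/-- The main statement. -/
theorem real_of_isCharacter {m : ℕ} (hm : ∀ g : G, g ^ m = 1) (hm0 : m ≠ 0) {ζ : ℂ}
    (hζ : IsPrimitiveRoot ζ m) {χ : G → ℂ} (hχ : Cfsg.IsCharacter G χ) :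
    Real (IntermediateField.adjoin ℚ {ζ}) χ := by
  classical
  haveI : NeZero m := ⟨hm0⟩
  set K := IntermediateField.adjoin ℚ ({ζ} : Set ℂ) with hK
  have hroot : ∀ z : ℂ, z ^ m = 1 → z ∈ K := by
    intro z hz
    obtain ⟨i, -, rfl⟩ := hζ.eq_pow_of_pow_eq_one hz
    exact pow_mem (IntermediateField.mem_adjoin_simple_self ℚ ζ) i
  have hval : ∀ {ψ : G → ℂ}, Cfsg.IsCharacter G ψ → ∀ g, ψ g ∈ K := by
    rintro ψ ⟨n, ρ, rfl⟩ g
    obtain ⟨w, hw, hwk⟩ := exists_rootsOfUnity_sum ρ g
    have h1 := hwk 1
    simp only [pow_one] at h1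
    rw [h1]
    refine sum_mem fun i _ => hroot _ ?_
    obtain ⟨d, hd⟩ := orderOf_dvd_of_pow_eq_one (hm g)
    rw [hd, pow_mul, hw, one_pow]
  have hdiff : ∀ f ∈ Artin.linSpan (G := G)
      (fun E : Subgroup G => ∃ p : ℕ, p.Prime ∧ Cfsg.IsElementary p E),
      ∃ a b, Real K a ∧ Real K b ∧ f = a - b := by
    intro f hf
    induction hf using AddSubgroup.closure_induction with
    | mem f hf =>
      obtain ⟨H, lam, -, rfl⟩ := hf
      refine ⟨_, 0, real_indFun_linear H lam fun h => hroot _ ?_, real_zero, (sub_zero _).symm⟩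
      have : h ^ m = 1 := Subtype.ext (by simpa using hm (h : G))
      rw [← Units.val_pow_eq_pow_val, ← map_pow, this, map_one, Units.val_one]
    | zero => exact ⟨0, 0, real_zero, real_zero, (sub_zero _).symm⟩
    | add f g _ _ hf hg =>
      obtain ⟨a, b, ha, hb, rfl⟩ := hf
      obtain ⟨a', b', ha', hb', rfl⟩ := hg
      exact ⟨a + a', b + b', real_add ha ha', real_add hb hb', by abel⟩
    | neg f _ hf =>
      obtain ⟨a, b, ha, hb, rfl⟩ := hf
      exact ⟨b, a, hb, ha, neg_sub _ _⟩
  haveI := Fintype.ofFinite (Cfsg.IrrCharacter G)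
  obtain ⟨n, rfl⟩ := char_eq_sum_nat hχ
  refine real_sum _ _ fun ψ _ => ?_
  obtain ⟨a, b, ha, hb, hab⟩ := hdiff _ (Artin.brauer_induction (irr_isCharacter ψ))
  rw [Nat.cast_smul_eq_nsmul]
  exact real_nsmul (real_of_diff ψ.2 (hval (irr_isCharacter ψ)) ha hb hab) _

end Cfsg.Agent.Characters.SplittingField
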