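import Mathlib
import Cfsg.Agent.Lib.Characters.Normal

/-!
# Frobenius groups `K H` given by fixed point free action: centralizers, classes
-/

set_option linter.style.haveILetI false

namespace Cfsg.Agent.Characters.FrobeniusGroup

open Module
open scoped ComplexConjugate

universe u

variable {G : Type u} [Group G] {K H : Subgroup G} [hKn : K.Normal]

theorem eq_of_mul_eq (hKH : K ⊓ H = ⊥) {k k' h h' : G} (hk : k ∈ K) (hk' : k' ∈ K) (hh : h ∈ H)
    (hh' : h' ∈ H) (e : k * h = k' * h') : k = k' ∧ h = h' := by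
  have h1 : k'⁻¹ * k = h' * h⁻¹ := by
    rw [eq_mul_inv_iff_mul_eq, mul_assoc, e, inv_mul_cancel_left]
  have h2 : k'⁻¹ * k ∈ K ⊓ H :=
    ⟨K.mul_mem (K.inv_mem hk') hk, by rw [h1]; exact H.mul_mem hh' (H.inv_mem hh)⟩
  rw [hKH, Subgroup.mem_bot, inv_mul_eq_one] at h2
  subst h2
  exact ⟨rfl, mul_left_cancel e⟩

theorem exists_mul (hKH' : K ⊔ H = ⊤) (x : G) : ∃ k ∈ K, ∃ h ∈ H, x = k * h := by
  obtain ⟨k, hk, h, hh, e⟩ := Subgroup.mem_sup_of_normal_left.1 (hKH' ▸ Subgroup.mem_top x)
  exact ⟨k, hk, h, hh, e.symm⟩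

variable (hKH : K ⊓ H = ⊥) (hKH' : K ⊔ H = ⊤)
  (hfpf : ∀ h ∈ H, h ≠ 1 → ∀ k ∈ K, h * k = k * h → k = 1)

include hKH hfpf in
theorem conj_injective {k k' h h' : G} (hk : k ∈ K) (hk' : k' ∈ K) (hh : h ∈ H) (hh' : h' ∈ H)
    (hh1 : h ≠ 1) (e : k * h * k⁻¹ = k' * h' * k'⁻¹) : k = k' ∧ h = h' := by
  have e1 : (k * (h * k⁻¹ * h⁻¹)) * h = (k' * (h' * k'⁻¹ * h'⁻¹)) * h' := by
    simpa [mul_assoc] using e
  obtain ⟨-, hhh⟩ := eq_of_mul_eq hKH (K.mul_mem hk (hKn.conj_mem _ (K.inv_mem hk) h))
    (K.mul_mem hk' (hKn.conj_mem _ (K.inv_mem hk') h')) hh hh' e1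
  subst hhh
  refine ⟨?_, rfl⟩
  have h3 : k'⁻¹ * k = 1 := hfpf h hh hh1 _ (K.mul_mem (K.inv_mem hk') hk) (by
    have := congrArg (fun z => k'⁻¹ * z * k) e
    simp [mul_assoc] at this
    simp [mul_assoc, this])
  exact (inv_mul_eq_one.1 h3).symm

include hKH hKH' hfpf in
/-- Every element outside the kernel is conjugate by `K` into `H`. -/
theorem exists_conj_of_notMem [Finite G] {g : G} (hg : g ∉ K) :
    ∃ k ∈ K, ∃ h ∈ H, h ≠ 1 ∧ g = k * h * k⁻¹ := by
  classical
  let f : K × {h : H // h ≠ 1} → {g : G // g ∉ K} := fun p =>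
    ⟨(p.1 : G) * (p.2.1 : G) * (p.1 : G)⁻¹, fun hm => p.2.2 (by
      have h1 : ((p.2.1 : H) : G) ∈ K := by
        have := hKn.conj_mem _ hm (p.1 : G)⁻¹
        simpa [mul_assoc] using this
      have h2 : ((p.2.1 : H) : G) ∈ K ⊓ H := ⟨h1, p.2.1.2⟩
      rw [hKH, Subgroup.mem_bot] at h2
      exact Subtype.ext h2)⟩
  have hinj : Function.Injective f := by
    rintro ⟨k, h, hh⟩ ⟨k', h', hh'⟩ e
    obtain ⟨e1, e2⟩ := conj_injective hKH hfpf k.2 k'.2 h.2 h'.2
      (fun e => hh (Subtype.ext e)) (congrArg Subtype.val e)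
    obtain rfl := Subtype.ext e1
    obtain rfl := Subtype.ext e2
    rfl
  have hcard : Nat.card {g : G // g ∉ K} = Nat.card K * (Nat.card H - 1) := by
    haveI := Fintype.ofFinite G
    rw [Nat.card_eq_fintype_card, Fintype.card_subtype_compl, ← Nat.card_eq_fintype_card,
      ← Nat.card_eq_fintype_card]
    have hc : Nat.card G = Nat.card K * Nat.card H := by
      rw [← Nat.card_prod]
      refine (Nat.card_congr (Equiv.ofBijective (fun p : K × H => (p.1 : G) * p.2) ⟨?_, ?_⟩)).symm
      · rintro ⟨a, b⟩ ⟨a', b'⟩ e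
        obtain ⟨e1, e2⟩ := eq_of_mul_eq hKH a.2 a'.2 b.2 b'.2 e
        exact Prod.ext (Subtype.ext e1) (Subtype.ext e2)
      · intro x
        obtain ⟨k, hk, h, hh, rfl⟩ := exists_mul hKH' x
        exact ⟨(⟨k, hk⟩, ⟨h, hh⟩), rfl⟩
    rw [hc, Nat.mul_sub, mul_one]
  have hdom : Nat.card (K × {h : H // h ≠ 1}) = Nat.card {g : G // g ∉ K} := by
    haveI := Fintype.ofFinite H
    rw [hcard, Nat.card_prod]
    congr 1
    simp [Nat.card_eq_fintype_card, Fintype.card_subtype_compl]
  have hbij := (Nat.bijective_iff_injective_and_card f).2 ⟨hinj, hdom⟩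
  obtain ⟨⟨k, h⟩, e⟩ := hbij.2 ⟨g, hg⟩
  exact ⟨k, k.2, h.1, h.1.2, fun e1 => h.2 (Subtype.ext e1), (congrArg Subtype.val e).symm⟩

include hKH hKH' hfpf in
/-- The centralizer of a nontrivial element of the kernel lies in the kernel. -/
theorem centralizer_le [Finite G] {k : G} (hk : k ∈ K) (hk1 : k ≠ 1) :
    Subgroup.centralizer ({k} : Set G) ≤ K := by
  intro g hg
  by_contra hgK
  obtain ⟨c, hc, h, hh, hh1, rfl⟩ := exists_conj_of_notMem hKH hKH' hfpf hgK
  rw [Subgroup.mem_centralizer_singleton_iff] at hg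
  have hk' : c⁻¹ * k * c ∈ K := K.mul_mem (K.mul_mem (K.inv_mem hc) hk) hc
  have h2 : c⁻¹ * k * c = 1 := hfpf h hh hh1 _ hk' (by
    have := congrArg (fun z => c⁻¹ * z * c) hg
    simpa [mul_assoc] using this)
  refine hk1 ?_
  have h4 := congrArg (fun z => c * z * c⁻¹) h2
  simpa [mul_assoc] using h4

include hKH hKH' hfpf in
theorem centralizer_conj [Finite G] {k h : G} (hh : h ∈ H) (hh1 : h ≠ 1) :
    Nat.card (Subgroup.centralizer ({k * h * k⁻¹} : Set G)) =
      Nat.card (Subgroup.centralizer ({(⟨h, hh⟩ : H)} : Set H)) := by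
  have e1 : Nat.card (Subgroup.centralizer ({k * h * k⁻¹} : Set G)) =
      Nat.card (Subgroup.centralizer ({h} : Set G)) := by
    refine (Nat.card_congr ((MulAut.conj k).toEquiv.subtypeEquiv fun x => ?_)).symm
    simp only [Subgroup.mem_centralizer_singleton_iff, MulEquiv.toEquiv_eq_coe,
      MulEquiv.coe_toEquiv, MulAut.conj_apply]
    simp [mul_assoc]
    simp only [← mul_assoc, mul_left_inj]
  rw [e1]
  have hle : ∀ x : G, x ∈ Subgroup.centralizer ({h} : Set G) → x ∈ H := by
    intro x hx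
    obtain ⟨k', hk', y, hy, rfl⟩ := exists_mul hKH' x
    rw [Subgroup.mem_centralizer_singleton_iff] at hx
    have hne : y * h * y⁻¹ ≠ 1 := fun e => hh1 (conj_eq_one_iff.1 e)
    have e : k' * (y * h * y⁻¹) * k'⁻¹ = 1 * h * 1⁻¹ := by
      rw [inv_one, mul_one, one_mul, show k' * (y * h * y⁻¹) * k'⁻¹ = k' * y * h * (k' * y)⁻¹ by group,
        hx, mul_inv_cancel_right]
    obtain ⟨h1, -⟩ := conj_injective hKH hfpf hk' K.one_mem
      (H.mul_mem (H.mul_mem hy hh) (H.inv_mem hy)) hh hne e
    rw [h1, one_mul]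
    exact hy
  refine Nat.card_congr
    { toFun := fun x => ⟨⟨x.1, hle x.1 x.2⟩, ?_⟩
      invFun := fun x => ⟨x.1.1, ?_⟩
      left_inv := fun _ => rfl
      right_inv := fun _ => rfl }
  · exact Subgroup.mem_centralizer_singleton_iff.2
      (Subtype.ext (Subgroup.mem_centralizer_singleton_iff.1 x.2))
  · exact Subgroup.mem_centralizer_singleton_iff.2
      (congrArg Subtype.val (Subgroup.mem_centralizer_singleton_iff.1 x.2))

include hKH hKH' hfpf in
/-- The class-number formula of a Frobenius group. -/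
theorem card_conjClasses [Finite G] :
    Nat.card H * Nat.card (ConjClasses G) + 1 =
      Nat.card H * Nat.card (ConjClasses H) + Nat.card (ConjClasses K) := by
  classical
  haveI := Fintype.ofFinite G
  haveI := Fintype.ofFinite K
  haveI := Fintype.ofFinite H
  have key : ∀ (L : Type u) [Group L] [Fintype L],
      ∑ g : L, (Nat.card (Subgroup.centralizer ({g} : Set L)) : ℂ) =
        (Nat.card L : ℂ) * (Nat.card (ConjClasses L) : ℂ) := fun L _ _ => by
    have h := sum_card_centralizer (G := L) (fun _ => True)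
    simp only [if_true] at h
    rw [h, Nat.card_congr (Equiv.subtypeUnivEquiv fun _ => trivial)]
  have hc1 : ∀ (L : Type u) [Group L] [Fintype L],
      Nat.card (Subgroup.centralizer ({(1 : L)} : Set L)) = Nat.card L := fun L _ _ => by
    rw [show Subgroup.centralizer ({(1 : L)} : Set L) = ⊤ from by
      ext x; simp [Subgroup.mem_centralizer_singleton_iff], Subgroup.card_top]
  -- the part inside `K`
  have hin : ∑ g ∈ Finset.univ.filter (· ∈ K), (Nat.card (Subgroup.centralizer ({g} : Set G)) : ℂ) =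
      (Nat.card G : ℂ) - Nat.card K + (Nat.card K : ℂ) * Nat.card (ConjClasses K) := by
    rw [← key K, Finset.sum_subtype _ (p := (· ∈ K)) (fun x => by simp),
      ← Finset.add_sum_erase _ _ (Finset.mem_univ (1 : K)),
      ← Finset.add_sum_erase Finset.univ
        (fun g : K => (Nat.card (Subgroup.centralizer ({g} : Set K)) : ℂ)) (Finset.mem_univ (1 : K))]
    simp only [OneMemClass.coe_one, hc1]
    rw [Finset.sum_congr rfl (g := fun g : K =>
      (Nat.card (Subgroup.centralizer ({g} : Set K)) : ℂ)) fun g hg => ?_]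
    · ring
    have hg1 : (g : G) ≠ 1 := fun e => Finset.ne_of_mem_erase hg (Subtype.ext e)
    congr 1
    exact Nat.card_congr
      { toFun := fun x => ⟨⟨x.1, centralizer_le hKH hKH' hfpf g.2 hg1 x.2⟩,
          Subgroup.mem_centralizer_singleton_iff.2
            (Subtype.ext (Subgroup.mem_centralizer_singleton_iff.1 x.2))⟩
        invFun := fun x => ⟨x.1.1, Subgroup.mem_centralizer_singleton_iff.2
            (congrArg Subtype.val (Subgroup.mem_centralizer_singleton_iff.1 x.2))⟩
        left_inv := fun _ => rfl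
        right_inv := fun _ => rfl }
  -- the part outside `K`
  have hout : ∑ g ∈ Finset.univ.filter (fun g : G => g ∉ K),
      (Nat.card (Subgroup.centralizer ({g} : Set G)) : ℂ) =
      (Nat.card K : ℂ) * ((Nat.card H : ℂ) * Nat.card (ConjClasses H) - Nat.card H) := by
    rw [← key H, ← Finset.add_sum_erase _ _ (Finset.mem_univ (1 : H)), hc1, add_sub_cancel_left,
      Nat.card_eq_fintype_card (α := K), ← Finset.card_univ, ← nsmul_eq_mul, ← Finset.sum_const,
      ← Finset.sum_product']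
    refine (Finset.sum_bij (fun p _ => (p.1 : G) * (p.2 : G) * (p.1 : G)⁻¹) ?_ ?_ ?_ ?_).symm
    · intro p hp
      refine Finset.mem_filter.2 ⟨Finset.mem_univ _, fun hm => ?_⟩
      have h1 : ((p.2 : H) : G) ∈ K := by
        have := hKn.conj_mem _ hm (p.1 : G)⁻¹
        simpa [mul_assoc] using this
      have h2 : ((p.2 : H) : G) ∈ K ⊓ H := ⟨h1, p.2.2⟩
      rw [hKH, Subgroup.mem_bot] at h2
      exact (Finset.mem_erase.1 (Finset.mem_product.1 hp).2).1 (Subtype.ext h2)
    · intro p hp q hq e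
      obtain ⟨e1, e2⟩ := conj_injective hKH hfpf p.1.2 q.1.2 p.2.2 q.2.2
        (fun e => (Finset.mem_erase.1 (Finset.mem_product.1 hp).2).1 (Subtype.ext e)) e
      exact Prod.ext (Subtype.ext e1) (Subtype.ext e2)
    · intro g hg
      obtain ⟨k, hk, h, hh, hh1, rfl⟩ :=
        exists_conj_of_notMem hKH hKH' hfpf (Finset.mem_filter.1 hg).2
      exact ⟨(⟨k, hk⟩, ⟨h, hh⟩), Finset.mem_product.2 ⟨Finset.mem_univ _,
        Finset.mem_erase.2 ⟨fun e => hh1 (congrArg Subtype.val e), Finset.mem_univ _⟩⟩, rfl⟩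
    · intro p hp
      rw [centralizer_conj hKH hKH' hfpf p.2.2
        (fun e => (Finset.mem_erase.1 (Finset.mem_product.1 hp).2).1 (Subtype.ext e))]
  have htot := key G
  rw [← Finset.sum_filter_add_sum_filter_not Finset.univ (· ∈ K), hin, hout] at htot
  have hG : (Nat.card G : ℂ) = (Nat.card K : ℂ) * Nat.card H := by
    have hcompl : Subgroup.IsComplement' K H :=
      Subgroup.isComplement'_of_disjoint_and_mul_eq_univ (disjoint_iff.2 hKH)
        (by rw [← Subgroup.normal_mul, hKH', Subgroup.coe_top])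
    exact_mod_cast hcompl.card_mul.symm
  rw [hG] at htot
  have hK0 : (Nat.card K : ℂ) ≠ 0 := natCard_ne_zero
  have h2 : (Nat.card H : ℂ) * Nat.card (ConjClasses G) + 1 =
      (Nat.card H : ℂ) * Nat.card (ConjClasses H) + Nat.card (ConjClasses K) :=
    mul_left_cancel₀ hK0 (by linear_combination -htot)
  exact_mod_cast h2

include hKH hKH' hfpf in
/-- Inducing a nontrivial irreducible character of the kernel gives an irreducible character. -/
theorem isIrr_indFun [Fintype G] {τ : K → ℂ} (hτ : Cfsg.IsIrrCharacter K τ)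
    (hτ1 : τ ≠ fun _ => 1) : Cfsg.IsIrrCharacter G (Cfsg.indFun K τ) := by
  classical
  haveI := Fintype.ofFinite K
  haveI := Fintype.ofFinite (Cfsg.IrrCharacter K)
  refine isIrr_of_isCharacter_of_norm_one (isCharacter_indFun K (isCharacter_of_isIrr hτ)) ?_
  apply mul_left_cancel₀ (natCard_ne_zero (G := K))
  rw [mul_one, card_mul_classInner_indFun K hτ]
  congr 1
  refine Nat.card_congr (Equiv.subtypeEquivRight fun g => ?_)
  constructor
  · intro hfix
    by_contra hgK
    refine hτ1 ?_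
    -- conjugation by `g` fixes only the trivial class
    set α := conjAut K g
    have hone : ∀ k : K, IsConj (α k) k → k = 1 := by
      intro k hk
      obtain ⟨y, hy⟩ := isConj_iff.1 hk
      by_contra hk1
      have hy' : (y : G) * (g * k * g⁻¹) * (y : G)⁻¹ = k := congrArg Subtype.val hy
      have hmem : (y : G) * g ∈ Subgroup.centralizer ({(k : G)} : Set G) := by
        rw [Subgroup.mem_centralizer_singleton_iff]
        calc (y : G) * g * k = ((y : G) * (g * k * g⁻¹) * (y : G)⁻¹) * ((y : G) * g) := by group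
          _ = _ := by rw [hy']
      have h3 := centralizer_le hKH hKH' hfpf k.2 (fun e => hk1 (Subtype.ext e)) hmem
      exact hgK (by simpa using K.mul_mem (K.inv_mem y.2) h3)
    have hsum : ∑ χ : Cfsg.IrrCharacter K, Cfsg.classInner (irrAutEquiv α χ : K → ℂ) (χ : K → ℂ) = 1 := by
      simp only [classInner_def]
      rw [← Finset.mul_sum, Finset.sum_comm, inv_mul_eq_one₀ natCard_ne_zero,
        Finset.sum_eq_single (1 : K)]
      · rw [show (∑ χ : Cfsg.IrrCharacter K, (irrAutEquiv α χ : K → ℂ) 1 * conj ((χ : K → ℂ) 1)) =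
            ∑ χ : Cfsg.IrrCharacter K, (χ : K → ℂ) 1 * conj ((χ : K → ℂ) 1) from
            Finset.sum_congr rfl fun χ _ => by simp [irrAutEquiv],
          second_orthogonality, if_pos (IsConj.refl _),
          show Subgroup.centralizer ({(1 : K)} : Set K) = ⊤ from by
            ext x; simp [Subgroup.mem_centralizer_singleton_iff], Subgroup.card_top]
      · intro k _ hk
        simp only [irrAutEquiv, Equiv.coe_fn_mk, Function.comp_apply]
        rw [second_orthogonality, if_neg fun h => hk (hone k h)]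
      · simp
    by_contra hne
    simp only [classInner_irr] at hsum
    rw [Finset.sum_boole] at hsum
    have h2 : 2 ≤ (Finset.univ.filter fun χ : Cfsg.IrrCharacter K =>
        irrAutEquiv α χ = χ).card := by
      refine Finset.one_lt_card.2 ⟨⟨τ, hτ⟩, ?_, trivIrr K, ?_, fun e => hne (congrArg Subtype.val e)⟩
      · exact Finset.mem_filter.2 ⟨Finset.mem_univ _, Subtype.ext hfix⟩
      · exact Finset.mem_filter.2 ⟨Finset.mem_univ _, Subtype.ext rfl⟩
    rw [Nat.cast_eq_one] at hsum
    omega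
  · intro hgK
    funext n
    exact char_isClassFunction (isCharacter_of_isIrr hτ) n ⟨g, hgK⟩

end Cfsg.Agent.Characters.FrobeniusGroup
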